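/-
The sixteen root classes of F₄ under the exceptional symmetry and the checks on them: the root
system of the large Ree groups.
-/
import Cfsg.Agent.Lib.Twisted.Iso.DataF4
import Cfsg.Agent.Lib.RootBN.Table

set_option autoImplicit false

namespace Cfsg.Agent.Twisted.F4

open Cfsg.Lie Chev BNSetup
open Cfsg.Agent.RootBN (evWord)

/-- The roots of F₄. -/
abbrev Rt : Type := Fin chevF4.nroots

/-- The nodes of F₄. -/
abbrev Nd : Type := Fin chevF4.rank

/-- The class of a root. -/
def orb (r : Rt) : Fin 16 :=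
  Fin.ofNat 16 (([0, 1, 2, 0, 3, 4, 0, 1, 2, 3, 5, 4, 1, 4, 6, 5, 1, 7, 0, 7, 7, 4, 7, 6, 8, 9, 10, 9,
    9, 11, 9, 12, 13, 8, 10, 12, 10, 13, 14, 15, 12, 11, 10, 14, 11, 15, 12, 11] : List ℕ).getD r.val 0)

/-- A root in each class. -/
def rep (o : Fin 16) : Rt :=
  ⟨([18, 16, 8, 9, 21, 15, 23, 22, 24, 25, 26, 29, 31, 32, 38, 39] : List ℕ).getD o.val 0, by
    revert o; decide⟩

/-- The two simple classes as words. -/
def J : Fin 2 → List Nd :=
  ![[⟨0, by decide⟩, ⟨3, by decide⟩],
    [⟨1, by decide⟩, ⟨2, by decide⟩, ⟨1, by decide⟩, ⟨2, by decide⟩]]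

/-- The two simple classes. -/
def simp' : Fin 2 → Fin 16 := ![8, 9]

/-- The reflections of the classes. -/
def reflTab : Fin 2 → Fin 16 → Fin 16 :=
  ![![1, 0, 2, 5, 7, 3, 8, 4, 6, 10, 9, 12, 11, 14, 13, 15],
    ![0, 4, 3, 2, 1, 6, 5, 9, 13, 7, 12, 11, 10, 8, 15, 14]]

theorem reflTab_invol : ∀ j o, reflTab j (reflTab j o) = o := by decide

/-- A class as image of a simple one. -/
def reachW : Fin 16 → List (Fin 2) × Fin 2 :=
  ![([0, 1, 0, 1], 1), ([1, 0, 1], 1), ([1, 0, 1, 0], 0), ([0, 1, 0], 0), ([0, 1], 1), ([1, 0], 0),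
    ([0], 0), ([1], 1), ([], 0), ([], 1), ([0], 1), ([0, 1, 0], 1), ([1, 0], 1), ([1], 0), ([0, 1], 0),
    ([1, 0, 1], 0)]

/-- A reversed word for the longest element, without its first letter. -/
def cov : Fin 2 → List (Fin 2) := ![[1, 0, 1, 0, 1, 0, 1], [0, 1, 0, 1, 0, 1, 0]]

/-- The graph symmetry of the nodes. -/
def flip (i : Nd) : Nd := i.rev

/-- A word in the classes as a word in the nodes. -/
def flatJ (l : List (Fin 2)) : List Nd := l.flatMap J

/-- The word of a reflection. -/
def reflW (o : Fin 16) : List (Fin 2) := (reachW o).1 ++ (reachW o).2 :: (reachW o).1.reverse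

/-- The action of a word on the roots, computed on the tables. -/
def ev (l : List Nd) (r : Rt) : ℕ := evWord WeylTab.tabsF4 (l.map Fin.val) r.val

/-- The simple roots. -/
def sr (k : Nd) : Rt := ⟨chevF4.simple k.val, by revert k; decide +kernel⟩

/-- The negative of a root. -/
def opp (r : Rt) : Rt := ⟨chevF4.neg r.val, Chev.F4.good.neg_lt r.2⟩

theorem orb_rep : ∀ o, orb (rep o) = o := by decide +kernel

theorem pos_orb : ∀ r : Rt, 24 ≤ r.val ↔ 24 ≤ (rep (orb r)).val := by decide +kernel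

theorem opp_orb : ∀ r : Rt, orb (opp r) = orb (opp (rep (orb r))) := by decide +kernel

theorem refl_orb_check : ∀ (j : Fin 2) (r : Rt), ∃ s : Rt, s.val = ev (J j) r ∧
    orb s = reflTab j (orb r) ∧ (24 ≤ r.val → orb r ≠ simp' j → 24 ≤ s.val) := by decide +kernel

theorem J_check : ∀ (j : Fin 2), ∀ k ∈ J j,
    orb (sr k) = simp' j ∧ ev (J j) (sr k) = (opp (sr k)).val := by decide +kernel

theorem J_sq_check : ∀ (j : Fin 2) (k : Nd), ev (J j ++ J j) (sr k) = (sr k).val := by decide +kernel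

theorem reach_check : ∀ o, (reachW o).1.foldr (fun i x => reflTab i x) (simp' (reachW o).2) = o := by
  decide +kernel

theorem reach_refl_check : ∀ (i : Fin 2) (o : Fin 16) (k : Nd),
    ev (flatJ (i :: (reflW o ++ [i]))) (sr k) = ev (flatJ (reflW (reflTab i o))) (sr k) := by
  decide +kernel

theorem flip_check : ∀ k : Nd, Iso.certF4.br (chevF4.simple k.val) = chevF4.simple (flip k).val := by
  decide +kernel

theorem J_flip_check : ∀ (j : Fin 2) (k : Nd),
    ev ((J j).map flip) (sr k) = ev (J j) (sr k) := by decide +kernel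

theorem br_neg : ∀ r : Rt, Iso.certF4.br (chevF4.neg r.val) = chevF4.neg (Iso.certF4.br r.val) := by
  decide +kernel

theorem orb_br : ∀ r : Rt, ∀ h : Iso.certF4.br r.val < chevF4.nroots,
    orb ⟨Iso.certF4.br r.val, h⟩ = orb r := by decide +kernel

/-- The images of the classes under a reversed word, in order of the factors. -/
def rootsOf : List (Fin 2) → List (Fin 16)
  | [] => []
  | j :: R => (rootsOf R).map (reflTab j) ++ [simp' j]

/-- Whether a reversed word is reduced. -/
def red : List (Fin 2) → Bool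
  | [] => true
  | j :: R => red R && !((rootsOf R).contains (simp' j))

theorem cover_check : ∀ j : Fin 2, red (j :: cov j) = true ∧
    ∀ r : Rt, 24 ≤ r.val → ev (flatJ (j :: cov j).reverse) r < 24 := by decide +kernel

/-- The radical of a simple class is normalised: the commutator terms stay outside the class. -/
theorem rad_check : ∀ (j : Fin 2) (r : Rt), orb r = simp' j → ∀ s : Rt, 24 ≤ s.val → orb s ≠ simp' j →
    s.val ≠ r.val ∧ s.val ≠ chevF4.neg r.val ∧
    ∀ x ∈ chevF4.commTerms r.val s.val, 24 ≤ x.1 ∧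
      ∀ h : x.1 < chevF4.nroots, orb ⟨x.1, h⟩ ≠ simp' j := by decide +kernel

end Cfsg.Agent.Twisted.F4
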