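/-
The exceptional endomorphism of F₄(K), |K| = 2^(2m+1), as a twist of the root-subgroup setup.
-/
import Cfsg.Agent.Lib.Twisted.F4.Tables
import Cfsg.Agent.Lib.Twisted.OrbitTwist.GroupData
import Cfsg.Agent.Lib.Twisted.OrbitTwist.Data

set_option autoImplicit false

namespace Cfsg.Agent.Twisted.F4

open Cfsg.Lie Chev BNSetup Matrix
open Cfsg.Agent.RootBN (OTwist evWord)

/-- The tabulated datum is good. -/
theorem good : Good chevF4 := Chev.F4.good

/-- The facts about the tables. -/
theorem facts : Facts chevF4 WeylTab.tabsF4 WeylTab.simpsF4 := facts_chevF4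

/-- The Chevalley group. -/
abbrev G (F : Type*) [Field F] : Type _ := ↥(chevF4.group F)

variable {F : Type*} [Field F]

/-- The setup inside the group. -/
abbrev gd (F : Type*) [Field F] : RootBN.Data (G F) Rt Nd := gdata good F

theorem ax : (gd F).Axioms := gdata_axioms good facts

/-- The root element. -/
def xg (r : Rt) (t : F) : G F := ⟨xe good r.val t, xe_mem_group good r.2 t⟩

theorem coe_xg (r : Rt) (t : F) : ((xg r t : G F) : GL chevF4.Idx F) = xe good r.val t := rfl

theorem mem_X_iff {r : Rt} {y : G F} : y ∈ (gd F).X r ↔ ∃ t, y = xg r t :=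
  ⟨fun h => by
    obtain ⟨t, ht⟩ := (mem_rootSubgroup good r.2).1 h
    exact ⟨t, Subtype.ext ht⟩,
  fun ⟨t, h⟩ => (mem_rootSubgroup good r.2).2 ⟨t, congrArg Subtype.val h⟩⟩

theorem xg_mem (r : Rt) (t : F) : xg r t ∈ (gd F).X r := mem_X_iff.2 ⟨t, rfl⟩

theorem xg_add (r : Rt) (s t : F) : xg r s * xg r t = xg r (s + t) :=
  Subtype.ext (xe_add good r.2 s t)

theorem xg_ne {r s : Rt} (h : r ≠ s) {t : F} (ht : t ≠ 0) (u : F) : xg r t ≠ xg s u := fun e =>
  xe_ne good facts r.2 s.2 (fun h' => h (Fin.ext h')) ht u (congrArg Subtype.val e)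

theorem wl_ev (l : List Nd) (r : Rt) : ((gd F).wl l r).val = ev l r :=
  (RootBN.Data.evWord_eq (D := data good F)
    (fun i s => ((facts.2.2.2.2.1 i.val i.2).2.2.2.1 s.val s.2).1) l r).symm

theorem wl_eq_of_ev {l l' : List Nd} (h : ∀ k, ev l (sr k) = ev l' (sr k)) :
    (gd F).wl l = (gd F).wl l' :=
  RootBN.Data.wl_ext (ax (F := F)) fun k => Fin.ext (by
    show ((gd F).wl l (sr k)).val = ((gd F).wl l' (sr k)).val
    rw [wl_ev, wl_ev, h])

variable [CharP F 2]

theorem nw_eq_of_ev {l l' : List Nd} (h : ∀ k, ev l (sr k) = ev l' (sr k)) :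
    (gd F).nw l = (gd F).nw l' :=
  gdata_nw_eq good facts (wl_eq_of_ev h)

theorem br_lt (r : Rt) : Iso.certF4.br r.val < chevF4.nroots := Iso.br_lt Iso.validF4 r.2

/-- The symmetry of the roots. -/
def rho (r : Rt) : Rt := ⟨Iso.certF4.br r.val, br_lt r⟩

/-- The exceptional endomorphism. -/
noncomputable def theta (F : Type*) [Field F] [CharP F 2] (m : ℕ) : G F →* G F :=
  Iso.endo Iso.setupF4 m

theorem theta_xg (m : ℕ) (r : Rt) (t : F) :
    theta F m (xg r t) = xg (rho r) (t ^ Iso.certF4.lam 2 m r.val) :=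
  Iso.endo_xg Iso.setupF4 m r.2 t

theorem theta_ne (m : ℕ) (r : Rt) :
    theta F m ⟨ne' good r.val 1, ne'_mem_group good r.2 1⟩ =
      ⟨ne' good (rho r).val 1, ne'_mem_group good (rho r).2 1⟩ := by
  have e : ∀ r : Rt, (⟨ne' good r.val (1 : F), ne'_mem_group good r.2 1⟩ : G F) =
      xg r 1 * xg (opp r) 1 * xg r 1 := fun r => Subtype.ext (by
    simp only [Subgroup.coe_mul, coe_xg, ne', inv_one, CharTwo.neg_eq]
    rfl)
  rw [e, e, map_mul, map_mul, theta_xg, theta_xg, one_pow, one_pow,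
    show rho (opp r) = opp (rho r) from Fin.ext (br_neg r)]

theorem theta_nn (m : ℕ) (k : Nd) : theta F m ((gd F).nn k) = (gd F).nn (flip k) := by
  show theta F m ⟨ne' good (sr k).val 1, ne'_mem_group good (sr k).2 1⟩ = _
  rw [theta_ne]
  exact Subtype.ext (congrArg (fun r => ne' good r (1 : F)) (flip_check k))

theorem theta_nw (m : ℕ) (l : List Nd) : theta F m ((gd F).nw l) = (gd F).nw (l.map flip) := by
  induction l with
  | nil => simp
  | cons i l ih => rw [RootBN.Data.nw_cons, map_mul, theta_nn, ih, List.map_cons, RootBN.Data.nw_cons]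

theorem theta_nw_J (m : ℕ) (j : Fin 2) : theta F m ((gd F).nw (J j)) = (gd F).nw (J j) := by
  rw [theta_nw]
  exact nw_eq_of_ev (J_flip_check j)

variable [Fintype F] {m : ℕ}

theorem lam_lam (r : Rt) :
    Iso.certF4.lam 2 m r.val * Iso.certF4.lam 2 m (Iso.certF4.br r.val) = 2 ^ (2 * m + 1) := by
  have h := Iso.validF4.root r.val r.2
  simp only [Iso.Cert.chkRoot, Bool.and_eq_true] at h
  have h2 := h.1.2
  simp only [Iso.Cert.lam]
  cases hs : Iso.certF4.isShort r.val <;> cases hs' : Iso.certF4.isShort (Iso.certF4.br r.val) <;>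
    simp [hs, hs'] at h2 ⊢ <;> rw [← pow_add] <;> congr 1 <;> omega

variable (hK : Fintype.card F = 2 ^ (2 * m + 1))
include hK

omit [CharP F 2] in
theorem pow_q (x : F) : x ^ 2 ^ (2 * m + 1) = x := by rw [← hK]; exact FiniteField.pow_card x

theorem theta_theta (g : G F) : theta F m (theta F m g) = g := by
  obtain ⟨g, hg⟩ := g
  refine Iso.group_induction good (P := fun g : GL chevF4.Idx F => ∀ hg : g ∈ chevF4.group F,
    theta F m (theta F m ⟨g, hg⟩) = ⟨g, hg⟩) ?_ ?_ hg hg
  · intro h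
    exact (congrArg (theta F m) (map_one (theta F m))).trans (map_one (theta F m))
  · intro r t g hr hg ih h
    rw [show (⟨xe good r t * g, h⟩ : G F) = xg ⟨r, hr⟩ t * ⟨g, hg⟩ from rfl, map_mul, map_mul, ih hg,
      theta_xg, theta_xg]
    congr 1
    refine Subtype.ext ?_
    show xe good (Iso.certF4.br (Iso.certF4.br r))
      ((t ^ Iso.certF4.lam 2 m r) ^ Iso.certF4.lam 2 m (Iso.certF4.br r)) = xe good r t
    rw [Iso.br_br Iso.validF4 hr, ← pow_mul, lam_lam ⟨r, hr⟩, pow_q hK]

/-- The endomorphism as an automorphism. -/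
noncomputable def sigma : G F ≃* G F where
  toFun := theta F m
  invFun := theta F m
  left_inv := theta_theta hK
  right_inv := theta_theta hK
  map_mul' := map_mul _

/-- The twist. -/
noncomputable def tw : OTwist (gd F) (Fin 16) (Fin 2) where
  σ := sigma hK
  ρ := rho
  orb := orb
  rep := rep
  J := J
  simp' := simp'
  refl' j := Function.Involutive.toPerm (reflTab j) (reflTab_invol j)
  reachW := reachW

theorem roots_eq : ∀ R, (tw hK).roots R = rootsOf R
  | [] => rfl
  | j :: R => by rw [OTwist.roots, rootsOf, roots_eq R]; rfl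

theorem reduced_of_red : ∀ R, red R = true → (tw hK).Reduced R
  | [], _ => trivial
  | j :: R, h => by
    simp only [red, Bool.and_eq_true, Bool.not_eq_true', List.contains_eq_mem,
      decide_eq_false_iff_not] at h
    refine ⟨reduced_of_red R h.1, ?_⟩
    rw [roots_eq]
    exact h.2

theorem longest (j : Fin 2) : (tw hK).Longest (j :: cov j) := by
  obtain ⟨h1, h2⟩ := cover_check j
  refine ⟨reduced_of_red hK _ h1, fun r hr => ?_⟩
  show ¬ 24 ≤ ((gd F).wl _ r).val
  rw [wl_ev]
  exact not_le.2 (h2 r hr)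

omit [Fintype F] hK in
theorem xg_comm {a b : Rt} (h1 : b.val ≠ a.val) (h2 : b.val ≠ chevF4.neg a.val)
    (h3 : chevF4.commTerms a.val b.val = []) (s t : F) : xg a s * xg b t = xg b t * xg a s := by
  refine Subtype.ext (Units.ext ?_)
  have := good.comm_formula (F := F) a.2 b.2 h1 h2 s t
  simp only [ChevalleyDatum.commWord, h3, List.map_nil] at this
  simpa [coe_xg, coe_xe, ChevalleyDatum.wordMat] using this.symm

/-- A root of a short/long pair in each simple class. -/
def baseA : Fin 2 → Rt := ![⟨33, by decide⟩, ⟨28, by decide⟩]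

/-- Its partner. -/
def baseB : Fin 2 → Rt := ![⟨24, by decide⟩, ⟨30, by decide⟩]

omit [Fintype F] [CharP F 2] hK in
theorem base_check : ∀ j : Fin 2, orb (baseA j) = simp' j ∧ orb (baseB j) = simp' j ∧
    Iso.certF4.br (baseA j).val = (baseB j).val ∧ Iso.certF4.br (baseB j).val = (baseA j).val ∧
    baseA j ≠ baseB j ∧ (baseB j).val ≠ chevF4.neg (baseA j).val ∧
    chevF4.commTerms (baseA j).val (baseB j).val = [] := by decide +kernel

/-- The element of a simple class with parameters 0 and 1. -/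
def base (F : Type*) [Field F] (j : Fin 2) : G F := xg (baseA j) 1 * xg (baseB j) 1

omit [Fintype F] hK in
theorem base_ne (j : Fin 2) : base F j ≠ 1 := by
  intro h
  rw [base, mul_eq_one_iff_eq_inv] at h
  refine xg_ne (base_check j).2.2.2.2.1 one_ne_zero (-1) (h.trans (Subtype.ext ?_))
  exact xe_inv good (baseB j).2 1

theorem base_mem (j : Fin 2) : base F j ∈ (tw hK).X' (simp' j) := by
  obtain ⟨h1, h2, h3, h4, h5, h6, h7⟩ := base_check j
  refine ⟨Subgroup.mul_mem _ (OTwist.X_le_Xorb (T := tw hK) h1 (xg_mem _ 1))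
    (OTwist.X_le_Xorb (T := tw hK) h2 (xg_mem _ 1)), OTwist.mem_Fix.2 ?_⟩
  show theta F m (xg _ 1 * xg _ 1) = _
  rw [map_mul, theta_xg, theta_xg, show rho (baseA j) = baseB j from Fin.ext h3,
    show rho (baseB j) = baseA j from Fin.ext h4, one_pow, one_pow]
  exact (xg_comm (fun h => h5 (Fin.ext h).symm) h6 h7 1 1).symm

theorem core : (tw hK).Core where
  base := ax
  orb_rep := orb_rep
  pos_orb := pos_orb
  opp_orb := opp_orb
  refl_orb j r := by
    obtain ⟨s, hs, ho, -⟩ := refl_orb_check j r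
    rw [show (gd F).wl ((tw hK).J j) r = s from Fin.ext ((wl_ev _ r).trans hs.symm)]
    exact ho
  J_mem j k hk := (J_check j k hk).1
  J_ne j := by revert j; show ∀ j, J j ≠ []; decide
  simp'_inj := show Function.Injective simp' by decide
  refl_simpJ j k hk := Fin.ext ((wl_ev _ _).trans (J_check j k hk).2)
  pos_refl j r hr hne := by
    obtain ⟨s, hs, -, hp⟩ := refl_orb_check j r
    show 24 ≤ ((gd F).wl ((tw hK).J j) r).val
    rw [wl_ev]
    exact (hp hr hne).trans_eq hs
  J_sq j k := Fin.ext ((wl_ev _ _).trans (J_sq_check j k))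
  reach := reach_check
  reach_simp j := by revert j; show ∀ j, reachW (simp' j) = ([], j); decide
  reach_refl i o k := Fin.ext ((wl_ev _ _).trans ((reach_refl_check i o k).trans (wl_ev _ _).symm))
  orb_ρ r := orb_br r _
  σ_X r y hy := by
    obtain ⟨t, rfl⟩ := mem_X_iff.1 hy
    exact mem_X_iff.2 ⟨_, theta_xg m r t⟩
  σ_nn' := theta_nw_J m
  rad_normal j r s hr hs hne y hy z hz := by
    obtain ⟨t, rfl⟩ := mem_X_iff.1 hy
    obtain ⟨u, rfl⟩ := mem_X_iff.1 hz
    obtain ⟨h1, h2, h3⟩ := rad_check j r hr s hs hne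
    refine (mem_gdata_iSup good _).2 ?_
    show xe good r.val t * xe good s.val u * (xe good r.val t)⁻¹ ∈ _
    set K : Subgroup (GL chevF4.Idx F) := ⨆ (q : Rt) (_ : 24 ≤ q.val ∧ orb q ≠ simp' j),
      (data good F).X q with hKdef
    have hX : ∀ q : Rt, 24 ≤ q.val → orb q ≠ simp' j → ∀ v : F, xe good q.val v ∈ K :=
      fun q hq hq' v => le_iSup₂ (f := fun (q : Rt) (_ : 24 ≤ q.val ∧ orb q ≠ simp' j) =>
        (data good F).X q) q ⟨hq, hq'⟩ ((mem_rootSubgroup good q.2).2 ⟨v, rfl⟩)
    obtain ⟨g, hg, hge⟩ : ∃ g ∈ K, (g : Matrix chevF4.Idx chevF4.Idx F) =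
        chevF4.wordMat F (chevF4.commWord F r.val s.val (-t) u) := by
      rw [ChevalleyDatum.commWord]
      have : ∀ L : List (ℕ × ℤ × ℕ × ℕ), (∀ x ∈ L, x ∈ chevF4.commTerms r.val s.val) → ∃ g ∈ K,
          (g : Matrix chevF4.Idx chevF4.Idx F) = chevF4.wordMat F
            (L.map fun c => (c.1, (c.2.1 : F) * (- -t) ^ c.2.2.1 * u ^ c.2.2.2)) := by
        intro L
        induction L with
        | nil => intro _; exact ⟨1, K.one_mem, by simp [ChevalleyDatum.wordMat]⟩
        | cons x L ih =>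
          intro hx
          obtain ⟨g, hg, he⟩ := ih fun y hy => hx y (List.mem_cons_of_mem _ hy)
          obtain ⟨hp, ho⟩ := h3 x (hx x List.mem_cons_self)
          have hlt := good.commTerms_lt r.2 s.2 (hx x List.mem_cons_self)
          refine ⟨_, K.mul_mem (hX ⟨x.1, hlt⟩ hp (ho hlt)
            ((x.2.1 : F) * (- -t) ^ x.2.2.1 * u ^ x.2.2.2)) hg, ?_⟩
          simp only [Units.val_mul, coe_xe, he, ChevalleyDatum.wordMat, List.map_cons, List.prod_cons]
      exact this _ fun _ h => h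
    have e : xe good s.val u * (xe good r.val t)⁻¹ = (xe good r.val t)⁻¹ * xe good s.val u * g := by
      rw [xe_inv good r.2]
      exact Units.ext (by
        simp only [Units.val_mul, coe_xe, hge]
        exact good.comm_formula r.2 s.2 h1 h2 (-t) u)
    rw [mul_assoc, e, mul_assoc, mul_inv_cancel_left]
    exact K.mul_mem (hX s hs hne u) hg
  X'_ne_bot j h := base_ne j (Subgroup.mem_bot.1 (h ▸ base_mem hK j))
  B_inf_negU := by
    rw [Subgroup.eq_bot_iff_forall]
    rintro y ⟨hB, hV⟩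
    apply Subtype.ext
    refine (Subgroup.eq_bot_iff_forall _).1 (borel_inf_V (F := F) good facts negTri_chevF4) _ ⟨?_, ?_⟩
    · exact (data_B (F := F) good facts).le ((mem_gdata_B good facts).1 hB)
    · refine (show (⨆ (r : Rt) (_ : ¬ (gd F).Pos r), (data good F).X r) ≤ chevF4.negUnipotent F from
        iSup₂_le fun r hr g hg => ?_) ((mem_gdata_iSup good _).1 hV)
      obtain ⟨t, rfl⟩ := (mem_rootSubgroup good r.2).1 hg
      exact Subgroup.subset_closure ⟨r.val, t, (facts.2.2.1 r.val r.2).2.2.1.2 (not_le.1 hr), rfl⟩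
  cover j := ⟨cov j, (longest hK j).1, (longest hK j).2⟩

end Cfsg.Agent.Twisted.F4
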