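/-
A grading separating the subgroup of a simple class from the radical.
-/
import Cfsg.Agent.Lib.Twisted.F4.Twist
import Cfsg.Agent.Lib.Twisted.Entries

set_option autoImplicit false

namespace Cfsg.Agent.Twisted.F4

open Cfsg.Lie Chev BNSetup Matrix

/-- The sum of the coefficients of the nodes outside the class, shifted to be natural. -/
def degTab : Fin 2 → List ℕ :=
  ![[10, 10, 10, 10, 3, 3, 4, 5, 6, 7, 7, 5, 6, 7, 7, 8, 8, 9, 10, 6, 7, 7, 8, 8, 9, 9, 9, 10, 10, 11,
      11, 11, 12, 12, 13, 13, 14, 10, 11, 12, 12, 13, 13, 14, 15, 13, 13, 14, 15, 16, 17, 17],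
    [10, 10, 10, 10, 6, 7, 7, 7, 7, 7, 8, 8, 8, 8, 9, 8, 9, 9, 9, 9, 9, 10, 9, 10, 10, 9, 10, 9, 11, 10,
      11, 10, 10, 11, 10, 11, 11, 11, 11, 11, 12, 11, 12, 12, 12, 12, 13, 13, 13, 13, 13, 14]]

/-- The degree of a coordinate. -/
def deg (j : Fin 2) (a : chevF4.Idx) : ℕ := (degTab j).getD (idxNat a) 0

/-- Whether a root preserves the degree. -/
def chkPres (j : Fin 2) (r : ℕ) : Bool :=
  (List.range 52).all fun i => (List.range 52).all fun k =>
    ((degTab j).getD i 0 == (degTab j).getD k 0) || (pTerms chevF4 r i k).all fun e => e.2 == 0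

/-- Whether a root raises the degree. -/
def chkUp (j : Fin 2) (r : ℕ) : Bool :=
  (List.range 52).all fun i => (List.range 52).all fun k =>
    decide ((degTab j).getD k 0 < (degTab j).getD i 0) ||
      ((pTerms chevF4 r i k).filter fun e => e.2 != 0) == if i = k then [(0, 1)] else []

theorem pres_check : ∀ (j : Fin 2) (r : Rt), orb r = simp' j ∨ orb (opp r) = simp' j →
    chkPres j r.val = true := by decide +kernel

theorem up_check : ∀ (j : Fin 2) (r : Rt), 24 ≤ r.val → orb r ≠ simp' j → chkUp j r.val = true := by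
  decide +kernel

variable {F : Type*} [Field F]

theorem evalT_filter (L : List (ℕ × ℤ)) (t : F) :
    evalT L t = evalT (L.filter fun e => e.2 != 0) t := by
  induction L with
  | nil => rfl
  | cons p L ih =>
    rw [show evalT (p :: L) t = (p.2 : F) * t ^ p.1 + evalT L t by simp [evalT], ih]
    by_cases h : p.2 = 0
    · simp [h]
    · simp [h, evalT]

theorem x_up {j : Fin 2} {r : Rt} (h1 : 24 ≤ r.val) (h2 : orb r ≠ simp' j) (t : F) :
    Raises (deg j) 1 (chevF4.x F r.val t - 1) := by
  intro a b hab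
  have h := up_check j r h1 h2
  simp only [chkUp, List.all_eq_true, List.mem_range, Bool.or_eq_true, decide_eq_true_eq,
    beq_iff_eq] at h
  have h' := (h (idxNat a) (idxNat_lt a) (idxNat b) (idxNat_lt b)).resolve_left (by
    simp only [deg] at hab; omega)
  rw [Matrix.sub_apply, sub_eq_zero, x_apply (D := chevF4) r.2, evalT_filter, h', Matrix.one_apply]
  by_cases hab' : a = b
  · rw [if_pos (by rw [hab']), if_pos hab']; simp [evalT]
  · rw [if_neg (fun e => hab' (idxNat_injective e)), if_neg hab']; simp [evalT]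

/-- The elements preserving the degree, with their inverses. -/
def Preserve (F : Type*) [Field F] (j : Fin 2) : Subgroup (GL chevF4.Idx F) where
  carrier := {g | (∀ a b, deg j a ≠ deg j b → (g : Matrix chevF4.Idx chevF4.Idx F) a b = 0) ∧
    ∀ a b, deg j a ≠ deg j b → ((g⁻¹ : GL chevF4.Idx F) : Matrix chevF4.Idx chevF4.Idx F) a b = 0}
  one_mem' := by
    constructor <;> intro a b h <;> simp [Matrix.one_apply_ne (fun e : a = b => h (e ▸ rfl))]
  mul_mem' := by
    have key : ∀ A B : Matrix chevF4.Idx chevF4.Idx F,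
        (∀ a b, deg j a ≠ deg j b → A a b = 0) → (∀ a b, deg j a ≠ deg j b → B a b = 0) →
        ∀ a b, deg j a ≠ deg j b → (A * B) a b = 0 := by
      intro A B hA hB a b h
      rw [Matrix.mul_apply]
      refine Finset.sum_eq_zero fun c _ => ?_
      by_cases hc : deg j a = deg j c
      · rw [hB c b (fun e => h (hc.trans e)), mul_zero]
      · rw [hA a c hc, zero_mul]
    intro g h hg hh
    refine ⟨?_, ?_⟩
    · rw [Units.val_mul]; exact key _ _ hg.1 hh.1
    · rw [_root_.mul_inv_rev, Units.val_mul]; exact key _ _ hh.2 hg.2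
  inv_mem' := by
    intro g hg
    exact ⟨hg.2, by rw [inv_inv]; exact hg.1⟩

theorem xe_mem_Preserve {j : Fin 2} {r : Rt} (h : orb r = simp' j ∨ orb (opp r) = simp' j) (t : F) :
    xe good r.val t ∈ Preserve F j := by
  have key : ∀ s : F, ∀ a b, deg j a ≠ deg j b → chevF4.x F r.val s a b = 0 := by
    intro s a b hab
    have h' := pres_check j r h
    simp only [chkPres, List.all_eq_true, List.mem_range, Bool.or_eq_true, beq_iff_eq] at h'
    have h'' := (h' (idxNat a) (idxNat_lt a) (idxNat b) (idxNat_lt b)).resolve_left (by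
      simpa [deg] using hab)
    rw [x_apply (D := chevF4) r.2, evalT]
    refine List.sum_eq_zero fun x hx => ?_
    obtain ⟨e, he, rfl⟩ := List.mem_map.1 hx
    simp [h'' e he]
  refine ⟨key t, ?_⟩
  rw [xe_inv good r.2]
  exact key (-t)

theorem H_le_Preserve (j : Fin 2) : chevF4.diagonalSubgroup F ≤ Preserve F j := by
  intro h hh
  have key : ∀ g ∈ chevF4.diagonalSubgroup F, ∀ a b, deg j a ≠ deg j b →
      (g : Matrix chevF4.Idx chevF4.Idx F) a b = 0 := by
    intro g hg a b hab
    obtain ⟨χ, hχ⟩ := tri_H facts good hg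
    rw [hχ, hdiag, Matrix.diagonal_apply_ne _ (fun e => hab (congrArg (deg j) e))]
  exact ⟨key h hh, key _ (Subgroup.inv_mem _ hh)⟩

theorem eq_one_of_preserve {j : Fin 2} {g : GL chevF4.Idx F} (h1 : g ∈ Preserve F j)
    (h2 : g ∈ unitri F (deg j) 0) : g = 1 := by
  refine Units.ext (Matrix.ext fun a b => ?_)
  by_cases h : deg j a = deg j b
  · have := (mem_unitri.1 h2) a b (by omega)
    rwa [Matrix.sub_apply, sub_eq_zero] at this
  · rw [h1.1 a b h, Units.val_one, Matrix.one_apply_ne (fun e => h (congrArg (deg j) e))]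

end Cfsg.Agent.Twisted.F4
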