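/-
The rank one groups of ²F₄: a nontrivial fixed element of the negative root group of a simple class
lies in the big cell of the class, with all three factors fixed.
-/
import Cfsg.Agent.Lib.Twisted.F4.Sep

set_option autoImplicit false

namespace Cfsg.Agent.Twisted.F4

open Cfsg.Lie Chev BNSetup Matrix
open Cfsg.Agent.RootBN (OTwist)
open Cfsg.Agent.RootBN.OTwist

variable {F : Type*} [Field F] [CharP F 2] {m : ℕ}

theorem theta_ne_gen (m : ℕ) (r : Rt) (t : F) :
    theta F m ⟨ne' good r.val t, ne'_mem_group good r.2 t⟩ =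
      ⟨ne' good (rho r).val (t ^ Iso.certF4.lam 2 m r.val),
        ne'_mem_group good (rho r).2 (t ^ Iso.certF4.lam 2 m r.val)⟩ := by
  have e : ∀ (r : Rt) (s : F), (⟨ne' good r.val s, ne'_mem_group good r.2 s⟩ : G F) =
      xg r s * xg (opp r) (s⁻¹) * xg r s := fun r s => Subtype.ext (by
    simp only [Subgroup.coe_mul, coe_xg, ne', CharTwo.neg_eq]
    rfl)
  rw [e, e, map_mul, map_mul, theta_xg, theta_xg, inv_pow,
    show rho (opp r) = opp (rho r) from Fin.ext (br_neg r), lam_opp]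
where
  lam_opp : Iso.certF4.lam 2 m (opp r).val = Iso.certF4.lam 2 m r.val := by
    have h : ∀ r : Rt, Iso.certF4.isShort (opp r).val = Iso.certF4.isShort r.val := by decide +kernel
    simp only [Iso.Cert.lam, h r]

theorem theta_H {h : G F} (hh : h ∈ (gd F).H) : theta F m h ∈ (gd F).H := by
  obtain ⟨g, hg⟩ := h
  have hle : chevF4.diagonalSubgroup F ≤
      ((gd F).H ⊓ (gd F).H.comap (theta F m)).map (chevF4.group F).subtype := by
    conv_lhs => rw [ChevalleyDatum.diagonalSubgroup]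
    rw [Subgroup.closure_le]
    rintro x ⟨r, t, hr, ht, hx⟩
    obtain rfl : x = he good r t := Units.ext (hx.trans (coe_he good r t).symm)
    have hm : he good r t ∈ chevF4.group F :=
      Subgroup.mul_mem _ (ne'_mem_group good hr t) (ne'_mem_group good hr (-1))
    refine ⟨⟨he good r t, hm⟩, ⟨he_mem_H good hr ht, ?_⟩, rfl⟩
    have e : (⟨he good r t, hm⟩ : G F) = ⟨ne' good r t, ne'_mem_group good hr t⟩ *
        ⟨ne' good r (-1), ne'_mem_group good hr (-1)⟩ := rfl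
    show theta F m ⟨he good r t, hm⟩ ∈ (gd F).H
    rw [e, map_mul, theta_ne_gen m ⟨r, hr⟩ t, theta_ne_gen m ⟨r, hr⟩ (-1)]
    exact ne'_mul_ne'_mem good (rho ⟨r, hr⟩).2 (pow_ne_zero _ ht)
      (pow_ne_zero _ (neg_ne_zero.2 one_ne_zero))
  obtain ⟨z, hz, e⟩ := hle hh
  obtain rfl : z = ⟨g, hg⟩ := Subtype.ext e
  exact hz.2

variable [Fintype F] (hK : Fintype.card F = 2 ^ (2 * m + 1))
include hK

theorem theta_B {b : G F} (hb : b ∈ (gd F).B) : theta F m b ∈ (gd F).B := by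
  obtain ⟨u, hu, h, hh, rfl⟩ := (RootBN.Data.mem_B_iff (ax (F := F))).1 hb
  rw [map_mul]
  exact Subgroup.mul_mem _ (RootBN.Data.U_le_B (σ_U (core hK) hu)) (RootBN.Data.H_le_B (theta_H hh))

omit [Fintype F] hK in
/-- The representatives of the two Weyl groups of rank one. -/
theorem reps_check : ∀ j : Fin 2, ∃ reps : List (List Nd), [] ∈ reps ∧
    (∀ i ∈ J j, ∀ d ∈ reps, ∃ d' ∈ reps, ∀ k, ev (i :: d) (sr k) = ev d' (sr k)) ∧
    (∀ d ∈ reps, (∀ k, ev (d.map flip) (sr k) = ev d (sr k)) →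
      d = [] ∨ ∀ k, ev d (sr k) = ev (J j) (sr k)) := by
  intro j
  fin_cases j
  · exact ⟨[[], [⟨0, by decide⟩], [⟨3, by decide⟩], [⟨0, by decide⟩, ⟨3, by decide⟩]], by decide +kernel⟩
  · exact ⟨[[], [⟨1, by decide⟩], [⟨2, by decide⟩], [⟨1, by decide⟩, ⟨2, by decide⟩],
      [⟨2, by decide⟩, ⟨1, by decide⟩], [⟨1, by decide⟩, ⟨2, by decide⟩, ⟨1, by decide⟩],
      [⟨2, by decide⟩, ⟨1, by decide⟩, ⟨2, by decide⟩],
      [⟨1, by decide⟩, ⟨2, by decide⟩, ⟨1, by decide⟩, ⟨2, by decide⟩]], by decide +kernel⟩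

omit [Fintype F] hK in
theorem wl_flip_congr {l d : List Nd} (h : (gd F).wl l = (gd F).wl d) :
    (gd F).wl (l.map flip) = (gd F).wl (d.map flip) := by
  refine RootBN.Data.acts_unique (ax (F := F)) (RootBN.Data.acts_nw ax _) ?_
  rw [← theta_nw 0, gdata_nw_eq good facts h, theta_nw 0]
  exact RootBN.Data.acts_nw ax _

omit [Fintype F] hK in
theorem central_word {j : Fin 2} {l : List Nd} (hl : ∀ x ∈ l, x ∈ J j)
    (h : (gd F).wl (l.map flip) = (gd F).wl l) :
    (gd F).wl l = 1 ∨ (gd F).wl l = (gd F).wl (J j) := by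
  obtain ⟨reps, hnil, hclosed, hcent⟩ := reps_check j
  have key : ∀ l : List Nd, (∀ x ∈ l, x ∈ J j) → ∃ d ∈ reps, (gd F).wl l = (gd F).wl d := by
    intro l
    induction l with
    | nil => intro _; exact ⟨[], hnil, rfl⟩
    | cons i l ih =>
      intro hl
      obtain ⟨d, hd, e⟩ := ih fun x hx => hl x (List.mem_cons_of_mem _ hx)
      obtain ⟨d', hd', e'⟩ := hclosed i (hl i List.mem_cons_self) d hd
      refine ⟨d', hd', ?_⟩
      rw [← wl_eq_of_ev e', RootBN.Data.wl_cons, RootBN.Data.wl_cons, e]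
  obtain ⟨d, hd, e⟩ := key l hl
  rw [wl_flip_congr e, e] at h
  have hv : ∀ k, ev (d.map flip) (sr k) = ev d (sr k) := fun k => by
    rw [← wl_ev (F := F), ← wl_ev (F := F), h]
  rcases hcent d hd hv with rfl | h'
  · exact Or.inl e
  · exact Or.inr (e.trans (wl_eq_of_ev h'))

theorem nn'_sq (j : Fin 2) : (tw hK).nn' j * (tw hK).nn' j = 1 := by
  show (gd F).nw (J j) * (gd F).nw (J j) = 1
  rw [← RootBN.Data.nw_append]
  have e : (gd F).wl (J j ++ J j) = (gd F).wl [] := wl_eq_of_ev fun k => by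
    rw [J_sq_check j k]; rfl
  rw [gdata_nw_eq good facts e, RootBN.Data.nw_nil]

/-- The subgroup of elements preserving the degree of a class. -/
noncomputable def PresG (F : Type*) [Field F] (j : Fin 2) : Subgroup (G F) :=
  (Preserve F j).subgroupOf (chevF4.group F)

theorem Xorb_le_PresG {j : Fin 2} {o : Fin 16}
    (ho : o = simp' j ∨ o = (tw hK).opp' (simp' j)) : (tw hK).Xorb o ≤ PresG F j := by
  refine iSup₂_le fun r hr y hy => ?_
  obtain ⟨t, rfl⟩ := mem_X_iff.1 hy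
  change orb r = o at hr
  refine xe_mem_Preserve ?_ t
  rcases ho with rfl | rfl
  · exact Or.inl hr
  · refine Or.inr ?_
    have h := (core hK).opp_orb r
    change orb (opp r) = (tw hK).opp' (orb r) at h
    rw [h, hr, opp'_opp' (core hK)]

theorem Rad_inf_PresG {j : Fin 2} {v : G F} (h1 : v ∈ (tw hK).Rad j) (h2 : v ∈ PresG F j) : v = 1 := by
  refine Subtype.ext (eq_one_of_preserve h2 ?_)
  refine (show (⨆ (r : Rt) (_ : (gd F).Pos r ∧ orb r ≠ simp' j), (data good F).X r) ≤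
    unitri F (deg j) 0 from iSup₂_le fun r hr g hg => ?_) ((mem_gdata_iSup good _).1 h1)
  obtain ⟨t, rfl⟩ := (mem_rootSubgroup good r.2).1 hg
  exact x_up hr.1 hr.2 t

theorem nn'_mem_PresG (j : Fin 2) : (tw hK).nn' j ∈ PresG F j := by
  refine Subgroup.list_prod_mem _ fun x hx => ?_
  obtain ⟨k, hk, rfl⟩ := List.mem_map.1 hx
  have h1 : orb (sr k) = simp' j := (J_check j k hk).1
  have h2 : orb (opp (opp (sr k))) = simp' j := by
    rw [show opp (opp (sr k)) = sr k from Fin.ext (good.neg_neg (sr k).2)]; exact h1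
  show ne' good (sr k).val 1 ∈ Preserve F j
  exact Subgroup.mul_mem _ (Subgroup.mul_mem _ (xe_mem_Preserve (Or.inl h1) _)
    (xe_mem_Preserve (r := opp (sr k)) (Or.inr h2) _)) (xe_mem_Preserve (Or.inl h1) _)

theorem form_unique {j : Fin 2} {a a' k k' x x' : G F}
    (ha : a ∈ (tw hK).Xorb (simp' j)) (ha' : a' ∈ (tw hK).Xorb (simp' j))
    (hk : k ∈ (gd F).H) (hk' : k' ∈ (gd F).H)
    (hx : x ∈ (tw hK).Xorb (simp' j)) (hx' : x' ∈ (tw hK).Xorb (simp' j))
    (e : a * k * (tw hK).nn' j * x = a' * k' * (tw hK).nn' j * x') : a = a' ∧ k = k' ∧ x = x' := by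
  have hc := core hK
  set n := (tw hK).nn' j
  have e1 : n * (x * x'⁻¹) * n⁻¹ = k⁻¹ * (a⁻¹ * a') * k' := by
    have : n * x = (a * k)⁻¹ * (a' * k' * n * x') := by rw [← e]; group
    calc n * (x * x'⁻¹) * n⁻¹ = (n * x) * x'⁻¹ * n⁻¹ := by group
      _ = _ := by rw [this]; group
  have hxx : n * (x * x'⁻¹) * n⁻¹ ∈ (gd F).B ⊓ negU (gd F) := by
    refine ⟨?_, Xorb_neg_le_negU hc (o := (tw hK).refl' j (simp' j)) ?_
      (nn'_conj hc (Subgroup.mul_mem _ hx (Subgroup.inv_mem _ hx')))⟩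
    · rw [e1]
      exact Subgroup.mul_mem _ (Subgroup.mul_mem _ (RootBN.Data.H_le_B (Subgroup.inv_mem _ hk))
        (RootBN.Data.U_le_B (Xorb_pos_le_U hc (simp'_pos hc j)
          (Subgroup.mul_mem _ (Subgroup.inv_mem _ ha) ha')))) (RootBN.Data.H_le_B hk')
    · rw [show simp' j = (tw hK).simp' j from rfl, refl'_simp' hc, opp'_pos hc, not_not]
      exact simp'_pos hc j
  rw [hc.B_inf_negU, Subgroup.mem_bot, conj_eq_one_iff, mul_inv_eq_one] at hxx
  subst hxx
  have e2 : a⁻¹ * a' = k * k'⁻¹ := by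
    have := mul_right_cancel (mul_right_cancel e)
    rw [eq_mul_inv_iff_mul_eq, mul_assoc, ← this, inv_mul_cancel_left]
  have h1 : ((a⁻¹ * a' : G F) : GL chevF4.Idx F) ∈
      chevF4.posUnipotent F ⊓ chevF4.diagonalSubgroup F := by
    refine ⟨?_, e2 ▸ (Subgroup.mul_mem _ hk (Subgroup.inv_mem _ hk') : k * k'⁻¹ ∈ (gd F).H)⟩
    rw [← map_gdata_U good facts]
    exact ⟨_, Xorb_pos_le_U hc (simp'_pos hc j) (Subgroup.mul_mem _ (Subgroup.inv_mem _ ha) ha'), rfl⟩
  rw [U_inf_H facts good, Subgroup.mem_bot] at h1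
  have h1' : a⁻¹ * a' = 1 := Subtype.ext h1
  rw [h1', eq_comm, mul_inv_eq_one] at e2
  exact ⟨inv_mul_eq_one.1 h1', e2, rfl⟩

/-- A fixed element of the negative root group of a simple class, in the big cell. -/
theorem rank_one_aux {j : Fin 2} {y : G F} (hy : y ∈ (tw hK).X' ((tw hK).opp' (simp' j))) (hy1 : y ≠ 1) :
    ∃ a ∈ (tw hK).X' (simp' j), ∃ k ∈ (gd F).H, theta F m k = k ∧
      ∃ x ∈ (tw hK).X' (simp' j), y = a * k * (tw hK).nn' j * x := by
  have hc := core hK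
  have axd := ax (F := F)
  set n := (tw hK).nn' j with hn
  have hninv : n⁻¹ = n := inv_eq_of_mul_eq_one_right (nn'_sq hK j)
  have hx0 : n⁻¹ * y * n ∈ (tw hK).Xorb (simp' j) := by
    have h := nn'_inv_conj hc (j := j) hy.1
    rwa [show simp' j = (tw hK).simp' j from rfl, ← refl'_simp' hc, refl'_refl' hc] at h
  -- `y` lies in a cell of the Weyl group of the class
  have hcell : ∀ v : List Nd, (∀ z ∈ v, z ∈ J j) → ∀ l : List Nd, (∀ z ∈ l, z ∈ J j) →
      ∀ g ∈ (gd F).cell ((gd F).wl l), ∃ l' : List Nd, (∀ z ∈ l', z ∈ J j) ∧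
        (gd F).nw v * g ∈ (gd F).cell ((gd F).wl l') := by
    intro v
    induction v with
    | nil => intro _ l hl g hg; exact ⟨l, hl, by simpa using hg⟩
    | cons i v ih =>
      intro hv l hl g hg
      obtain ⟨l', hl', hg'⟩ := ih (fun z hz => hv z (List.mem_cons_of_mem _ hz)) l hl g hg
      rw [RootBN.Data.nw_cons, mul_assoc]
      rcases RootBN.Data.nn_mul_cell axd (i := i) hg' with h | h
      · exact ⟨i :: l', List.forall_mem_cons.2 ⟨hv i List.mem_cons_self, hl'⟩, by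
          rwa [RootBN.Data.wl_cons]⟩
      · exact ⟨l', hl', h⟩
  have hU : n⁻¹ * y * n ∈ (gd F).B :=
    RootBN.Data.U_le_B (Xorb_pos_le_U hc (simp'_pos hc j) hx0)
  obtain ⟨l, hlJ, hl⟩ := hcell (J j) (fun _ h => h) (J j) (fun _ h => h) ((n⁻¹ * y * n) * n) (by
    show (n⁻¹ * y * n) * (gd F).nw (J j) ∈ _
    simpa using RootBN.Data.mul_mem_cell (RootBN.Data.mem_cell_of (RootBN.Data.nw_mem_N (J j))
      (RootBN.Data.acts_nw axd (J j))) hU (gd F).B.one_mem)
  have hey : (gd F).nw (J j) * (n⁻¹ * y * n * n) = y := by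
    show n * (n⁻¹ * y * n * n) = y
    rw [mul_assoc _ n n, nn'_sq hK j]; group
  rw [hey] at hl
  have hfix : theta F m y = y := mem_Fix.1 hy.2
  have hl' : y ∈ (gd F).cell ((gd F).wl (l.map flip)) := by
    obtain ⟨b, hb, c, hcB, e⟩ := (RootBN.Data.mem_cell_iff axd (RootBN.Data.nw_mem_N l)
      (RootBN.Data.acts_nw axd l)).1 hl
    rw [← hfix, e, map_mul, map_mul, theta_nw]
    exact RootBN.Data.mul_mem_cell (RootBN.Data.mem_cell_of (RootBN.Data.nw_mem_N _)
      (RootBN.Data.acts_nw axd _)) (theta_B hK hb) (theta_B hK hcB)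
  rcases central_word hlJ (RootBN.Data.cell_disjoint axd hl' hl) with h1 | h1 <;> rw [h1] at hl
  · exfalso
    refine hy1 ?_
    rw [← Subgroup.mem_bot, ← hc.B_inf_negU]
    refine ⟨(RootBN.Data.mem_cell_one axd).1 hl, Xorb_neg_le_negU hc ?_ hy.1⟩
    rw [opp'_pos hc, not_not]
    exact simp'_pos hc j
  obtain ⟨b, hb, c, hcB, e⟩ := (RootBN.Data.mem_cell_iff axd (RootBN.Data.nw_mem_N (J j))
    (RootBN.Data.acts_nw axd (J j))).1 hl
  change y = b * n * c at e
  obtain ⟨u, hu, h, hh, rfl⟩ := (RootBN.Data.mem_B_iff axd).1 hcB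
  obtain ⟨v, hv, x, hx, rfl⟩ := U_eq_Rad_mul hc j hu
  have hx' : h⁻¹ * x * h ∈ (tw hK).Xorb (simp' j) := by
    refine (show (tw hK).Xorb (simp' j) ≤
      ((tw hK).Xorb (simp' j)).comap (MulAut.conj h⁻¹).toMonoidHom from
      iSup₂_le fun r hr z hz => X_le_Xorb hr (axd.H_conj r _ (Subgroup.inv_mem _ hh) z hz)) hx |>
      fun hh' => ?_
    simpa using hh'
  have hb' : b * (n * v * n⁻¹) * (n * h * n⁻¹) ∈ (gd F).B :=
    Subgroup.mul_mem _ (Subgroup.mul_mem _ hb (RootBN.Data.U_le_B (Rad_conj_U hc hv)))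
      (RootBN.Data.H_le_B (RootBN.Data.nw_H axd (J j) hh))
  obtain ⟨u2, hu2, k, hk, e2⟩ := (RootBN.Data.mem_B_iff axd).1 hb'
  obtain ⟨v2, hv2, a, ha, rfl⟩ := U_eq_Rad_mul hc j hu2
  have e3 : y = v2 * (a * k * n * (h⁻¹ * x * h)) := by
    rw [e, show b * n * (v * x * h) = b * (n * v * n⁻¹) * (n * h * n⁻¹) * n * (h⁻¹ * x * h) by group,
      e2]
    group
  have hv21 : v2 = 1 := by
    refine Rad_inf_PresG hK hv2 ?_
    rw [show v2 = y * (a * k * n * (h⁻¹ * x * h))⁻¹ by rw [e3]; group]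
    exact Subgroup.mul_mem _ (Xorb_le_PresG hK (Or.inr rfl) hy.1) (Subgroup.inv_mem _
      (Subgroup.mul_mem _ (Subgroup.mul_mem _ (Subgroup.mul_mem _
        (Xorb_le_PresG hK (Or.inl rfl) ha) (H_le_Preserve j hk)) (nn'_mem_PresG hK j))
        (Xorb_le_PresG hK (Or.inl rfl) hx')))
  rw [hv21, one_mul] at e3
  have h2 : theta F m a * theta F m k * n * theta F m (h⁻¹ * x * h) =
      a * k * n * (h⁻¹ * x * h) := by
    rw [← e3, ← hfix, e3]
    simp only [map_mul]
    rw [show theta F m n = n from theta_nw_J m j]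
  obtain ⟨f1, f2, f3⟩ := form_unique hK (σ_Xorb hc ha) ha (theta_H hk) hk (σ_Xorb hc hx') hx' h2
  exact ⟨a, ⟨ha, mem_Fix.2 f1⟩, k, hk, f2, _, ⟨hx', mem_Fix.2 f3⟩, e3⟩

omit [Fintype F] hK in
/-- The Frobenius on the group. -/
noncomputable def phi (F : Type*) [Field F] [CharP F 2] : G F →* G F :=
  ((Iso.frob chevF4 F 2 1).comp (chevF4.group F).subtype).codRestrict (chevF4.group F) fun g => by
    obtain ⟨g, hg⟩ := g
    refine Iso.group_induction good (P := fun g => Iso.frob chevF4 F 2 1 g ∈ chevF4.group F)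
      (by rw [map_one]; exact Subgroup.one_mem _) (fun r t g hr _ ih => ?_) hg
    rw [map_mul, Iso.frob_xe Iso.setupF4 hr]
    exact Subgroup.mul_mem _ (xe_mem_group good hr _) ih

omit [Fintype F] hK in
theorem phi_xg (r : Rt) (t : F) : phi F (xg r t) = xg r (t ^ 2) :=
  Subtype.ext (Iso.frob_xe Iso.setupF4 r.2 t)

omit [Fintype F] hK in
theorem phi_nw (l : List Nd) : phi F ((gd F).nw l) = (gd F).nw l := by
  induction l with
  | nil => simp
  | cons i l ih =>
    rw [RootBN.Data.nw_cons, map_mul, ih]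
    congr 1
    have e : (gd F).nn i = xg (sr i) 1 * xg (opp (sr i)) 1 * xg (sr i) 1 := Subtype.ext (by
      show ne' good (chevF4.simple i.val) 1 = _
      simp only [Subgroup.coe_mul, coe_xg, ne', inv_one, CharTwo.neg_eq]
      rfl)
    rw [e, map_mul, map_mul, phi_xg, phi_xg, one_pow]

omit [Fintype F] hK in
theorem phi_H {h : G F} (hh : h ∈ (gd F).H) :
    phi F h ∈ (gd F).H ∧ (phi F h = h → h = 1) := by
  obtain ⟨χ, hχ⟩ : ∃ χ : ℕ → F,
      ((h : GL chevF4.Idx F) : Matrix chevF4.Idx chevF4.Idx F) = hdiag chevF4 χ :=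
    tri_H facts good hh
  constructor
  · obtain ⟨g, hg⟩ := h
    have hle : chevF4.diagonalSubgroup F ≤
        (chevF4.diagonalSubgroup F).comap (Iso.frob chevF4 F 2 1) := by
      conv_lhs => rw [ChevalleyDatum.diagonalSubgroup]
      rw [Subgroup.closure_le]
      rintro x ⟨r, t, hr, ht, hx⟩
      obtain rfl : x = he good r t := Units.ext (hx.trans (coe_he good r t).symm)
      simp only [SetLike.mem_coe, Subgroup.mem_comap, he, ne', map_mul,
        Iso.frob_xe Iso.setupF4 hr, Iso.frob_xe Iso.setupF4 (good.neg_lt hr)]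
      simp only [CharTwo.neg_eq, inv_pow, inv_one, one_pow]
      have := he_mem_H good hr (pow_ne_zero 2 ht)
      simpa only [he, ne', CharTwo.neg_eq, inv_one] using this
    exact hle hh
  · intro e
    refine Subtype.ext (Units.ext ?_)
    have e' : ((h : GL chevF4.Idx F) : Matrix chevF4.Idx chevF4.Idx F).map
        (iterateFrobenius F 2 1) = ((h : GL chevF4.Idx F) : Matrix chevF4.Idx chevF4.Idx F) :=
      congrArg (fun g : G F => ((g : GL chevF4.Idx F) : Matrix chevF4.Idx chevF4.Idx F)) e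
    have hd : IsUnit (Matrix.det ((h : GL chevF4.Idx F) : Matrix chevF4.Idx chevF4.Idx F)) :=
      (Matrix.isUnit_iff_isUnit_det _).1 (Units.isUnit _)
    rw [hχ, hdiag, Matrix.det_diagonal, isUnit_iff_ne_zero, Finset.prod_ne_zero_iff] at hd
    rw [hχ] at e' ⊢
    rw [Subgroup.coe_one, Units.val_one, hdiag, Matrix.diagonal_eq_one]
    funext a
    have h1 := congrFun (congrFun e' a) a
    rw [Matrix.map_apply, hdiag, Matrix.diagonal_apply_eq, iterateFrobenius_def, pow_one, sq] at h1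
    exact mul_left_cancel₀ (hd a (Finset.mem_univ a)) (h1.trans (mul_one _).symm)

theorem phi_Xorb {o : Fin 16} {y : G F} (hy : y ∈ (tw hK).Xorb o) : phi F y ∈ (tw hK).Xorb o :=
  (show (tw hK).Xorb o ≤ ((tw hK).Xorb o).comap (phi F) from iSup₂_le fun r hr z hz => by
    obtain ⟨t, rfl⟩ := mem_X_iff.1 hz
    exact X_le_Xorb hr (mem_X_iff.2 ⟨_, phi_xg r t⟩)) hy

theorem nn'_mem_of (j : Fin 2) {K : Subgroup (G F)} (hpos : (tw hK).X' (simp' j) ≤ K)
    (hneg : (tw hK).X' ((tw hK).opp' (simp' j)) ≤ K) : (tw hK).nn' j ∈ K := by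
  have hc := core hK
  set n := (tw hK).nn' j with hn
  have hb := base_mem hK j
  have hy : n * base F j * n⁻¹ ∈ (tw hK).X' ((tw hK).opp' (simp' j)) := by
    rw [show simp' j = (tw hK).simp' j from rfl, ← refl'_simp' hc]
    refine ⟨nn'_conj hc hb.1, mem_Fix.2 ?_⟩
    rw [map_mul, map_mul, map_inv, hc.σ_nn', mem_Fix.1 hb.2]
  obtain ⟨a, ha, k, hk, -, x, hx, e⟩ :=
    rank_one_aux hK hy (fun h => base_ne j (conj_eq_one_iff.1 h))
  have hphi : phi F (n * base F j * n⁻¹) = n * base F j * n⁻¹ := by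
    rw [map_mul, map_mul, map_inv, hn, show (tw hK).nn' j = (gd F).nw (J j) from rfl, phi_nw, base,
      map_mul, phi_xg, phi_xg, one_pow]
  have e' : phi F a * phi F k * n * phi F x = a * k * n * x := by
    rw [← e, ← hphi, e]
    simp only [map_mul]
    rw [show phi F n = n from phi_nw (J j)]
  obtain ⟨-, hk1, -⟩ := form_unique hK (phi_Xorb hK ha.1) ha.1 (phi_H hk).1 hk
    (phi_Xorb hK hx.1) hx.1 e'
  rw [(phi_H hk).2 hk1, mul_one] at e
  rw [show n = a⁻¹ * (n * base F j * n⁻¹) * x⁻¹ by rw [e]; simp only [hn]; group]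
  exact Subgroup.mul_mem _ (Subgroup.mul_mem _ (Subgroup.inv_mem _ (hpos ha)) (hneg hy))
    (Subgroup.inv_mem _ (hpos hx))

theorem nn'_mem (j : Fin 2) : (tw hK).nn' j ∈ (tw hK).Gt :=
  nn'_mem_of hK j (X'_le_Gt _) (X'_le_Gt _)

/-- The axioms of the twist. -/
theorem axioms : (tw hK).Axioms where
  toCore := core hK
  nn'_mem := nn'_mem hK
  rank_one' j y hy hy1 := by
    obtain ⟨a, ha, k, hk, -, x, hx, e⟩ := rank_one_aux hK hy hy1
    exact ⟨a, ha, k, hk, x, hx, e⟩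

/-- The axioms of the root-subgroup setup of ²F₄. -/
theorem dax : (tw hK).data.Axioms := data_axioms (axioms hK)

end Cfsg.Agent.Twisted.F4
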