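/-
The fixed elements of the simple classes are the generators of ²F₄(q), so the twisted group of the
root data is the group of Def_LieTwisted.
-/
import Cfsg.Agent.Lib.Twisted.F4.RankOne
import Cfsg.Prelude.Def_LieTwisted

set_option autoImplicit false

namespace Cfsg.Agent.Twisted.F4

open Cfsg.Lie Chev BNSetup Matrix
open Cfsg.Agent.RootBN (OTwist)
open Cfsg.Agent.RootBN.OTwist

/-- The roots of the simple classes. -/
abbrev r33 : Rt := ⟨33, by decide⟩
@[inherit_doc r33] abbrev r24 : Rt := ⟨24, by decide⟩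
@[inherit_doc r33] abbrev r27 : Rt := ⟨27, by decide⟩
@[inherit_doc r33] abbrev r25 : Rt := ⟨25, by decide⟩
@[inherit_doc r33] abbrev r28 : Rt := ⟨28, by decide⟩
@[inherit_doc r33] abbrev r30 : Rt := ⟨30, by decide⟩

variable {F : Type*} [Field F] [CharP F 2]

theorem xg_zero (r : Rt) : xg r (0 : F) = 1 := Subtype.ext (xe_zero good r.2)

theorem cast_mod_two (c : ℤ) : (c : F) = ((c % 2 : ℤ) : F) := Iso.cast_eq_of_mod (p := 2) (by simp)

theorem xg_comm' {a b : Rt} (h1 : b.val ≠ a.val) (h2 : b.val ≠ chevF4.neg a.val)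
    (h3 : ∀ x ∈ chevF4.commTerms a.val b.val, x.2.1 % 2 = 0) (s t : F) :
    xg a s * xg b t = xg b t * xg a s := by
  refine Subtype.ext (Units.ext ?_)
  have := good.comm_formula (F := F) a.2 b.2 h1 h2 s t
  have hw : chevF4.wordMat F (chevF4.commWord F a.val b.val s t) = 1 := by
    refine List.prod_eq_one fun M hM => ?_
    simp only [ChevalleyDatum.commWord, List.map_map, List.mem_map] at hM
    obtain ⟨x, hx, rfl⟩ := hM
    simp only [Function.comp]
    rw [cast_mod_two x.2.1, h3 x hx, Int.cast_zero, zero_mul, zero_mul,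
      good.x_zero (good.commTerms_lt a.2 b.2 hx)]
  rw [hw, mul_one] at this
  simpa [coe_xg, coe_xe] using this.symm

theorem comm_check : ∀ a ∈ [r27, r25, r28, r30], ∀ b ∈ [r28, r30], a ≠ b →
    b.val ≠ a.val ∧ b.val ≠ chevF4.neg a.val ∧
      ∀ x ∈ chevF4.commTerms a.val b.val, x.2.1 % 2 = 0 := by decide +kernel

theorem comm_hi {a b : Rt} (ha : a ∈ [r27, r25, r28, r30]) (hb : b ∈ [r28, r30]) (s t : F) :
    Commute (xg a s) (xg b t) := by
  by_cases h : a = b
  · subst h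
    show _ * _ = _ * _
    rw [xg_add, xg_add, add_comm]
  · obtain ⟨h1, h2, h3⟩ := comm_check a ha b hb h
    exact xg_comm' h1 h2 h3 s t

theorem terms_check :
    (chevF4.commTerms 27 25).map (fun x => (x.1, x.2.1 % 2, x.2.2)) =
      [(28, 1, 1, 1), (30, 1, 2, 1)] := by decide +kernel

theorem xg25_mul_xg27 (t s : F) :
    xg r25 t * xg r27 s = xg r27 s * xg r25 t * xg r28 (s * t) * xg r30 (s ^ 2 * t) := by
  refine Subtype.ext (Units.ext ?_)
  have := good.comm_formula (F := F) (r := 27) (s := 25) (by decide) (by decide) (by decide)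
    (by decide +kernel) s t
  simp only [Subgroup.coe_mul, coe_xg, Units.val_mul, coe_xe]
  rw [this]
  have hw : chevF4.commWord F 27 25 s t = [(28, s * t), (30, s ^ 2 * t)] := by
    have h : chevF4.commWord F 27 25 s t =
        ((chevF4.commTerms 27 25).map (fun x => (x.1, x.2.1 % 2, x.2.2))).map
          (fun c : ℕ × ℤ × ℕ × ℕ => (c.1, (c.2.1 : F) * (-s) ^ c.2.2.1 * t ^ c.2.2.2)) := by
      rw [ChevalleyDatum.commWord, List.map_map]
      refine List.map_congr_left fun x _ => ?_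
      show (x.1, _) = _
      rw [cast_mod_two x.2.1]
      rfl
    rw [h, terms_check]
    simp [CharTwo.neg_eq]
  rw [hw]
  simp [ChevalleyDatum.wordMat, mul_assoc]

/-- An element of the class of type B₂. -/
def E1 (s t p w : F) : G F := xg r27 s * xg r25 t * xg r28 p * xg r30 w

theorem E1_mul (s t p w s' t' p' w' : F) :
    E1 s t p w * E1 s' t' p' w' =
      E1 (s + s') (t + t') (p + p' + s' * t) (w + w' + s' ^ 2 * t) := by
  have c1 : ∀ x y : F, Commute (xg r27 x) (xg r28 y) := comm_hi (by decide) (by decide)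
  have c2 : ∀ x y : F, Commute (xg r27 x) (xg r30 y) := comm_hi (by decide) (by decide)
  have c3 : ∀ x y : F, Commute (xg r25 x) (xg r28 y) := comm_hi (by decide) (by decide)
  have c4 : ∀ x y : F, Commute (xg r25 x) (xg r30 y) := comm_hi (by decide) (by decide)
  have c5 : ∀ x y : F, Commute (xg r28 x) (xg r30 y) := comm_hi (by decide) (by decide)
  have hz : ∀ x y : F, Commute (xg r28 p * xg r30 w) (xg r27 x * xg r25 y) := fun x y =>
    (((c1 x p).symm.mul_right (c3 y p).symm).mul_left ((c2 x w).symm.mul_right (c4 y w).symm))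
  unfold E1
  calc xg r27 s * xg r25 t * xg r28 p * xg r30 w * (xg r27 s' * xg r25 t' * xg r28 p' * xg r30 w')
      = xg r27 s * xg r25 t * ((xg r28 p * xg r30 w) * (xg r27 s' * xg r25 t')) *
          xg r28 p' * xg r30 w' := by simp only [mul_assoc]
    _ = xg r27 s * (xg r25 t * xg r27 s') * xg r25 t' * (xg r28 p * xg r30 w) *
          xg r28 p' * xg r30 w' := by rw [(hz s' t').eq]; simp only [mul_assoc]
    _ = (xg r27 s * xg r27 s') * xg r25 t * ((xg r28 (s' * t) * xg r30 (s' ^ 2 * t)) * xg r25 t') *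
          (xg r28 p * (xg r30 w * xg r28 p')) * xg r30 w' := by
        rw [xg25_mul_xg27]; simp only [mul_assoc]
    _ = (xg r27 s * xg r27 s') * (xg r25 t * xg r25 t') *
          (xg r28 (s' * t) * (xg r30 (s' ^ 2 * t) * xg r28 (p + p')) * xg r30 w) * xg r30 w' := by
        rw [(((c3 t' (s' * t)).symm).mul_left (c4 t' (s' ^ 2 * t)).symm).eq, (c5 p' w).symm.eq,
          ← xg_add r28 p p']
        simp only [mul_assoc]
    _ = _ := by
        rw [(c5 (p + p') (s' ^ 2 * t)).symm.eq, ← mul_assoc (xg r28 (s' * t)), xg_add, xg_add, xg_add]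
        simp only [mul_assoc, xg_add]
        rw [show s' * t + (p + p') = p + p' + s' * t by ring,
          show s' ^ 2 * t + w + w' = w + w' + s' ^ 2 * t by ring]

theorem E1_zero : E1 (0 : F) 0 0 0 = 1 := by simp [E1, xg_zero]

theorem E1_eq_one {s t p w : F} (h : E1 s t p w = 1) : s = 0 ∧ t = 0 ∧ p = 0 ∧ w = 0 := by
  have e : E1 s t p w = xg r25 t * xg r27 s * xg r28 (p + s * t) * xg r30 (w + s ^ 2 * t) := by
    have c : Commute (xg r28 (s * t) * xg r30 (s ^ 2 * t)) (xg r28 (p + s * t)) :=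
      (show Commute (xg r28 (s * t)) (xg r28 (p + s * t)) from comm_hi (by decide) (by decide) _ _).mul_left
        (comm_hi (by decide) (by decide) _ _)
    rw [xg25_mul_xg27]
    unfold E1
    simp only [mul_assoc]
    congr 2
    rw [← mul_assoc, ← mul_assoc, mul_assoc (xg r28 (s * t)),
      (show Commute (xg r30 (s ^ 2 * t)) (xg r28 (p + s * t)) from
        comm_hi (by decide) (by decide) _ _).eq, ← mul_assoc, xg_add, mul_assoc, xg_add]
    rw [show s * t + (p + s * t) = p + (s * t + s * t) by ring, CharTwo.add_self_eq_zero, add_zero,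
      show s ^ 2 * t + (w + s ^ 2 * t) = w + (s ^ 2 * t + s ^ 2 * t) by ring,
      CharTwo.add_self_eq_zero, add_zero]
  rw [e] at h
  have h' : xe good 25 t * (xe good 27 s * (xe good 28 (p + s * t) * xe good 30 (w + s ^ 2 * t))) = 1 := by
    simpa [coe_xg, mul_assoc] using congrArg Subtype.val h
  have m1 : ∀ {k r : ℕ} (hr : r < 48), k ≤ r → ∀ v : F, xe good r v ∈ Uge good F k :=
    fun hr hk v => xe_mem_Uge good hr hk v
  have ht : t = 0 := by
    refine Uge_xe_eq_zero good facts (k := 25) (by decide) (by decide) ?_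
    rw [mul_eq_one_iff_eq_inv.1 h']
    exact Subgroup.inv_mem _ (Subgroup.mul_mem _ (m1 (by decide) (by decide) _)
      (Subgroup.mul_mem _ (m1 (by decide) (by decide) _) (m1 (by decide) (by decide) _)))
  rw [ht, xe_zero good (by decide), one_mul, mul_zero, mul_zero, add_zero, add_zero] at h'
  have hs : s = 0 := by
    refine Uge_xe_eq_zero good facts (k := 27) (by decide) (by decide) ?_
    rw [mul_eq_one_iff_eq_inv.1 h']
    exact Subgroup.inv_mem _ (Subgroup.mul_mem _ (m1 (by decide) (by decide) _)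
      (m1 (by decide) (by decide) _))
  rw [hs, xe_zero good (by decide), one_mul] at h'
  have hp : p = 0 := by
    refine Uge_xe_eq_zero good facts (k := 28) (by decide) (by decide) ?_
    rw [mul_eq_one_iff_eq_inv.1 h']
    exact Subgroup.inv_mem _ (m1 (by decide) (by decide) _)
  rw [hp, xe_zero good (by decide), one_mul] at h'
  refine ⟨hs, ht, hp, ?_⟩
  by_contra hw
  exact xe_ne_one good facts (by decide) hw h'

theorem E1_inv (s t p w : F) : (E1 s t p w)⁻¹ = E1 s t (p + s * t) (w + s ^ 2 * t) := by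
  apply inv_eq_of_mul_eq_one_right
  rw [E1_mul, CharTwo.add_self_eq_zero, CharTwo.add_self_eq_zero,
    show p + (p + s * t) + s * t = (p + p) + (s * t + s * t) by ring, CharTwo.add_self_eq_zero,
    CharTwo.add_self_eq_zero, add_zero,
    show w + (w + s ^ 2 * t) + s ^ 2 * t = (w + w) + (s ^ 2 * t + s ^ 2 * t) by ring,
    CharTwo.add_self_eq_zero, CharTwo.add_self_eq_zero, add_zero, E1_zero]

theorem E1_inj {s t p w s' t' p' w' : F} (h : E1 s t p w = E1 s' t' p' w') :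
    s = s' ∧ t = t' ∧ p = p' ∧ w = w' := by
  have := inv_mul_eq_one.2 h
  rw [E1_inv, E1_mul] at this
  obtain ⟨h1, h2, h3, h4⟩ := E1_eq_one this
  rw [CharTwo.add_eq_zero] at h1 h2
  subst h1 h2
  refine ⟨rfl, rfl, ?_, ?_⟩
  · rw [show p + s * t + p' + s * t = p + p' + (s * t + s * t) by ring, CharTwo.add_self_eq_zero,
      add_zero, CharTwo.add_eq_zero] at h3
    exact h3
  · rw [show w + s ^ 2 * t + w' + s ^ 2 * t = w + w' + (s ^ 2 * t + s ^ 2 * t) by ring,
      CharTwo.add_self_eq_zero, add_zero, CharTwo.add_eq_zero] at h4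
    exact h4

/-- An element of the class of type A₁ × A₁. -/
def E0 (s t : F) : G F := xg r33 s * xg r24 t

theorem comm0 (s t : F) : Commute (xg r33 s) (xg r24 t) :=
  xg_comm' (by decide) (by decide +kernel) (by decide +kernel) s t

theorem E0_mul (s t s' t' : F) : E0 s t * E0 s' t' = E0 (s + s') (t + t') := by
  rw [E0, E0, E0, ← xg_add, ← xg_add, mul_assoc, ← mul_assoc (xg r24 t), (comm0 s' t).symm.eq]
  simp only [mul_assoc]

theorem E0_inj {s t s' t' : F} (h : E0 s t = E0 s' t') : s = s' ∧ t = t' := by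
  have h0 : E0 (s + s') (t + t') = 1 := by
    rw [← E0_mul, h, E0_mul, CharTwo.add_self_eq_zero, CharTwo.add_self_eq_zero]
    simp [E0, xg_zero]
  rw [E0, (comm0 (s + s') (t + t')).eq] at h0
  have h' : xe good 24 (t + t') * xe good 33 (s + s') = 1 := congrArg Subtype.val h0
  have ht : t + t' = 0 := by
    refine Uge_xe_eq_zero good facts (k := 24) (by decide) (by decide) ?_
    rw [mul_eq_one_iff_eq_inv.1 h']
    exact Subgroup.inv_mem _ (xe_mem_Uge good (by decide) (by decide) _)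
  rw [ht, xe_zero good (by decide), one_mul] at h'
  have hs : s + s' = 0 := by
    by_contra hne
    exact xe_ne_one good facts (by decide) hne h'
  exact ⟨CharTwo.add_eq_zero.1 hs, CharTwo.add_eq_zero.1 ht⟩

theorem lam_vals (m : ℕ) :
    Iso.certF4.lam 2 m 33 = 2 ^ (m + 1) ∧ Iso.certF4.lam 2 m 24 = 2 ^ m ∧
    Iso.certF4.lam 2 m 27 = 2 ^ (m + 1) ∧ Iso.certF4.lam 2 m 25 = 2 ^ m ∧
    Iso.certF4.lam 2 m 28 = 2 ^ (m + 1) ∧ Iso.certF4.lam 2 m 30 = 2 ^ m :=
  ⟨if_pos (by decide), if_neg (by decide), if_pos (by decide), if_neg (by decide), if_pos (by decide),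
    if_neg (by decide)⟩

theorem theta_E0 (m : ℕ) (s t : F) :
    theta F m (E0 s t) = E0 (t ^ 2 ^ m) (s ^ 2 ^ (m + 1)) := by
  rw [E0, map_mul, theta_xg, theta_xg, E0, show rho r33 = r24 from by decide,
    show rho r24 = r33 from by decide, (lam_vals m).1, (lam_vals m).2.1]
  exact (comm0 _ _).symm.eq

theorem theta_E1 (m : ℕ) (s t p w : F) :
    theta F m (E1 s t p w) = E1 (t ^ 2 ^ m) (s ^ 2 ^ (m + 1))
      (w ^ 2 ^ m + t ^ 2 ^ m * s ^ 2 ^ (m + 1))
      (p ^ 2 ^ (m + 1) + (t ^ 2 ^ m) ^ 2 * s ^ 2 ^ (m + 1)) := by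
  rw [E1, map_mul, map_mul, map_mul, theta_xg, theta_xg, theta_xg, theta_xg,
    show rho r27 = r25 from by decide, show rho r25 = r27 from by decide,
    show rho r28 = r30 from by decide, show rho r30 = r28 from by decide,
    (lam_vals m).2.2.1, (lam_vals m).2.2.2.1, (lam_vals m).2.2.2.2.1, (lam_vals m).2.2.2.2.2]
  have e : ∀ a b c d : F, xg r25 a * xg r27 b * xg r30 c * xg r28 d =
      E1 0 a 0 0 * E1 b 0 0 0 * E1 0 0 0 c * E1 0 0 d 0 := by
    intro a b c d
    simp [E1, xg_zero]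
  rw [e, E1_mul, E1_mul, E1_mul]
  simp only [zero_add, add_zero, mul_zero, zero_mul, ne_eq, OfNat.ofNat_ne_zero, not_false_eq_true,
    zero_pow]
  congr 1 <;> ring

variable [Fintype F] {m : ℕ} (hK : Fintype.card F = 2 ^ (2 * m + 1))
include hK

theorem mem_Xorb0 {y : G F} : y ∈ (tw hK).Xorb (simp' 0) ↔ ∃ s t, y = E0 s t := by
  constructor
  · intro hy
    let S : Subgroup (G F) :=
      { carrier := {y | ∃ s t, y = E0 s t}
        one_mem' := ⟨0, 0, by simp [E0, xg_zero]⟩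
        mul_mem' := by
          rintro _ _ ⟨s, t, rfl⟩ ⟨s', t', rfl⟩
          exact ⟨_, _, E0_mul s t s' t'⟩
        inv_mem' := by
          rintro _ ⟨s, t, rfl⟩
          refine ⟨s, t, inv_eq_of_mul_eq_one_right ?_⟩
          rw [E0_mul, CharTwo.add_self_eq_zero, CharTwo.add_self_eq_zero]
          simp [E0, xg_zero] }
    refine (show (tw hK).Xorb (simp' 0) ≤ S from iSup₂_le fun r hr z hz => ?_) hy
    obtain ⟨v, rfl⟩ := mem_X_iff.1 hz
    have hcls : ∀ r : Rt, orb r = simp' 0 → r = r33 ∨ r = r24 := by decide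
    rcases hcls r hr with rfl | rfl
    · exact ⟨v, 0, by simp [E0, xg_zero]⟩
    · exact ⟨0, v, by simp [E0, xg_zero]⟩
  · rintro ⟨s, t, rfl⟩
    exact Subgroup.mul_mem _ (X_le_Xorb (T := tw hK) (show orb r33 = _ by decide) (xg_mem _ _))
      (X_le_Xorb (T := tw hK) (show orb r24 = _ by decide) (xg_mem _ _))

theorem mem_Xorb1 {y : G F} : y ∈ (tw hK).Xorb (simp' 1) ↔ ∃ s t p w, y = E1 s t p w := by
  constructor
  · intro hy
    let S : Subgroup (G F) :=
      { carrier := {y | ∃ s t p w, y = E1 s t p w}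
        one_mem' := ⟨0, 0, 0, 0, E1_zero.symm⟩
        mul_mem' := by
          rintro _ _ ⟨s, t, p, w, rfl⟩ ⟨s', t', p', w', rfl⟩
          exact ⟨_, _, _, _, E1_mul s t p w s' t' p' w'⟩
        inv_mem' := by
          rintro _ ⟨s, t, p, w, rfl⟩
          exact ⟨_, _, _, _, E1_inv s t p w⟩ }
    refine (show (tw hK).Xorb (simp' 1) ≤ S from iSup₂_le fun r hr z hz => ?_) hy
    obtain ⟨v, rfl⟩ := mem_X_iff.1 hz
    have hcls : ∀ r : Rt, orb r = simp' 1 → r = r27 ∨ r = r25 ∨ r = r28 ∨ r = r30 := by decide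
    rcases hcls r hr with rfl | rfl | rfl | rfl
    · exact ⟨v, 0, 0, 0, by simp [E1, xg_zero]⟩
    · exact ⟨0, v, 0, 0, by simp [E1, xg_zero]⟩
    · exact ⟨0, 0, v, 0, by simp [E1, xg_zero]⟩
    · exact ⟨0, 0, 0, v, by simp [E1, xg_zero]⟩
  · rintro ⟨s, t, p, w, rfl⟩
    exact Subgroup.mul_mem _ (Subgroup.mul_mem _ (Subgroup.mul_mem _
      (X_le_Xorb (T := tw hK) (show orb r27 = _ by decide) (xg_mem _ _))
      (X_le_Xorb (T := tw hK) (show orb r25 = _ by decide) (xg_mem _ _)))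
      (X_le_Xorb (T := tw hK) (show orb r28 = _ by decide) (xg_mem _ _)))
      (X_le_Xorb (T := tw hK) (show orb r30 = _ by decide) (xg_mem _ _))

omit [CharP F 2] in
theorem pow_half (x : F) : (x ^ 2 ^ (m + 1)) ^ 2 ^ m = x ∧ (x ^ 2 ^ m) ^ 2 ^ (m + 1) = x := by
  constructor <;> rw [← pow_mul, ← pow_add] <;> convert pow_q hK x using 3 <;> omega

/-- A fixed element of the A₁ × A₁ class. -/
def f0 (m : ℕ) (t : F) : G F := E0 (t ^ 2 ^ m) t

/-- A fixed element of the B₂ class. -/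
def f1 (m : ℕ) (t u : F) : G F := E1 (t ^ 2 ^ m) t (t ^ (2 ^ m + 1) + u) (u ^ (2 * 2 ^ m))

theorem mem_X'0 {y : G F} : y ∈ (tw hK).X' (simp' 0) ↔ ∃ t, y = f0 m t := by
  constructor
  · rintro ⟨hy, hfix⟩
    obtain ⟨s, t, rfl⟩ := (mem_Xorb0 hK).1 hy
    have h : theta F m (E0 s t) = E0 s t := mem_Fix.1 hfix
    rw [theta_E0] at h
    exact ⟨t, by rw [f0, (E0_inj h).1]⟩
  · rintro ⟨t, rfl⟩
    refine ⟨(mem_Xorb0 hK).2 ⟨_, _, rfl⟩, mem_Fix.2 ?_⟩
    show theta F m (E0 _ t) = E0 _ t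
    rw [theta_E0, (pow_half hK t).2]

theorem mem_X'1 {y : G F} : y ∈ (tw hK).X' (simp' 1) ↔ ∃ t u, y = f1 m t u := by
  constructor
  · rintro ⟨hy, hfix⟩
    obtain ⟨s, t, p, w, rfl⟩ := (mem_Xorb1 hK).1 hy
    have h : theta F m (E1 s t p w) = E1 s t p w := mem_Fix.1 hfix
    rw [theta_E1] at h
    obtain ⟨h1, h2, h3, -⟩ := E1_inj h
    subst h1
    rw [h2, ← pow_succ] at h3
    refine ⟨t, w ^ 2 ^ m, ?_⟩
    rw [f1, show t ^ (2 ^ m + 1) + w ^ 2 ^ m = p by rw [add_comm]; exact h3,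
      show (w ^ 2 ^ m) ^ (2 * 2 ^ m) = w by rw [← pow_succ']; exact (pow_half hK w).2]
  · rintro ⟨t, u, rfl⟩
    refine ⟨(mem_Xorb1 hK).2 ⟨_, _, _, _, rfl⟩, mem_Fix.2 ?_⟩
    show theta F m (f1 m t u) = f1 m t u
    rw [f1, theta_E1, (pow_half hK t).2]
    have e2 : 2 * 2 ^ m = 2 ^ (m + 1) := (pow_succ' 2 m).symm
    rw [e2, (pow_half hK u).1, ← pow_succ, add_pow_char_pow]
    rw [show u + t ^ (2 ^ m + 1) = t ^ (2 ^ m + 1) + u by ring]
    congr 1
    have h3 : (t ^ (2 ^ m + 1)) ^ 2 ^ (m + 1) = (t ^ 2 ^ m) ^ 2 * t := by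
      rw [pow_succ, mul_pow, (pow_half hK t).2, ← pow_mul, ← pow_succ, ← pow_succ]
      ring
    rw [h3, add_comm ((t ^ 2 ^ m) ^ 2 * t), add_assoc, CharTwo.add_self_eq_zero, add_zero]

omit [Fintype F] hK in
theorem coe_f0 (t : F) :
    (((f0 m t : G F) : GL chevF4.Idx F) : Matrix chevF4.Idx chevF4.Idx F) =
      chevF4.wordMat F (f4PairWord (2 ^ m) f4p1 f4p4 t) := by
  simp [f0, E0, f4PairWord, f4p1, f4p4, ChevalleyDatum.wordMat, coe_xg, coe_xe]

omit [Fintype F] hK in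
theorem coe_f1 (t u : F) :
    (((f1 m t u : G F) : GL chevF4.Idx F) : Matrix chevF4.Idx chevF4.Idx F) =
      chevF4.wordMat F (b2ClassWord (2 ^ m) f4a f4b f4ab f4aab t u) := by
  simp [f1, E1, b2ClassWord, f4a, f4b, f4ab, f4aab, ChevalleyDatum.wordMat, coe_xg, coe_xe, mul_assoc]

omit [Fintype F] hK in
theorem nn'_conj_xg (j : Fin 2) (r : Rt) (t : F) (r' : Rt) (h : ev (J j) r = r'.val) :
    (gd F).nw (J j) * xg r t * ((gd F).nw (J j))⁻¹ = xg r' t := by
  refine Subtype.ext ?_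
  simp only [Subgroup.coe_mul, Subgroup.coe_inv, coe_nw, coe_xg]
  rw [nw_conj_xe good facts (J j) r t]
  show xe good ((gd F).wl (J j) r).val t = _
  rw [wl_ev, h]

omit [Fintype F] hK in
theorem coe_neg0 (t : F) :
    ((((gd F).nw (J 0) * f0 m t * ((gd F).nw (J 0))⁻¹ : G F) : GL chevF4.Idx F) :
      Matrix chevF4.Idx chevF4.Idx F) = chevF4.wordMat F (f4PairWord (2 ^ m) f4m1 f4m4 t) := by
  rw [f0, E0, conj_mul.symm, nn'_conj_xg 0 r33 _ ⟨14, by decide⟩ (by decide +kernel),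
    nn'_conj_xg 0 r24 _ ⟨23, by decide⟩ (by decide +kernel)]
  simp [f4PairWord, f4m1, f4m4, ChevalleyDatum.wordMat, coe_xg, coe_xe]

omit [Fintype F] hK in
theorem coe_neg1 (t u : F) :
    ((((gd F).nw (J 1) * f1 m t u * ((gd F).nw (J 1))⁻¹ : G F) : GL chevF4.Idx F) :
      Matrix chevF4.Idx chevF4.Idx F) =
      chevF4.wordMat F (b2ClassWord (2 ^ m) f4ma f4mb f4mab f4maab t u) := by
  rw [f1, E1, conj_mul.symm, conj_mul.symm, conj_mul.symm,
    nn'_conj_xg 1 r27 _ ⟨20, by decide⟩ (by decide +kernel),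
    nn'_conj_xg 1 r25 _ ⟨22, by decide⟩ (by decide +kernel),
    nn'_conj_xg 1 r28 _ ⟨19, by decide⟩ (by decide +kernel),
    nn'_conj_xg 1 r30 _ ⟨17, by decide⟩ (by decide +kernel)]
  simp [b2ClassWord, f4ma, f4mb, f4mab, f4maab, ChevalleyDatum.wordMat, coe_xg, coe_xe, mul_assoc]

theorem X'_opp_eq (j : Fin 2) {y : G F} (hy : y ∈ (tw hK).X' ((tw hK).opp' (simp' j))) :
    ∃ z ∈ (tw hK).X' (simp' j), y = (gd F).nw (J j) * z * ((gd F).nw (J j))⁻¹ := by
  have hc := core hK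
  refine ⟨((tw hK).nn' j)⁻¹ * y * (tw hK).nn' j, ⟨?_, mem_Fix.2 ?_⟩, ?_⟩
  · have h := nn'_inv_conj hc (j := j) hy.1
    rwa [show simp' j = (tw hK).simp' j from rfl, ← refl'_simp' hc, refl'_refl' hc] at h
  · rw [map_mul, map_mul, map_inv, hc.σ_nn', mem_Fix.1 hy.2]
  · show y = (tw hK).nn' j * _ * ((tw hK).nn' j)⁻¹
    group

/-- The twisted group of the root data is ²F₄(q). -/
theorem map_Gt : (tw hK).Gt.map (chevF4.group F).subtype = twistedF4 F (2 ^ m) := by
  have hc := core hK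
  refine le_antisymm ?_ ?_
  · rw [Subgroup.map_le_iff_le_comap]
    set K := (twistedF4 F (2 ^ m)).comap (chevF4.group F).subtype with hKd
    have hgen : ∀ w ∈ f4Words F (2 ^ m), ∀ g : G F,
        ((g : GL chevF4.Idx F) : Matrix chevF4.Idx chevF4.Idx F) = chevF4.wordMat F w → g ∈ K :=
      fun w hw g hg => Subgroup.subset_closure ⟨w, hw, hg⟩
    have hpos : ∀ j, (tw hK).X' (simp' j) ≤ K := by
      intro j y hy
      fin_cases j
      · obtain ⟨t, rfl⟩ := (mem_X'0 hK).1 hy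
        exact hgen _ (Or.inl ⟨t, Or.inl rfl⟩) _ (coe_f0 t)
      · obtain ⟨t, u, rfl⟩ := (mem_X'1 hK).1 hy
        exact hgen _ (Or.inr ⟨t, u, Or.inl rfl⟩) _ (coe_f1 t u)
    have hneg : ∀ j, (tw hK).X' ((tw hK).opp' (simp' j)) ≤ K := by
      intro j y hy
      obtain ⟨z, hz, rfl⟩ := X'_opp_eq hK j hy
      fin_cases j
      · obtain ⟨t, rfl⟩ := (mem_X'0 hK).1 hz
        exact hgen _ (Or.inl ⟨t, Or.inr rfl⟩) _ (coe_neg0 t)
      · obtain ⟨t, u, rfl⟩ := (mem_X'1 hK).1 hz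
        exact hgen _ (Or.inr ⟨t, u, Or.inr rfl⟩) _ (coe_neg1 t u)
    refine iSup_le fun o y hy => ?_
    obtain ⟨l, j, rfl⟩ := (dax hK).reach o
    have hn : (tw hK).data.nw l ∈ K := Subgroup.list_prod_mem _ fun x hx => by
      obtain ⟨i, -, rfl⟩ := List.mem_map.1 hx
      exact nn'_mem_of hK i (hpos i) (hneg i)
    have h1 : ((tw hK).data.nw l)⁻¹ * y * (tw hK).data.nw l ∈ (tw hK).X' (simp' j) := by
      apply ((RootBN.Data.acts_nw (dax hK) l) (simp' j) _).1
      simp only [mul_assoc, mul_inv_cancel_left, mul_inv_cancel, mul_one]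
      exact hy
    have h2 := K.mul_mem (K.mul_mem hn (hpos j h1)) (K.inv_mem hn)
    simpa [mul_assoc] using h2
  · rw [twistedF4, ChevalleyDatum.genSubgroup, Subgroup.closure_le]
    rintro g ⟨w, hw, hg⟩
    have key : ∀ z : G F, z ∈ (tw hK).Gt →
        ((z : GL chevF4.Idx F) : Matrix chevF4.Idx chevF4.Idx F) = chevF4.wordMat F w →
        g ∈ (tw hK).Gt.map (chevF4.group F).subtype :=
      fun z hz e => ⟨z, hz, Units.ext (e.trans hg.symm)⟩
    have hconj : ∀ j, ∀ z ∈ (tw hK).X' (simp' j),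
        (gd F).nw (J j) * z * ((gd F).nw (J j))⁻¹ ∈ (tw hK).Gt := fun j z hz =>
      Subgroup.mul_mem _ (Subgroup.mul_mem _ (nn'_mem hK j) (X'_le_Gt _ hz))
        (Subgroup.inv_mem _ (nn'_mem hK j))
    rcases hw with ⟨t, rfl | rfl⟩ | ⟨t, u, rfl | rfl⟩
    · exact key _ (X'_le_Gt _ ((mem_X'0 hK).2 ⟨t, rfl⟩)) (coe_f0 t)
    · exact key _ (hconj 0 _ ((mem_X'0 hK).2 ⟨t, rfl⟩)) (coe_neg0 t)
    · exact key _ (X'_le_Gt _ ((mem_X'1 hK).2 ⟨t, u, rfl⟩)) (coe_f1 t u)
    · exact key _ (hconj 1 _ ((mem_X'1 hK).2 ⟨t, u, rfl⟩)) (coe_neg1 t u)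

end Cfsg.Agent.Twisted.F4
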