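/-
²F₄(q) inside the Chevalley group: the intersections with B, U, N, the order of U.
-/
import Cfsg.Agent.Lib.Twisted.F4.Elements

set_option autoImplicit false

namespace Cfsg.Agent.Twisted.F4

open Cfsg.Lie Chev BNSetup Matrix
open Cfsg.Agent.RootBN (OTwist)
open Cfsg.Agent.RootBN.OTwist

theorem charP_two {K : Type*} [Field K] [Fintype K] {m : ℕ}
    (hK : Fintype.card K = 2 ^ (2 * m + 1)) : CharP K 2 := charP_of_card_eq_prime_pow hK

variable {F : Type*} [Field F] [CharP F 2] [Fintype F] {m : ℕ}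
  (hK : Fintype.card F = 2 ^ (2 * m + 1))
include hK

theorem map_inf_Gt (P : Subgroup (G F)) :
    (P ⊓ (tw hK).Gt).map (chevF4.group F).subtype =
      P.map (chevF4.group F).subtype ⊓ twistedF4 F (2 ^ m) := by
  rw [Subgroup.map_inf _ _ _ (Subgroup.subtype_injective _), map_Gt hK]

theorem U_inf_twisted :
    chevF4.posUnipotent F ⊓ twistedF4 F (2 ^ m) = (tw hK).data.U.map (chevF4.group F).subtype := by
  rw [← inf_Gt_U (axioms hK), map_inf_Gt hK, map_gdata_U good facts]

theorem B_inf_twisted :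
    chevF4.borelSubgroup F ⊓ twistedF4 F (2 ^ m) = (tw hK).data.B.map (chevF4.group F).subtype := by
  rw [← inf_Gt_B (axioms hK), map_inf_Gt hK, map_gdata_B good facts]

theorem N_inf_twisted :
    chevF4.monomialSubgroup F ⊓ twistedF4 F (2 ^ m) =
      (tw hK).data.N.map (chevF4.group F).subtype := by
  rw [← inf_Gt_N (axioms hK), map_inf_Gt hK, map_gdata_N good facts]

theorem H_inf_twisted :
    chevF4.diagonalSubgroup F ⊓ twistedF4 F (2 ^ m) =
      (tw hK).data.H.map (chevF4.group F).subtype := by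
  show _ = ((gd F).H ⊓ (tw hK).Gt).map _
  rw [map_inf_Gt hK, map_gdata_H good facts]

theorem grp_eq : (tw hK).data.grp = (tw hK).Gt := rfl

/-- The order of the fixed elements of a simple class. -/
theorem card_X'_simp (j : Fin 2) :
    Nat.card ((tw hK).X' (simp' j)) = Fintype.card F ^ (j.val + 1) := by
  fin_cases j
  · show Nat.card ((tw hK).X' (simp' 0)) = Fintype.card F ^ 1
    rw [pow_one, ← Nat.card_eq_fintype_card]
    symm
    refine Nat.card_congr (Equiv.ofBijective (fun t : F =>
      (⟨f0 m t, (mem_X'0 hK).2 ⟨t, rfl⟩⟩ : (tw hK).X' (simp' 0))) ⟨?_, ?_⟩)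
    · intro t t' h
      exact (E0_inj (congrArg Subtype.val h)).2
    · rintro ⟨y, hy⟩
      obtain ⟨t, rfl⟩ := (mem_X'0 hK).1 hy
      exact ⟨t, rfl⟩
  · show Nat.card ((tw hK).X' (simp' 1)) = Fintype.card F ^ 2
    rw [sq, ← Nat.card_eq_fintype_card, ← Nat.card_prod]
    symm
    refine Nat.card_congr (Equiv.ofBijective (fun p : F × F =>
      (⟨f1 m p.1 p.2, (mem_X'1 hK).2 ⟨p.1, p.2, rfl⟩⟩ : (tw hK).X' (simp' 1))) ⟨?_, ?_⟩)
    · intro p q h
      obtain ⟨-, h2, h3, -⟩ := E1_inj (congrArg Subtype.val h)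
      rw [h2] at h3
      exact Prod.ext h2 (add_left_cancel h3)
    · rintro ⟨y, hy⟩
      obtain ⟨t, u, rfl⟩ := (mem_X'1 hK).1 hy
      exact ⟨(t, u), rfl⟩

/-- The order of the fixed elements of a class. -/
theorem card_X' (o : Fin 16) :
    Nat.card ((tw hK).X' o) = Fintype.card F ^ ((reachW o).2.val + 1) := by
  have e : (tw hK).data.wl (reachW o).1 (simp' (reachW o).2) = o := by
    conv_rhs => rw [← reach_check o]
    induction (reachW o).1 with
    | nil => rfl
    | cons i l ih => rw [RootBN.Data.wl_cons, Equiv.Perm.mul_apply, List.foldr_cons, ih]; rfl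
  rw [← card_X'_simp hK]
  symm
  refine Nat.card_congr (Equiv.subtypeEquiv (MulAut.conj ((tw hK).data.nw (reachW o).1)).toEquiv
    fun y => ?_)
  have h := (RootBN.Data.acts_nw (dax hK) (reachW o).1) (simp' (reachW o).2) y
  rw [e] at h
  exact h.symm

theorem card_U : Nat.card (tw hK).data.U = Fintype.card F ^ 12 := by
  rw [card_U' (axioms hK) (longest hK 0), roots_eq hK]
  have h : ((rootsOf (0 :: cov 0)).map fun o => (reachW o).2.val + 1).sum = 12 := by decide
  rw [← h]
  generalize rootsOf (0 :: cov 0) = L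
  induction L with
  | nil => simp
  | cons o L ih => rw [List.map_cons, List.prod_cons, List.map_cons, List.sum_cons, pow_add, ih, card_X' hK]

end Cfsg.Agent.Twisted.F4
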