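/-
The torus of ²F₄(q): two copies of the multiplicative group of the field.
-/
import Cfsg.Agent.Lib.Twisted.F4.Group
import Cfsg.Agent.Lib.Chev.TorusCert

set_option autoImplicit false

namespace Cfsg.Agent.Twisted.F4

open Cfsg.Lie Chev BNSetup Matrix
open Cfsg.Agent.RootBN (OTwist)
open Cfsg.Agent.RootBN.OTwist

variable {F : Type*} [Field F]

theorem diagonal_le_group : chevF4.diagonalSubgroup F ≤ chevF4.group F :=
  (le_sup_right : chevF4.diagonalSubgroup F ≤ chevF4.borelSubgroup F).trans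
    (borel_le_group good facts)

theorem torusHom_mem_H (c : Nd → Fˣ) : torusHom F chevF4 c ∈ chevF4.diagonalSubgroup F := by
  rw [diagonal_eq_range good]
  exact ⟨c, rfl⟩

/-- The torus map into the group. -/
def tG (F : Type*) [Field F] : (Nd → Fˣ) →* G F :=
  (torusHom F chevF4).codRestrict (chevF4.group F) fun c => diagonal_le_group (torusHom_mem_H c)

theorem tG_mem (c : Nd → Fˣ) : tG F c ∈ (gd F).H := torusHom_mem_H c

theorem exists_tG {h : G F} (hh : h ∈ (gd F).H) : ∃ c, h = tG F c := by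
  obtain ⟨c, hc⟩ := (diagonal_eq_range (F := F) good).le hh
  exact ⟨c, Subtype.ext hc.symm⟩

/-- The element `h_r(t)` in the group. -/
def hG (r : Rt) (t : F) : G F :=
  ⟨ne' good r.val t, ne'_mem_group good r.2 t⟩ * ⟨ne' good r.val (-1), ne'_mem_group good r.2 (-1)⟩

theorem coe_hG (r : Rt) (t : F) : ((hG r t : G F) : GL chevF4.Idx F) = he good r.val t := rfl

theorem tG_single (i : Nd) (t : Fˣ) : tG F (Pi.mulSingle i t) = hG (sr i) (t : F) :=
  Subtype.ext (torusHom_single good i t)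

theorem hG_eq_tG (r : Rt) (t : Fˣ) :
    hG r (t : F) = tG F (fun i => t ^ ((chevF4.coroot.getD r.val #[]).getD i.val 0)) :=
  Subtype.ext (he_eq_torusHom good r.2 t)

variable [Fintype F]

theorem tG_injective : Function.Injective (tG F) := by
  have h := card_ker_torusHom good (F := F) kerCertF4 kerCertF4_valid
  rw [pow_zero] at h
  have hk : (torusHom F chevF4).ker = ⊥ := Subgroup.eq_bot_of_card_eq _ h
  intro a b e
  exact (MonoidHom.ker_eq_bot_iff _).1 hk (congrArg Subtype.val e)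

variable [CharP F 2] {m : ℕ}

omit [Fintype F] in
theorem theta_hG (m : ℕ) (r : Rt) (t : F) :
    theta F m (hG r t) = hG (rho r) (t ^ Iso.certF4.lam 2 m r.val) := by
  rw [hG, map_mul, theta_ne_gen m r t, theta_ne_gen m r (-1)]
  refine congrArg₂ (· * ·) rfl (Subtype.ext (congrArg (ne' good (rho r).val) ?_))
  rw [CharTwo.neg_eq, one_pow]

theorem flip_flip : ∀ i : Nd, flip (flip i) = i := by decide

/-- The action of the endomorphism on the coordinates of the torus. -/
def thetaC (m : ℕ) (c : Nd → Fˣ) : Nd → Fˣ :=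
  fun i => c (flip i) ^ Iso.certF4.lam 2 m (sr (flip i)).val

omit [Fintype F] in
theorem theta_tG (m : ℕ) (c : Nd → Fˣ) : theta F m (tG F c) = tG F (thetaC m c) := by
  have hmul : ∀ a b : Nd → Fˣ, thetaC (F := F) m (a * b) = thetaC m a * thetaC m b := fun a b =>
    funext fun i => mul_pow _ _ _
  rw [← Finset.univ_prod_mulSingle c]
  refine Finset.prod_induction _ (fun c => theta F m (tG F c) = tG F (thetaC m c)) ?_ ?_ fun i _ => ?_
  · intro a b ha hb
    simp only [map_mul, ha, hb, hmul]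
  · simp only [map_one]
    rw [show thetaC (F := F) m 1 = 1 from funext fun i => one_pow _, map_one]
  · show theta F m (tG F (Pi.mulSingle i (c i))) = tG F (thetaC m (Pi.mulSingle i (c i)))
    rw [tG_single, theta_hG, show rho (sr i) = sr (flip i) from Fin.ext (flip_check i),
      ← Units.val_pow_eq_pow_val, ← tG_single]
    congr 1
    funext k
    by_cases h : k = flip i
    · subst h
      simp [thetaC, flip_flip]
    · have h' : flip k ≠ i := fun e => h (by rw [← e, flip_flip])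
      simp [thetaC, Pi.mulSingle_eq_of_ne h, Pi.mulSingle_eq_of_ne h']

/-- The coordinates of the fixed torus. -/
def cvec (F : Type*) [Field F] (m : ℕ) : Fˣ × Fˣ →* (Nd → Fˣ) where
  toFun p := fun i => [p.1 ^ 2 ^ m, p.2 ^ 2 ^ m, p.2, p.1].getD i.val 1
  map_one' := by funext i; fin_cases i <;> simp
  map_mul' a b := by funext i; fin_cases i <;> simp [mul_pow]

variable (hK : Fintype.card F = 2 ^ (2 * m + 1))
include hK

omit [CharP F 2] in
theorem units_half (x : Fˣ) :
    (x ^ 2 ^ (m + 1)) ^ 2 ^ m = x ∧ (x ^ 2 ^ m) ^ 2 ^ (m + 1) = x := by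
  constructor <;> apply Units.ext <;> simp only [Units.val_pow_eq_pow_val] <;>
    rw [← pow_mul, ← pow_add] <;> convert pow_q hK (x : F) using 3 <;> omega

omit [CharP F 2] in
theorem thetaC_fixed_iff (c : Nd → Fˣ) : thetaC m c = c ↔ ∃ p, c = cvec F m p := by
  have hl : Iso.certF4.lam 2 m (sr ⟨0, by decide⟩).val = 2 ^ (m + 1) ∧
      Iso.certF4.lam 2 m (sr ⟨1, by decide⟩).val = 2 ^ (m + 1) ∧
      Iso.certF4.lam 2 m (sr ⟨2, by decide⟩).val = 2 ^ m ∧
      Iso.certF4.lam 2 m (sr ⟨3, by decide⟩).val = 2 ^ m :=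
    ⟨if_pos (by decide), if_pos (by decide), if_neg (by decide), if_neg (by decide)⟩
  constructor
  · intro h
    refine ⟨(c ⟨3, by decide⟩, c ⟨2, by decide⟩), funext fun i => ?_⟩
    have h0 := congrFun h ⟨0, by decide⟩
    have h1 := congrFun h ⟨1, by decide⟩
    simp only [thetaC, show flip (⟨0, by decide⟩ : Nd) = ⟨3, by decide⟩ from rfl,
      show flip (⟨1, by decide⟩ : Nd) = ⟨2, by decide⟩ from rfl, hl] at h0 h1
    fin_cases i
    · exact h0.symm
    · exact h1.symm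
    · rfl
    · rfl
  · rintro ⟨⟨a, b⟩, rfl⟩
    funext i
    fin_cases i <;> simp only [thetaC]
    · exact (congrArg (a ^ ·) hl.2.2.2 : _)
    · exact (congrArg (b ^ ·) hl.2.2.1 : _)
    · exact (congrArg ((b ^ 2 ^ m) ^ ·) hl.2.1 : _).trans (units_half hK b).2
    · exact (congrArg ((a ^ 2 ^ m) ^ ·) hl.1 : _).trans (units_half hK a).2

omit hK in
theorem theta_nn_conj_check : ev (J 1) r33 = 37 ∧ ev (J 1) r24 = 32 ∧
    ev (J 0) r33 = 14 ∧ ev (J 0) r24 = 23 := by decide +kernel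

omit hK in
theorem coroot_check :
    (∀ i : Nd, (chevF4.coroot.getD 37 #[]).getD i.val 0 = ([1, 2, 2, 0] : List ℤ).getD i.val 0) ∧
    (∀ i : Nd, (chevF4.coroot.getD 32 #[]).getD i.val 0 = ([0, 1, 2, 1] : List ℤ).getD i.val 0) ∧
    (∀ i : Nd, (chevF4.coroot.getD 33 #[]).getD i.val 0 = ([1, 0, 0, 0] : List ℤ).getD i.val 0) ∧
    (∀ i : Nd, (chevF4.coroot.getD 24 #[]).getD i.val 0 = ([0, 0, 0, 1] : List ℤ).getD i.val 0) := by
  decide +kernel

omit [Fintype F] hK in
theorem pair_comm : ∀ (s t : F), Commute (xg r33 s) (xg (⟨23, by decide⟩ : Rt) t) ∧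
    Commute (xg r24 s) (xg (⟨14, by decide⟩ : Rt) t) := fun s t =>
  ⟨xg_comm' (by decide) (by decide +kernel) (by decide +kernel) s t,
    xg_comm' (by decide) (by decide +kernel) (by decide +kernel) s t⟩

/-- The pair torus elements lie in the twisted group. -/
theorem pair_torus_mem (t : Fˣ) :
    hG r33 ((t : F) ^ 2 ^ m) * hG r24 (t : F) ∈ (tw hK).Gt := by
  set n := (tw hK).nn' 0
  have hn := nn'_mem hK 0
  let Ns : F → G F := fun s =>
    (⟨ne' good 33 (s ^ 2 ^ m), ne'_mem_group good (by decide) _⟩ : G F) *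
      ⟨ne' good 24 s, ne'_mem_group good (by decide) _⟩
  have key : ∀ s : F, Ns s ∈ (tw hK).Gt := by
    intro s
    have h : Ns s = f0 m s * (n * f0 m s⁻¹ * n⁻¹) * f0 m s := by
      have hc : n * f0 m s⁻¹ * n⁻¹ =
          xg (⟨14, by decide⟩ : Rt) (s⁻¹ ^ 2 ^ m) * xg (⟨23, by decide⟩ : Rt) s⁻¹ := by
        show (gd F).nw (J 0) * f0 m s⁻¹ * ((gd F).nw (J 0))⁻¹ = _
        rw [f0, E0, conj_mul.symm, nn'_conj_xg 0 r33 _ ⟨14, by decide⟩ theta_nn_conj_check.2.2.1,
          nn'_conj_xg 0 r24 _ ⟨23, by decide⟩ theta_nn_conj_check.2.2.2]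
      rw [hc, f0, E0]
      set A := xg r33 (s ^ 2 ^ m)
      set B := xg r24 s
      set C := xg (⟨14, by decide⟩ : Rt) (s⁻¹ ^ 2 ^ m)
      set D := xg (⟨23, by decide⟩ : Rt) s⁻¹
      have h1 : Commute B C := (pair_comm s _).2
      have h2 : Commute A D := (pair_comm _ _).1
      have h3 : Commute A B := comm0 _ _
      have e : Ns s = (A * C * A) * (B * D * B) := Subtype.ext (by
        simp only [Ns, A, B, C, D, Subgroup.coe_mul, coe_xg, ne', CharTwo.neg_eq, inv_pow]
        rfl)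
      rw [e]
      calc A * C * A * (B * D * B) = A * C * (A * (B * D)) * B := by simp only [mul_assoc]
        _ = A * C * ((B * D) * A) * B := by rw [(h3.mul_right h2).eq]
        _ = A * (C * B) * D * A * B := by simp only [mul_assoc]
        _ = A * (B * C) * D * A * B := by rw [h1.eq]
        _ = A * B * (C * D) * (A * B) := by simp only [mul_assoc]
    rw [h]
    have hm := (mem_X'0 hK).2 ⟨s, rfl⟩
    have hm' := (mem_X'0 hK).2 ⟨s⁻¹, rfl⟩
    exact Subgroup.mul_mem _ (Subgroup.mul_mem _ (X'_le_Gt _ hm)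
      (Subgroup.mul_mem _ (Subgroup.mul_mem _ hn (X'_le_Gt _ hm')) (Subgroup.inv_mem _ hn)))
      (X'_le_Gt _ hm)
  have hcomm : Commute (⟨ne' good 33 (-1 : F), ne'_mem_group good (by decide) _⟩ : G F)
      ⟨ne' good 24 (t : F), ne'_mem_group good (by decide) _⟩ := by
    have e : ∀ (r : Rt) (x : F), (⟨ne' good r.val x, ne'_mem_group good r.2 x⟩ : G F) =
        xg r x * xg (opp r) (-x⁻¹) * xg r x := fun r x => Subtype.ext rfl
    have hcc : ∀ (x y : F), Commute (xg (opp r33) x) (xg (opp r24) y) := fun x y =>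
      xg_comm' (by decide) (by decide +kernel) (by decide +kernel) x y
    have hx : ∀ x y : F, Commute (xg (opp r33) x) (xg r24 y) := fun x y => by
      rw [show opp r33 = (⟨14, by decide⟩ : Rt) from by decide]
      exact ((pair_comm y x).2).symm
    have hy : ∀ x y : F, Commute (xg r33 x) (xg (opp r24) y) := fun x y => by
      rw [show opp r24 = (⟨23, by decide⟩ : Rt) from by decide]
      exact (pair_comm x y).1
    rw [e r33 (-1), e r24 (t : F)]
    exact ((((comm0 _ _).mul_right (hy _ _)).mul_right (comm0 _ _)).mul_left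
      (((hx _ _).mul_right (hcc _ _)).mul_right (hx _ _))).mul_left
      (((comm0 _ _).mul_right (hy _ _)).mul_right (comm0 _ _))
  have e : hG r33 ((t : F) ^ 2 ^ m) * hG r24 (t : F) = Ns (t : F) * Ns (-1) := by
    simp only [hG, Ns, mul_assoc]
    rw [← mul_assoc (⟨ne' good 33 (-1 : F), _⟩ : G F), hcomm.eq, mul_assoc]
    rw [show ((-1 : F)) ^ 2 ^ m = -1 by rw [CharTwo.neg_eq, one_pow]]
  rw [e]
  exact Subgroup.mul_mem _ (key _) (key _)

theorem tG_cvec_one_mem (a : Fˣ) : tG F (cvec F m (a, 1)) ∈ (tw hK).Gt := by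
  have e : tG F (cvec F m (a, 1)) = hG r33 ((a : F) ^ 2 ^ m) * hG r24 (a : F) := by
    rw [← Units.val_pow_eq_pow_val, hG_eq_tG, hG_eq_tG, ← map_mul]
    congr 1
    funext i
    simp only [Pi.mul_apply, coroot_check.2.2.1 i, coroot_check.2.2.2 i]
    fin_cases i <;> simp [cvec]
  rw [e]
  exact pair_torus_mem hK a

theorem tG_cvec_conj_mem (t : Fˣ) :
    tG F (cvec F m (t, t ^ (2 * 2 ^ m + 2))) ∈ (tw hK).Gt := by
  set n := (tw hK).nn' 1
  have e : tG F (cvec F m (t, t ^ (2 * 2 ^ m + 2))) =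
      n * (hG r33 ((t : F) ^ 2 ^ m) * hG r24 (t : F)) * n⁻¹ := by
    have hconj : ∀ (r r' : Rt), ev (J 1) r = r'.val → ∀ x : F,
        n * hG r x * n⁻¹ = hG r' x := by
      intro r r' h x
      have h' : ev (J 1) (opp r) = (opp r').val := by
        have e1 := congrArg Fin.val (RootBN.Data.wl_opp (ax (F := F)) (J 1) r)
        rw [wl_ev (F := F)] at e1
        refine e1.trans ?_
        show chevF4.neg ((gd F).wl (J 1) r).val = chevF4.neg r'.val
        rw [wl_ev, h]
      have hne : ∀ y : F, n * (⟨ne' good r.val y, ne'_mem_group good r.2 y⟩ : G F) * n⁻¹ =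
          ⟨ne' good r'.val y, ne'_mem_group good r'.2 y⟩ := by
        intro y
        rw [show (⟨ne' good r.val y, ne'_mem_group good r.2 y⟩ : G F) =
          xg r y * xg (opp r) (-y⁻¹) * xg r y from rfl]
        show (gd F).nw (J 1) * _ * ((gd F).nw (J 1))⁻¹ = _
        rw [conj_mul.symm, conj_mul.symm, nn'_conj_xg 1 r _ r' h, nn'_conj_xg 1 (opp r) _ (opp r') h']
        rfl
      rw [hG, hG, ← conj_mul, hne, hne]
    rw [← conj_mul, hconj r33 ⟨37, by decide⟩ theta_nn_conj_check.1,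
      hconj r24 ⟨32, by decide⟩ theta_nn_conj_check.2.1, ← Units.val_pow_eq_pow_val, hG_eq_tG,
      hG_eq_tG, ← map_mul]
    congr 1
    funext i
    simp only [Pi.mul_apply, coroot_check.1 i, coroot_check.2.1 i]
    have hh : (t ^ 2 ^ m) ^ (2 * 2 ^ m) = t := by
      rw [← pow_succ']; exact (units_half hK t).2
    fin_cases i
    · simp [cvec]
    · show (t ^ (2 * 2 ^ m + 2)) ^ 2 ^ m = (t ^ 2 ^ m) ^ (2 : ℤ) * t ^ (1 : ℤ)
      rw [zpow_one, show (2 : ℤ) = ((2 : ℕ) : ℤ) from rfl, zpow_natCast, ← pow_mul, ← pow_mul,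
        add_mul, pow_add, show 2 * 2 ^ m * 2 ^ m = 2 ^ m * (2 * 2 ^ m) by ring, pow_mul t (2 ^ m), hh,
        show 2 * 2 ^ m = 2 ^ m * 2 by ring, mul_comm]
    · show t ^ (2 * 2 ^ m + 2) = (t ^ 2 ^ m) ^ (2 : ℤ) * t ^ (2 : ℤ)
      rw [show (2 : ℤ) = ((2 : ℕ) : ℤ) from rfl, zpow_natCast, zpow_natCast, ← pow_mul, pow_add,
        show 2 * 2 ^ m = 2 ^ m * 2 by ring]
    · simp [cvec]
  rw [e]
  exact Subgroup.mul_mem _ (Subgroup.mul_mem _ (nn'_mem hK 1) (pair_torus_mem hK t))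
    (Subgroup.inv_mem _ (nn'_mem hK 1))

omit [CharP F 2] in
theorem exponent_injective [CharP F 2] :
    Function.Injective (fun t : Fˣ => t ^ (2 * 2 ^ m + 2)) := by
  have key : ∀ t : Fˣ, t ^ (2 * 2 ^ m + 2) = 1 → t = 1 := by
    intro t h
    have h1 : (t : F) ^ (2 ^ m + 1) = 1 := by
      have h' : ((t : F) ^ (2 ^ m + 1)) ^ 2 = 1 := by
        rw [← pow_mul, show (2 ^ m + 1) * 2 = 2 * 2 ^ m + 2 by ring, ← Units.val_pow_eq_pow_val, h,
          Units.val_one]
      rw [← CharTwo.add_eq_zero, ← sq_eq_zero_iff, CharTwo.add_sq, h', one_pow,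
        CharTwo.add_self_eq_zero]
    have h2 : t ^ 2 ^ m = t⁻¹ := by
      refine eq_inv_of_mul_eq_one_left (Units.ext ?_)
      rw [← pow_succ, Units.val_pow_eq_pow_val, h1, Units.val_one]
    have h3 := (units_half hK t).2
    rw [h2, pow_succ, pow_mul, inv_pow, h2, inv_inv, sq] at h3
    exact mul_left_cancel (h3.trans (mul_one t).symm)
  intro a b h
  have : (a * b⁻¹) ^ (2 * 2 ^ m + 2) = 1 := by rw [mul_pow, inv_pow]; exact mul_inv_eq_one.2 h
  exact mul_inv_eq_one.1 (key _ this)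

theorem tG_cvec_mem (p : Fˣ × Fˣ) : tG F (cvec F m p) ∈ (tw hK).Gt := by
  obtain ⟨a, b⟩ := p
  obtain ⟨t, ht⟩ := (Finite.injective_iff_surjective.1 (exponent_injective hK)) b
  dsimp only at ht
  have e : ((a, b) : Fˣ × Fˣ) = (a * t⁻¹, 1) * (t, t ^ (2 * 2 ^ m + 2)) := by
    rw [Prod.mk_mul_mk, inv_mul_cancel_right, one_mul, ht]
  rw [e, map_mul, map_mul]
  exact Subgroup.mul_mem _ (tG_cvec_one_mem hK _) (tG_cvec_conj_mem hK t)

/-- The torus of the twisted group. -/
theorem mem_H'_iff {h : G F} : h ∈ (tw hK).data.H ↔ ∃ p, h = tG F (cvec F m p) := by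
  constructor
  · rintro ⟨hh, hG'⟩
    obtain ⟨c, rfl⟩ := exists_tG hh
    have h1 : theta F m (tG F c) = tG F c := mem_Fix.1 (Gt_le_Fix hG')
    rw [theta_tG] at h1
    obtain ⟨p, hp⟩ := (thetaC_fixed_iff hK c).1 (tG_injective h1)
    exact ⟨p, by rw [hp]⟩
  · rintro ⟨p, rfl⟩
    exact ⟨tG_mem _, tG_cvec_mem hK p⟩

/-- The order of the torus of the twisted group. -/
theorem card_H : Nat.card (tw hK).data.H = (Fintype.card F - 1) ^ 2 := by
  classical
  have e : Nat.card (Fˣ × Fˣ) = (Fintype.card F - 1) ^ 2 := by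
    rw [Nat.card_prod, Nat.card_eq_fintype_card, Fintype.card_units, sq]
  rw [← e]
  symm
  refine Nat.card_congr (Equiv.ofBijective (fun p : Fˣ × Fˣ =>
    (⟨tG F (cvec F m p), (mem_H'_iff hK).2 ⟨p, rfl⟩⟩ : (tw hK).data.H)) ⟨?_, ?_⟩)
  · intro p q h
    have h' := tG_injective (congrArg Subtype.val h)
    exact Prod.ext (congrFun h' ⟨3, show 3 < 4 by decide⟩) (congrFun h' ⟨2, show 2 < 4 by decide⟩)
  · rintro ⟨h, hh⟩
    obtain ⟨p, rfl⟩ := (mem_H'_iff hK).1 hh
    exact ⟨p, rfl⟩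

end Cfsg.Agent.Twisted.F4
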