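/-
The Weyl group of ²F₄: dihedral of order 16; the order of the group; N¹/H¹.
-/
import Cfsg.Agent.Lib.Twisted.F4.Torus
import Cfsg.Agent.Lib.Twisted.OrbitTwist.MapData

set_option autoImplicit false

namespace Cfsg.Agent.Twisted.F4

open Cfsg.Lie Chev BNSetup Matrix
open Cfsg.Agent.RootBN (OTwist)
open Cfsg.Agent.RootBN.OTwist

/-- The action of a word on the classes. -/
def act (d : List (Fin 2)) (o : Fin 16) : Fin 16 := d.foldr (fun i x => reflTab i x) o

/-- The elements of the Weyl group as ascending words. -/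
def reps : List (List (Fin 2)) :=
  [[], [0], [1], [1, 0], [0, 1], [0, 1, 0], [1, 0, 1], [1, 0, 1, 0], [0, 1, 0, 1], [0, 1, 0, 1, 0],
    [1, 0, 1, 0, 1], [1, 0, 1, 0, 1, 0], [0, 1, 0, 1, 0, 1], [0, 1, 0, 1, 0, 1, 0],
    [1, 0, 1, 0, 1, 0, 1], [1, 0, 1, 0, 1, 0, 1, 0]]

theorem reps_closed : ∀ i : Fin 2, ∀ d ∈ reps, ∃ d' ∈ reps, ∀ o, act (i :: d) o = act d' o := by
  decide +kernel

theorem reps_distinct : (reps.map fun d => List.ofFn (act d)).Nodup := by decide +kernel

/-- Whether a word is ascending. -/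
def ascB : List (Fin 2) → Bool
  | [] => true
  | a :: e => decide (24 ≤ (rep (act e.reverse (simp' a))).val) && ascB e

theorem reps_asc : ∀ d ∈ reps, ascB d = true := by decide +kernel

theorem asc_suffix : ∀ {d : List (Fin 2)}, ascB d = true → ∀ (a : Fin 2) (e : List (Fin 2)),
    a :: e <:+ d → 24 ≤ (rep (act e.reverse (simp' a))).val
  | [], _, a, e, h => by simp at h
  | b :: d, hd, a, e, h => by
    simp only [ascB, Bool.and_eq_true, decide_eq_true_eq] at hd
    rcases List.suffix_cons_iff.1 h with h | h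
    · obtain ⟨rfl, rfl⟩ := List.cons.inj h
      exact hd.1
    · exact asc_suffix hd.2 a e h

/-- The Weyl group as permutations of the classes. -/
def rotT (k : ℕ) : Equiv.Perm (Fin 16) :=
  (Function.Involutive.toPerm (reflTab 0) (reflTab_invol 0) *
    Function.Involutive.toPerm (reflTab 1) (reflTab_invol 1)) ^ k

/-- The permutation attached to an element of the dihedral group. -/
def dihPerm : DihedralGroup 8 → Equiv.Perm (Fin 16)
  | .r k => rotT k.val
  | .sr k => Function.Involutive.toPerm (reflTab 0) (reflTab_invol 0) * rotT k.val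

theorem dihPerm_mul : ∀ a b : DihedralGroup 8, ∀ o, dihPerm (a * b) o = dihPerm a (dihPerm b o) := by
  decide +kernel

theorem dihPerm_injective : ∀ a : DihedralGroup 8, (∀ o, dihPerm a o = o) → a = 1 := by decide +kernel

/-- The dihedral group acting on the classes. -/
def dih : DihedralGroup 8 →* Equiv.Perm (Fin 16) :=
  MonoidHom.mk' dihPerm fun a b => Equiv.ext (dihPerm_mul a b)

theorem dih_injective : Function.Injective dih :=
  (injective_iff_map_eq_one _).2 fun a h => dihPerm_injective a fun o => congrArg (fun σ => σ o) h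

theorem dih_gen : ∀ i : Fin 2, ∃ a : DihedralGroup 8, ∀ o, dihPerm a o = reflTab i o := by
  decide +kernel

theorem dih_words : ∀ a : DihedralGroup 8, ∃ d ∈ reps, ∀ o, act d o = dihPerm a o := by decide +kernel

variable {F : Type*} [Field F] [CharP F 2] [Fintype F] {m : ℕ}
  (hK : Fintype.card F = 2 ^ (2 * m + 1))
include hK

theorem wl_act (d : List (Fin 2)) (o : Fin 16) : (tw hK).data.wl d o = act d o := by
  induction d with
  | nil => rfl
  | cons i d ih => rw [RootBN.Data.wl_cons, Equiv.Perm.mul_apply, ih]; rfl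

theorem weyl_eq [DecidableEq (Equiv.Perm (Fin 16))] :
    (tw hK).data.weyl = (reps.map (tw hK).data.wl).toFinset := by
  ext σ
  rw [RootBN.Data.mem_weyl, List.mem_toFinset, List.mem_map]
  constructor
  · rintro ⟨l, rfl⟩
    induction l with
    | nil => exact ⟨[], by decide, rfl⟩
    | cons i l ih =>
      obtain ⟨d, hd, e⟩ := ih
      obtain ⟨d', hd', e'⟩ := reps_closed i d hd
      refine ⟨d', hd', Equiv.ext fun o => ?_⟩
      rw [RootBN.Data.wl_cons, ← e, ← RootBN.Data.wl_cons, wl_act hK, wl_act hK, e']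
  · rintro ⟨d, -, rfl⟩
    exact ⟨d, rfl⟩

theorem wl_nodup : (reps.map (tw hK).data.wl).Nodup := by
  refine List.Nodup.of_map (fun σ : Equiv.Perm (Fin 16) => List.ofFn σ) ?_
  rw [List.map_map]
  have : ((fun σ : Equiv.Perm (Fin 16) => List.ofFn σ) ∘ (tw hK).data.wl) =
      fun d => List.ofFn (act d) := funext fun d => congrArg List.ofFn (funext (wl_act hK d))
  rw [this]
  exact reps_distinct

/-- The order of ²F₄(q). -/
theorem card_twisted : Nat.card ↥(twistedF4 F (2 ^ m)) =
    Fintype.card F ^ 12 * (Fintype.card F - 1) ^ 2 *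
      ((reps.map fun d => Fintype.card F ^ (d.map fun i => i.val + 1).sum).sum) := by
  classical
  rw [← map_Gt hK, Subgroup.card_map_of_injective (Subgroup.subtype_injective _), ← grp_eq hK,
    RootBN.Data.card_grp_sum (dax hK), card_B' (axioms hK), card_U hK, card_H hK, weyl_eq hK,
    List.sum_toFinset _ (wl_nodup hK), List.map_map]
  refine congrArg₂ (· * ·) rfl (congrArg List.sum (List.map_congr_left fun d hd => ?_))
  show Nat.card ((tw hK).data.cosets ((tw hK).data.wl d)) = _
  rw [RootBN.Data.card_cosets_word (dax hK) d fun a e he => ?_]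
  · clear hd
    induction d with
    | nil => simp
    | cons a d ih =>
      rw [List.map_cons, List.prod_cons, List.map_cons, List.sum_cons, pow_add, ih]
      congr 1
      exact card_X'_simp hK a
  · show 24 ≤ (rep ((tw hK).data.wl e.reverse (simp' a))).val
    rw [wl_act hK]
    exact asc_suffix (reps_asc d hd) a e he

theorem card_twisted' : Nat.card ↥(twistedF4 F (2 ^ m)) =
    Fintype.card F ^ 12 * (Fintype.card F - 1) * (Fintype.card F ^ 3 + 1) *
      (Fintype.card F ^ 4 - 1) * (Fintype.card F ^ 6 + 1) := by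
  rw [card_twisted hK]
  set q := Fintype.card F
  have e : (reps.map fun d => q ^ (d.map fun i => i.val + 1).sum).sum =
      (q + 1) * (q ^ 2 + 1) * (q ^ 3 + 1) * (q ^ 6 + 1) := by
    simp [reps]
    ring
  have h4 : q ^ 4 - 1 = (q - 1) * ((q + 1) * (q ^ 2 + 1)) := by
    have hq : 1 ≤ q := Fintype.card_pos
    obtain ⟨r, hr⟩ : ∃ r, q = r + 1 := ⟨q - 1, by omega⟩
    rw [hr]
    refine Nat.sub_eq_of_eq_add ?_
    simp only [Nat.add_sub_cancel]
    ring
  rw [e, h4]
  ring

/-- The permutation of the classes induced by an element of N. -/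
noncomputable def sigmaN (n : ↥(tw hK).data.N) : Equiv.Perm (Fin 16) :=
  (tw hK).data.wl (RootBN.Data.exists_acts (dax hK) n.2).choose

theorem acts_sigmaN (n : ↥(tw hK).data.N) : (tw hK).data.Acts (n : G F) (sigmaN hK n) :=
  (RootBN.Data.exists_acts (dax hK) n.2).choose_spec

theorem sigmaN_range (n : ↥(tw hK).data.N) : sigmaN hK n ∈ dih.range := by
  unfold sigmaN
  generalize (RootBN.Data.exists_acts (dax hK) n.2).choose = l
  induction l with
  | nil => exact Subgroup.one_mem _
  | cons i l ih =>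
    rw [RootBN.Data.wl_cons]
    obtain ⟨a, ha⟩ := dih_gen i
    exact Subgroup.mul_mem _ ⟨a, Equiv.ext fun o => ha o⟩ ih

/-- N¹ → W¹. -/
noncomputable def weylHom : ↥(tw hK).data.N →* DihedralGroup 8 :=
  (MonoidHom.ofInjective dih_injective).symm.toMonoidHom.comp
    (MonoidHom.mk' (fun n => (⟨sigmaN hK n, sigmaN_range hK n⟩ : dih.range)) fun a b =>
      Subtype.ext (RootBN.Data.acts_unique (dax hK) (acts_sigmaN hK (a * b))
        ((acts_sigmaN hK a).mul (acts_sigmaN hK b))))

theorem dih_weylHom (n : ↥(tw hK).data.N) : dih (weylHom hK n) = sigmaN hK n :=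
  MonoidHom.apply_ofInjective_symm dih_injective _

theorem weylHom_surjective : Function.Surjective (weylHom hK) := by
  intro a
  obtain ⟨d, -, hd⟩ := dih_words a
  have h1 : sigmaN hK ⟨(tw hK).data.nw d, RootBN.Data.nw_mem_N d⟩ = (tw hK).data.wl d :=
    RootBN.Data.acts_unique (dax hK) (acts_sigmaN hK _) (RootBN.Data.acts_nw (dax hK) d)
  have h2 : (tw hK).data.wl d = dih a := Equiv.ext fun o => (wl_act hK d o).trans (hd o)
  exact ⟨_, dih_injective ((dih_weylHom hK _).trans (h1.trans h2))⟩

theorem weylHom_ker (n : ↥(tw hK).data.N) : weylHom hK n = 1 ↔ (n : G F) ∈ (tw hK).data.H := by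
  rw [← map_eq_one_iff dih dih_injective, dih_weylHom hK]
  constructor
  · intro h
    refine RootBN.Data.mem_H_of_pos_preserving (dax hK) n.2 (acts_sigmaN hK n) fun r hr => ?_
    rw [h]
    exact hr
  · intro h
    exact RootBN.Data.acts_unique (dax hK) (acts_sigmaN hK n) (RootBN.Data.acts_H (dax hK) h)

end Cfsg.Agent.Twisted.F4
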