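/-
The (B,N)-pair of ²F₄(q), its trivial core, perfectness and simplicity.
-/
import Cfsg.Agent.Lib.Twisted.F4.Weyl
import Cfsg.Agent.Lib.Twisted.Monomial
import Cfsg.Agent.S0319

set_option autoImplicit false

namespace Cfsg.Agent.Twisted.F4

open Cfsg.Lie Chev BNSetup Matrix
open scoped commutatorElement
open Cfsg.Agent.RootBN (OTwist)
open Cfsg.Agent.RootBN.OTwist

variable {F : Type*} [Field F] [CharP F 2] [Fintype F] {m : ℕ}
  (hK : Fintype.card F = 2 ^ (2 * m + 1))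
include hK

/-- The setup of ²F₄(q) inside GL. -/
noncomputable def gl : RootBN.Data (GL chevF4.Idx F) (Fin 16) (Fin 2) :=
  (tw hK).data.image (chevF4.group F).subtype

theorem gl_axioms : (gl hK).Axioms :=
  RootBN.Data.image_axioms (dax hK) (Subgroup.subtype_injective _)

theorem gl_grp : (gl hK).grp = twistedF4 F (2 ^ m) := by
  rw [gl, RootBN.Data.image_grp, grp_eq hK, map_Gt hK]

theorem gl_B : (gl hK).B = chevF4.borelSubgroup F ⊓ twistedF4 F (2 ^ m) := by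
  rw [gl, RootBN.Data.image_B, B_inf_twisted hK]

theorem gl_N : (gl hK).N = chevF4.monomialSubgroup F ⊓ twistedF4 F (2 ^ m) := by
  rw [gl, RootBN.Data.image_N, N_inf_twisted hK]

theorem exists_bnPair_of {S : Subgroup (GL chevF4.Idx F)} (hS : S = (gl hK).grp) :
    ∃ P : Cfsg.BNPair ↥S, P.B = (gl hK).B.subgroupOf S ∧ P.N = (gl hK).N.subgroupOf S ∧
      P.S = {g : ↥S | ∃ i, (g : GL chevF4.Idx F) = (gl hK).nn i} := by
  subst hS
  exact ⟨RootBN.Data.bnPair (gl_axioms hK), rfl, rfl, rfl⟩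

theorem exists_bnPair :
    ∃ P : Cfsg.BNPair ↥(twistedF4 F (2 ^ m)),
      P.B = (chevF4.borelSubgroup F ⊓ twistedF4 F (2 ^ m)).subgroupOf (twistedF4 F (2 ^ m)) ∧
      P.N = (chevF4.monomialSubgroup F ⊓ twistedF4 F (2 ^ m)).subgroupOf (twistedF4 F (2 ^ m)) ∧
      P.S = {g : ↥(twistedF4 F (2 ^ m)) | ∃ i, (g : GL chevF4.Idx F) = (gl hK).nn i} := by
  obtain ⟨P, h1, h2, h3⟩ := exists_bnPair_of hK (gl_grp hK).symm
  exact ⟨P, by rw [h1, gl_B hK], by rw [h2, gl_N hK], h3⟩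

/-- The group of the root data is ²F₄(q). -/
noncomputable def equivTwisted : ↥(tw hK).Gt ≃* ↥(twistedF4 F (2 ^ m)) :=
  ((tw hK).Gt.equivMapOfInjective (chevF4.group F).subtype (Subgroup.subtype_injective _)).trans
    (MulEquiv.subgroupCongr (map_Gt hK))

theorem coe_equivTwisted (x : ↥(tw hK).Gt) :
    ((equivTwisted hK x : ↥(twistedF4 F (2 ^ m))) : GL chevF4.Idx F) = ((x : G F) : GL chevF4.Idx F) :=
  rfl

/-! ### The core of B -/

omit [Fintype F] hK in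
theorem conj_xg_H {h : G F} (hh : h ∈ (gd F).H) (r : Rt) (t : F) :
    ∃ t', h * xg r t * h⁻¹ = xg r t' :=
  mem_X_iff.1 ((ax (F := F)).H_conj r h hh _ (xg_mem r t))

theorem commute_simple {c : G F} (hc : c ∈ (gd F).H)
    (hcen : ∀ o, ∀ y ∈ (tw hK).X' o, c * y = y * c) :
    ∀ r ∈ [r33, r24, r27, r25], c * xg r (1 : F) = xg r 1 * c := by
  have key : ∀ (r : Rt) {a : F}, c * xg r 1 * c⁻¹ = xg r a → a = 1 → c * xg r (1 : F) = xg r 1 * c := by
    intro r a e ha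
    rw [ha] at e
    exact mul_inv_eq_iff_eq_mul.1 e
  obtain ⟨a33, e33⟩ := conj_xg_H hc r33 (1 : F)
  obtain ⟨a24, e24⟩ := conj_xg_H hc r24 (1 : F)
  obtain ⟨a27, e27⟩ := conj_xg_H hc r27 (1 : F)
  obtain ⟨a25, e25⟩ := conj_xg_H hc r25 (1 : F)
  obtain ⟨a28, e28⟩ := conj_xg_H hc r28 (1 : F)
  obtain ⟨a30, e30⟩ := conj_xg_H hc r30 (0 : F)
  have h0 := hcen _ _ ((mem_X'0 hK).2 ⟨1, rfl⟩)
  have h1 := hcen _ _ ((mem_X'1 hK).2 ⟨1, 0, rfl⟩)
  rw [← mul_inv_eq_iff_eq_mul] at h0 h1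
  simp only [f0, E0, one_pow, ← conj_mul] at h0
  rw [e33, e24] at h0
  obtain ⟨b33, b24⟩ := E0_inj (h0 : E0 a33 a24 = E0 1 1)
  have hz : (0 : F) ^ (2 * 2 ^ m) = 0 := zero_pow (by positivity)
  simp only [f1, E1, one_pow, hz, add_zero, ← conj_mul] at h1
  rw [e27, e25, e28, e30] at h1
  obtain ⟨b27, b25, -, -⟩ := E1_inj (h1 : E1 a27 a25 a28 a30 = E1 1 1 1 0)
  intro r hr
  simp only [List.mem_cons, List.not_mem_nil, or_false] at hr
  rcases hr with rfl | rfl | rfl | rfl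
  exacts [key _ e33 b33, key _ e24 b24, key _ e27 b27, key _ e25 b25]

theorem core_centralizes {c : G F} (hc : c ∈ (gd F).H)
    (hcen : ∀ o, ∀ y ∈ (tw hK).X' o, c * y = y * c) : c = 1 := by
  have hGt : ∀ g ∈ (tw hK).Gt, Commute c g := by
    intro g hg
    have hle : (tw hK).Gt ≤ Subgroup.centralizer {c} := iSup_le fun o y hy =>
      Subgroup.mem_centralizer_singleton_iff.2 (hcen o y hy).symm
    exact (Subgroup.mem_centralizer_singleton_iff.1 (hle hg)).symm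
  have hsr : ∀ k : Nd, sr k ∈ [r33, r24, r27, r25] := by decide +kernel
  have hJall : ∀ k : Nd, ∃ j, k ∈ J j ∧
      ev (J j) (sr k) = (opp (sr k)).val := by decide +kernel
  have hx : ∀ k : Nd, Commute (c : GL chevF4.Idx F) (xe good (chevF4.simple k.val) 1) := fun k =>
    congrArg Subtype.val (commute_simple hK hc hcen _ (hsr k))
  have hn : ∀ k : Nd, Commute (c : GL chevF4.Idx F) (ne' good (chevF4.simple k.val) 1) := by
    intro k
    obtain ⟨j, -, hj⟩ := hJall k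
    have h1 : Commute c ((gd F).nw (J j)) := hGt _ (nn'_mem hK j)
    have h2 : Commute c (xg (opp (sr k)) 1) := by
      rw [← nn'_conj_xg j (sr k) (1 : F) (opp (sr k)) hj]
      exact (h1.mul_right (commute_simple hK hc hcen _ (hsr k))).mul_right h1.inv_right
    have h3 : Commute (c : GL chevF4.Idx F) (xe good (chevF4.neg (chevF4.simple k.val)) (-(1 : F)⁻¹)) := by
      rw [inv_one, CharTwo.neg_eq]
      exact congrArg Subtype.val h2
    exact ((hx k).mul_right h3).mul_right (hx k)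
  refine Subtype.ext (eq_one_of_centralizes good facts hc fun r hr => ?_)
  refine And.right (good.root_induction (P := fun r => r < chevF4.nroots ∧
    (c : GL chevF4.Idx F) * xe good r (1 : F) = xe good r (1 : F) * (c : GL chevF4.Idx F)) ?_ ?_ hr)
  · intro i hi
    exact ⟨good.simple_lt hi, hx ⟨i, hi⟩⟩
  · rintro i hi s - ⟨hs, h⟩
    refine ⟨good.reflectRoot_lt hi hs, ?_⟩
    rw [← nn_conj_xe good facts ⟨i, hi⟩ hs (1 : F)]
    exact ((hn ⟨i, hi⟩).mul_right h).mul_right (hn ⟨i, hi⟩).inv_right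

theorem normalCore_eq_bot :
    ((chevF4.borelSubgroup F ⊓ twistedF4 F (2 ^ m)).subgroupOf
      (twistedF4 F (2 ^ m))).normalCore = ⊥ := by
  rw [Subgroup.eq_bot_iff_forall]
  intro c hc
  set K := ((chevF4.borelSubgroup F ⊓ twistedF4 F (2 ^ m)).subgroupOf (twistedF4 F (2 ^ m))).normalCore
  have hle : K.comap (equivTwisted hK).toMonoidHom ≤
      (((gd F).B ⊓ (tw hK).Gt).subgroupOf (tw hK).Gt).normalCore := by
    haveI : (K.comap (equivTwisted hK).toMonoidHom).Normal := (Subgroup.normalCore_normal _).comap _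
    refine Subgroup.normal_le_normalCore.2 fun x hx => ?_
    have h := (Subgroup.mem_subgroupOf.1 (Subgroup.normalCore_le _ (Subgroup.mem_comap.1 hx))).1
    refine Subgroup.mem_subgroupOf.2 ⟨(mem_gdata_B good facts).2 ?_, x.2⟩
    rw [data_B good facts, ← coe_equivTwisted hK x]
    exact h
  have hc' : (equivTwisted hK).symm c ∈ K.comap (equivTwisted hK).toMonoidHom := by
    rw [Subgroup.mem_comap]
    simpa using hc
  obtain ⟨hH, hcen⟩ := core_mem (axioms hK) (hle hc')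
  have h1 : ((equivTwisted hK).symm c : G F) = 1 := core_centralizes hK hH hcen
  have h2 : (equivTwisted hK).symm c = 1 := Subtype.ext h1
  simpa using h2

/-! ### Perfectness -/

omit [Fintype F] hK in
theorem cartan_neg : ∀ (i : Nd) (r : Rt),
    chevF4.cartan i.val (chevF4.neg r.val) = - chevF4.cartan i.val r.val := by decide +kernel

omit [CharP F 2] [Fintype F] hK in
theorem tG_conj_xg (c : Nd → Fˣ) (r : Rt) (t : F) :
    tG F c * xg r t * (tG F c)⁻¹ = xg r ((torusChar chevF4 c r.val : F) * t) := by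
  refine Subtype.ext ?_
  have hc : ((tG F c : G F) : GL chevF4.Idx F) ∈ chevF4.diagonalSubgroup F := torusHom_mem_H c
  have h := Cfsg.Agent.Twisted.hdiag_conj_xe good facts hc
    (χ := fun s => ((torusChar chevF4 c s : Fˣ) : F)) (coe_torusHom c) r.2 t
  refine h.trans (congrArg (xe good r.val) ?_)
  congr 1
  rw [← Units.val_inv_eq_inv_val]
  congr 1
  simp only [torusChar, cartan_neg, _root_.zpow_neg, Finset.prod_inv_distrib, inv_inv]

omit [CharP F 2] [Fintype F] hK in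
theorem cvec_chars (a : Fˣ) :
    torusChar chevF4 (cvec F m (a, 1)) 24 = a ^ 2 ∧ torusChar chevF4 (cvec F m (a, 1)) 25 = a⁻¹ ∧
      torusChar chevF4 (cvec F m (a, 1)) 28 = (a ^ (2 ^ m + 1))⁻¹ := by
  have h : ∀ r, torusChar chevF4 (cvec F m (a, 1)) r =
      (a ^ 2 ^ m) ^ chevF4.cartan 0 r * a ^ chevF4.cartan 3 r := by
    intro r
    show ∏ i : Fin 4, (cvec F m (a, 1)) i ^ chevF4.cartan i.val r = _
    rw [Fin.prod_univ_four]
    simp [cvec]
  have hc : chevF4.cartan 0 24 = 0 ∧ chevF4.cartan 3 24 = 2 ∧ chevF4.cartan 0 25 = 0 ∧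
      chevF4.cartan 3 25 = -1 ∧ chevF4.cartan 0 28 = -1 ∧ chevF4.cartan 3 28 = -1 := by decide +kernel
  obtain ⟨c1, c2, c3, c4, c5, c6⟩ := hc
  refine ⟨?_, ?_, ?_⟩
  · rw [h, c1, c2, zpow_zero, one_mul, show (2 : ℤ) = ((2 : ℕ) : ℤ) from rfl, zpow_natCast]
  · rw [h, c3, c4, zpow_zero, one_mul, _root_.zpow_neg_one]
  · rw [h, c5, c6, _root_.zpow_neg_one, _root_.zpow_neg_one, ← mul_inv, pow_succ]

omit [CharP F 2] in
theorem exists_ne_one (hm : 1 ≤ m) : ∃ a : Fˣ, a ≠ 1 := by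
  classical
  haveI : Nontrivial Fˣ := by
    rw [← Fintype.one_lt_card_iff_nontrivial, Fintype.card_units, hK]
    have : 2 ^ 3 ≤ 2 ^ (2 * m + 1) := Nat.pow_le_pow_right (by norm_num) (by omega)
    omega
  exact exists_ne 1

theorem perfect_Gt (hm : 1 ≤ m) : commutator ↥(tw hK).Gt = ⊤ := by
  obtain ⟨a, ha⟩ := exists_ne_one hK hm
  set D := (commutator ↥(tw hK).Gt).map (tw hK).Gt.subtype with hD
  have hcomm : ∀ x ∈ (tw hK).Gt, ∀ y ∈ (tw hK).Gt, x * y * x⁻¹ * y⁻¹ ∈ D := fun x hx y hy =>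
    ⟨⁅(⟨x, hx⟩ : ↥(tw hK).Gt), ⟨y, hy⟩⁆,
      Subgroup.commutator_mem_commutator (Subgroup.mem_top _) (Subgroup.mem_top _),
      by simp [commutatorElement_def]⟩
  set h := tG F (cvec F m (a, 1))
  have hh : h ∈ (tw hK).Gt := tG_cvec_mem hK (a, 1)
  obtain ⟨hl24, hl25, hl28⟩ := cvec_chars (F := F) (m := m) a
  have hfix : ∀ {j : Fin 2} {y : G F}, y ∈ (tw hK).X' (simp' j) →
      h * y * h⁻¹ ∈ (tw hK).X' (simp' j) := fun hy =>
    (dax hK).H_conj _ h ⟨tG_mem _, hh⟩ _ hy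
  have e0 : ∀ t, ∃ s, h * f0 m t * h⁻¹ = E0 s ((a : F) ^ 2 * t) := by
    intro t
    refine ⟨(torusChar chevF4 (cvec F m (a, 1)) 33 : F) * t ^ 2 ^ m, ?_⟩
    rw [f0, E0, ← conj_mul, tG_conj_xg, tG_conj_xg, hl24, Units.val_pow_eq_pow_val]
    rfl
  have e1 : ∀ t u, ∃ s w, h * f1 m t u * h⁻¹ =
      E1 s (((a⁻¹ : Fˣ) : F) * t) ((((a ^ (2 ^ m + 1))⁻¹ : Fˣ) : F) * (t ^ (2 ^ m + 1) + u)) w := by
    intro t u
    refine ⟨(torusChar chevF4 (cvec F m (a, 1)) 27 : F) * t ^ 2 ^ m,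
      (torusChar chevF4 (cvec F m (a, 1)) 30 : F) * u ^ (2 * 2 ^ m), ?_⟩
    rw [f1, E1, ← conj_mul, ← conj_mul, ← conj_mul, tG_conj_xg, tG_conj_xg, tG_conj_xg, tG_conj_xg,
      hl25, hl28]
    rfl
  have hne2 : (a : F) ^ 2 + 1 ≠ 0 := by
    intro h'
    rw [← one_pow (M := F) 2, ← CharTwo.add_sq, sq_eq_zero_iff, CharTwo.add_eq_zero] at h'
    exact ha (Units.ext h')
  have hne25 : ((a⁻¹ : Fˣ) : F) + 1 ≠ 0 := by
    intro h'
    rw [CharTwo.add_eq_zero] at h'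
    exact ha (inv_eq_one.1 (Units.ext h'))
  have hne28 : (((a ^ (2 ^ m + 1))⁻¹ : Fˣ) : F) + 1 ≠ 0 := by
    intro h'
    rw [CharTwo.add_eq_zero] at h'
    have h'' : a ^ (2 ^ m + 1) = 1 := inv_eq_one.1 (Units.ext h')
    refine ha (exponent_injective hK (a₁ := a) (a₂ := 1) ?_)
    show a ^ (2 * 2 ^ m + 2) = 1 ^ (2 * 2 ^ m + 2)
    rw [one_pow, show 2 * 2 ^ m + 2 = (2 ^ m + 1) * 2 by ring, pow_mul, h'', one_pow]
  have hsimp0 : (tw hK).X' (simp' 0) ≤ D := by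
    intro y hy
    obtain ⟨t, rfl⟩ := (mem_X'0 hK).1 hy
    set s := t * ((a : F) ^ 2 + 1)⁻¹
    have hs := (mem_X'0 hK).2 ⟨s, rfl⟩
    have h1 := hcomm h hh _ (X'_le_Gt _ hs)
    obtain ⟨t', ht'⟩ := (mem_X'0 hK).1 (Subgroup.mul_mem _ (hfix hs) (Subgroup.inv_mem _ hs))
    have ht'' := ht'
    obtain ⟨v, hv⟩ := e0 s
    rw [mul_inv_eq_iff_eq_mul, hv, f0, f0, E0_mul] at ht'
    have h2 : (a : F) ^ 2 * s = t' + s := (E0_inj ht').2
    have h3 : t' = t := by
      rw [show t' = (a : F) ^ 2 * s + s by rw [h2, add_assoc, CharTwo.add_self_eq_zero, add_zero],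
        ← add_one_mul, mul_comm, mul_assoc, inv_mul_cancel₀ hne2, mul_one]
    rw [← h3, ← ht'']
    exact h1
  have hsimp1 : (tw hK).X' (simp' 1) ≤ D := by
    have z0 : ∀ v, f1 m 0 v ∈ D := by
      intro v
      set u := v * ((((a ^ (2 ^ m + 1))⁻¹ : Fˣ) : F) + 1)⁻¹
      have hs := (mem_X'1 hK).2 ⟨0, u, rfl⟩
      have h1 := hcomm h hh _ (X'_le_Gt _ hs)
      obtain ⟨t', u', ht'⟩ := (mem_X'1 hK).1 (Subgroup.mul_mem _ (hfix hs) (Subgroup.inv_mem _ hs))
      have ht'' := ht'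
      obtain ⟨s, w, hv⟩ := e1 0 u
      rw [mul_inv_eq_iff_eq_mul, hv, f1, f1, E1_mul] at ht'
      obtain ⟨-, h2, h3, -⟩ := E1_inj ht'
      rw [mul_zero, add_zero] at h2
      subst h2
      simp only [zero_pow (Nat.succ_ne_zero (2 ^ m)), zero_add, mul_zero, add_zero] at h3
      have h4 : u' = v := by
        rw [show u' = (((a ^ (2 ^ m + 1))⁻¹ : Fˣ) : F) * u + u by
            rw [h3, add_assoc, CharTwo.add_self_eq_zero, add_zero],
          ← add_one_mul, mul_comm, mul_assoc, inv_mul_cancel₀ hne28, mul_one]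
      rw [← h4, ← ht'']
      exact h1
    intro y hy
    obtain ⟨t, u, rfl⟩ := (mem_X'1 hK).1 hy
    set s := t * (((a⁻¹ : Fˣ) : F) + 1)⁻¹
    have hs := (mem_X'1 hK).2 ⟨s, 0, rfl⟩
    have h1 := hcomm h hh _ (X'_le_Gt _ hs)
    have hz := Subgroup.mul_mem _ (hfix hs) (Subgroup.inv_mem _ hs)
    obtain ⟨t', u', ht'⟩ := (mem_X'1 hK).1 hz
    rw [ht'] at h1 hz
    obtain ⟨w1, w2, hv⟩ := e1 s 0
    rw [mul_inv_eq_iff_eq_mul, hv, f1, f1, E1_mul] at ht'
    obtain ⟨-, h2, -, -⟩ := E1_inj ht'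
    have h3 : t' = t := by
      rw [show t' = ((a⁻¹ : Fˣ) : F) * s + s by
          rw [h2, add_assoc, CharTwo.add_self_eq_zero, add_zero],
        ← add_one_mul, mul_comm, mul_assoc, inv_mul_cancel₀ hne25, mul_one]
    rw [h3] at h1 hz
    obtain ⟨t'', v, e⟩ := (mem_X'1 hK).1
      (Subgroup.mul_mem _ (Subgroup.inv_mem _ hz) ((mem_X'1 hK).2 ⟨t, u, rfl⟩))
    have e' := e
    rw [inv_mul_eq_iff_eq_mul, f1, f1, f1, E1_mul] at e'
    obtain ⟨-, h4, -, -⟩ := E1_inj e'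
    have h5 : t'' = 0 := add_left_cancel ((add_zero t).trans h4).symm
    rw [h5, inv_mul_eq_iff_eq_mul] at e
    rw [e]
    exact Subgroup.mul_mem _ h1 (z0 v)
  have hsimp : ∀ j, (tw hK).X' (simp' j) ≤ D := fun j => by
    fin_cases j
    exacts [hsimp0, hsimp1]
  refine eq_top_iff.2 fun x _ => ?_
  have hle : (tw hK).Gt ≤ D := iSup_le fun o y hy => by
    obtain ⟨l, j, rfl⟩ := (dax hK).reach o
    have h1 : ((tw hK).data.nw l)⁻¹ * y * (tw hK).data.nw l ∈ (tw hK).X' (simp' j) := by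
      apply ((RootBN.Data.acts_nw (dax hK) l) (simp' j) _).1
      simp only [mul_assoc, mul_inv_cancel_left, mul_inv_cancel, mul_one]
      exact hy
    obtain ⟨z, hz, e⟩ := hsimp j h1
    have hn : (tw hK).data.nw l ∈ (tw hK).Gt := Subgroup.list_prod_mem _ fun x hx => by
      obtain ⟨i, -, rfl⟩ := List.mem_map.1 hx
      exact nn'_mem hK i
    refine ⟨_, (inferInstance : (commutator ↥(tw hK).Gt).Normal).conj_mem z hz ⟨_, hn⟩, ?_⟩
    rw [Subgroup.coe_subtype] at e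
    simp only [Subgroup.coe_subtype, Subgroup.coe_mul, Subgroup.coe_inv, e]
    group
  obtain ⟨z, hz, e⟩ := hle x.2
  rwa [show x = z from Subtype.ext e.symm]

theorem perfect (hm : 1 ≤ m) : commutator ↥(twistedF4 F (2 ^ m)) = ⊤ := by
  have h := congrArg (Subgroup.map (equivTwisted hK).toMonoidHom) (perfect_Gt hK hm)
  rw [commutator_def, Subgroup.map_commutator,
    Subgroup.map_top_of_surjective _ (equivTwisted hK).surjective] at h
  exact h

/-! ### Simplicity -/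

theorem simple (hm : 1 ≤ m) :
    IsSimpleGroup ↥(twistedF4 F (2 ^ m)) ∧ ¬ IsMulCommutative ↥(twistedF4 F (2 ^ m)) := by
  obtain ⟨P, hB, -, hS⟩ := exists_bnPair hK
  have hperf := perfect hK hm
  haveI : Nontrivial ↥(twistedF4 F (2 ^ m)) := by
    rw [Subgroup.nontrivial_iff_exists_ne_one]
    refine ⟨(base F 0 : GL chevF4.Idx F), ?_, fun h => base_ne 0 (Subtype.ext h)⟩
    rw [← map_Gt hK]
    exact ⟨_, X'_le_Gt _ (base_mem hK 0), rfl⟩
  refine ⟨Cfsg.Agent.S0319.result P ?_ ?_ hperf (by rw [hB]; exact normalCore_eq_bot hK), ?_⟩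
  · intro Js hJ hJne hJc
    obtain ⟨s, hs⟩ := hJne
    obtain ⟨s', hs', hs''⟩ := hJc
    obtain ⟨i, hi⟩ : ∃ i, (s : GL chevF4.Idx F) = (gl hK).nn i := by
      have := hJ hs
      rwa [hS] at this
    obtain ⟨i', hi'⟩ : ∃ i, (s' : GL chevF4.Idx F) = (gl hK).nn i := by
      rwa [hS] at hs'
    have hne : i ≠ i' := fun e => hs'' ((Subtype.ext (hi'.trans (e ▸ hi.symm)) : s' = s) ▸ hs)
    refine ⟨s, hs, s', ⟨hs', hs''⟩, fun hmem => ?_⟩
    rw [hB, ← gl_B hK, Subgroup.mem_subgroupOf] at hmem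
    simp only [Subgroup.coe_mul, Subgroup.coe_inv, hi, hi'] at hmem
    have axg := gl_axioms hK
    have hN : (gl hK).nn i * (gl hK).nn i' * ((gl hK).nn i)⁻¹ * ((gl hK).nn i')⁻¹ ∈ (gl hK).N :=
      Subgroup.mul_mem _ (Subgroup.mul_mem _ (Subgroup.mul_mem _ (RootBN.Data.nn_mem_N i)
        (RootBN.Data.nn_mem_N i')) (Subgroup.inv_mem _ (RootBN.Data.nn_mem_N i)))
        (Subgroup.inv_mem _ (RootBN.Data.nn_mem_N i'))
    have e := RootBN.Data.acts_unique axg ((((RootBN.Data.acts_nn axg i).mul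
      (RootBN.Data.acts_nn axg i')).mul (RootBN.Data.acts_nn axg i).inv).mul
      (RootBN.Data.acts_nn axg i').inv)
      (RootBN.Data.acts_H axg ((RootBN.Data.N_inf_B axg).le ⟨hN, hmem⟩))
    rw [mul_inv_eq_one, mul_inv_eq_iff_eq_mul] at e
    have hnc : ∀ i i' : Fin 2, i ≠ i' →
        ∃ o, reflTab i (reflTab i' o) ≠ reflTab i' (reflTab i o) := by decide +kernel
    obtain ⟨o, ho⟩ := hnc i i' hne
    exact ho (congrArg (fun σ : Equiv.Perm (Fin 16) => σ o) e)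
  · rw [hB]
    haveI := isSolvable_borel (F := F) good facts
    let f : ↥((chevF4.borelSubgroup F ⊓ twistedF4 F (2 ^ m)).subgroupOf (twistedF4 F (2 ^ m))) →*
        ↥(chevF4.borelSubgroup F) :=
      { toFun := fun x => ⟨((x : ↥(twistedF4 F (2 ^ m))) : GL chevF4.Idx F), x.2.1⟩
        map_one' := rfl
        map_mul' := fun _ _ => rfl }
    exact Group.isSolvable_of_isSolvable_injective (f := f)
      (fun x y e => Subtype.ext (Subtype.ext (congrArg Subtype.val e :)))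
  · intro hcomm
    have : commutator ↥(twistedF4 F (2 ^ m)) = ⊥ :=
      (commutator_eq_bot_iff_center_eq_top _).2 (eq_top_iff.2 fun x _ =>
        Subgroup.mem_center_iff.2 fun y => hcomm.is_comm.comm y x)
    exact (bot_ne_top : (⊥ : Subgroup ↥(twistedF4 F (2 ^ m))) ≠ ⊤) (this.symm.trans hperf)

end Cfsg.Agent.Twisted.F4
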