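/-
²F₄(q): the positive classes in their circular order, the commutators of two classes and the ordered products.
-/
import Cfsg.Agent.Lib.Twisted.F4.Elements
import Cfsg.Agent.Lib.Twisted.F4.Group
import Cfsg.Agent.Lib.Schur.RootLift

set_option autoImplicit false

namespace Cfsg.Agent.Twisted.F4

open Cfsg.Lie Chev BNSetup
open Cfsg.Agent.RootBN Cfsg.Agent.RootBN.OTwist
open Cfsg.Agent.Schur.RootLift (V le_V V_empty)
open scoped commutatorElement

/-- The positive classes in their order. -/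
def posList : List (Fin 16) := [9, 13, 12, 15, 11, 14, 10, 8]

/-- The positive class with a given place. -/
def pos (i : ℕ) : Fin 16 := posList.getD i 8

theorem posList_eq : rootsOf (0 :: cov 0) = posList := by decide +kernel

theorem posList_eq_map : posList = (List.range 8).map pos := by decide +kernel

theorem pos_cover : ∀ o : Fin 16, 24 ≤ (rep o).val → o ∈ posList := by decide +kernel

theorem pos_mem : ∀ i : Fin 8, 24 ≤ (rep (pos i.val)).val ∧ pos i.val ∈ posList := by decide +kernel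

/-- The terms of commutators of two classes lie strictly between them. -/
theorem interval_check : ∀ a b : Fin 8, a.val < b.val → ∀ r s : Rt, orb r = pos a.val → orb s = pos b.val →
    r.val ≠ s.val ∧ r.val ≠ chevF4.neg s.val ∧ ∀ x ∈ chevF4.commTerms s.val r.val,
      x.2.1 % 2 = 0 ∨ ∃ c : Fin 8, a.val < c.val ∧ c.val < b.val ∧
        ∀ h : x.1 < chevF4.nroots, orb ⟨x.1, h⟩ = pos c.val := by decide +kernel

variable {F : Type*} [Field F] [CharP F 2]

theorem xg_inv (r : Rt) (t : F) : (xg r t)⁻¹ = xg r t :=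
  inv_eq_of_mul_eq_one_left (by rw [xg_add, CharTwo.add_self_eq_zero, xg_zero])

omit [CharP F 2] in
theorem word_mem {K : Subgroup (G F)} : ∀ L : List (ℕ × F),
    (∀ x ∈ L, ∃ h : x.1 < chevF4.nroots, xg (⟨x.1, h⟩ : Rt) x.2 ∈ K) →
      ∃ g ∈ K, ((g : GL chevF4.Idx F) : Matrix chevF4.Idx chevF4.Idx F) = chevF4.wordMat F L
  | [], _ => ⟨1, K.one_mem, by simp [ChevalleyDatum.wordMat]⟩
  | x :: L, h => by
    obtain ⟨g, hg, e⟩ := word_mem L fun y hy => h y (List.mem_cons_of_mem _ hy)
    obtain ⟨hx, hxK⟩ := h x List.mem_cons_self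
    refine ⟨_, K.mul_mem hxK hg, ?_⟩
    simp only [Subgroup.coe_mul, Units.val_mul, coe_xg, coe_xe, e]
    simp [ChevalleyDatum.wordMat]

variable [Fintype F] {m : ℕ} (hK : Fintype.card F = 2 ^ (2 * m + 1))

/-- The whole class at a place. -/
noncomputable def Xo (i : ℕ) : Subgroup (G F) := (tw hK).Xorb (pos i)

/-- Its fixed part. -/
noncomputable def Xp (i : ℕ) : Subgroup (G F) := (tw hK).X' (pos i)

include hK

theorem comm_gen {a b : ℕ} (hab : a < b) (hb : b < 8) {r s : Rt} (hr : orb r = pos a) (hs : orb s = pos b)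
    (t u : F) : ⁅xg r t, xg s u⁆ ∈ V (Xo hK) (a + 1) b := by
  obtain ⟨h1, h2, h3⟩ := interval_check ⟨a, by omega⟩ ⟨b, hb⟩ hab r s hr hs
  have hcf := good.comm_formula (F := F) s.2 r.2 h1 h2 u t
  obtain ⟨g, hg, e⟩ := word_mem (K := V (Xo hK) (a + 1) b) (chevF4.commWord F s.val r.val u t)
    fun x hx => by
      simp only [ChevalleyDatum.commWord, List.mem_map] at hx
      obtain ⟨y, hy, rfl⟩ := hx
      have hlt := good.commTerms_lt s.2 r.2 hy
      refine ⟨hlt, ?_⟩
      rcases h3 y hy with he | ⟨c, hc1, hc2, hc⟩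
      · rw [cast_mod_two y.2.1, he, Int.cast_zero, zero_mul, zero_mul, xg_zero]
        exact Subgroup.one_mem _
      · exact le_V (Xo hK) (c := c.val) hc1 hc2
          (X_le_Xorb (T := tw hK) (hc hlt) (xg_mem _ _))
  have e1 : xg r t * xg s u = xg s u * xg r t * g := by
    refine Subtype.ext (Units.ext ?_)
    simp only [Subgroup.coe_mul, Units.val_mul, coe_xg, coe_xe, e]
    exact hcf
  have hB : xg s u * xg s u = 1 := by rw [xg_add, CharTwo.add_self_eq_zero, xg_zero]
  have hA : xg r t * xg r t = 1 := by rw [xg_add, CharTwo.add_self_eq_zero, xg_zero]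
  have e2 : ⁅xg r t, xg s u⁆ = g := by
    rw [commutatorElement_def, xg_inv, xg_inv]
    calc xg r t * xg s u * xg r t * xg s u
        = xg r t * xg s u * (xg r t * xg s u) := by simp only [mul_assoc]
      _ = xg r t * xg s u * (xg s u * xg r t * g) := by rw [← e1]
      _ = xg r t * (xg s u * xg s u) * xg r t * g := by simp only [mul_assoc]
      _ = g := by rw [hB, mul_one, hA, one_mul]
  exact e2 ▸ hg

/-- Commutators of two classes. -/
theorem comm_o : ∀ a b, a < b → b < 8 → ∀ x ∈ Xo hK a, ∀ y ∈ Xo hK b, ⁅x, y⁆ ∈ V (Xo hK) (a + 1) b := by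
  suffices h : ∀ d a b, b - a ≤ d → a < b → b < 8 →
      ∀ x ∈ Xo hK a, ∀ y ∈ Xo hK b, ⁅x, y⁆ ∈ V (Xo hK) (a + 1) b from
    fun a b h1 h2 => h (b - a) a b le_rfl h1 h2
  intro d
  induction d with
  | zero => intro a b h1 h2; omega
  | succ d ih =>
    intro a b hd hab hb
    have nA : ∀ x ∈ Xo hK a, ∀ w ∈ V (Xo hK) (a + 1) b, x * w * x⁻¹ ∈ V (Xo hK) (a + 1) b :=
      fun x hx w hw => (Subgroup.mem_normalizer_iff.1 (Schur.RootLift.le_normalizer (Xo hK)
        (fun c h1 h2 => ih a c (by omega) h1 (by omega)) hx) w).1 hw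
    have nB := Schur.RootLift.conj_last (Xo hK) (a := a + 1) (b := b)
      (fun c h1 h2 => ih c b (by omega) h2 hb)
    set W := V (Xo hK) (a + 1) b
    have left : ∀ y ∈ Xo hK b, (∀ r, orb r = pos a → ∀ t : F, ⁅xg r t, y⁆ ∈ W) →
        ∀ x ∈ Xo hK a, ⁅x, y⁆ ∈ W := by
      intro y hy hgen x hx
      let K : Subgroup (G F) :=
        { carrier := {x | x ∈ Xo hK a ∧ ⁅x, y⁆ ∈ W}
          one_mem' := ⟨(Xo hK a).one_mem, by rw [commutatorElement_one_left]; exact W.one_mem⟩
          mul_mem' := by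
            rintro p q ⟨hp, hp'⟩ ⟨hq, hq'⟩
            refine ⟨(Xo hK a).mul_mem hp hq, ?_⟩
            rw [show ⁅p * q, y⁆ = p * ⁅q, y⁆ * p⁻¹ * ⁅p, y⁆ by
              simp only [commutatorElement_def]; group]
            exact W.mul_mem (nA p hp _ hq') hp'
          inv_mem' := by
            rintro p ⟨hp, hp'⟩
            refine ⟨(Xo hK a).inv_mem hp, ?_⟩
            rw [show ⁅p⁻¹, y⁆ = p⁻¹ * ⁅p, y⁆⁻¹ * p⁻¹⁻¹ by simp only [commutatorElement_def]; group]
            exact nA _ ((Xo hK a).inv_mem hp) _ (W.inv_mem hp') }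
      exact ((show Xo hK a ≤ K from iSup₂_le fun r hr z hz => by
        obtain ⟨t, rfl⟩ := mem_X_iff.1 hz
        exact ⟨X_le_Xorb (T := tw hK) hr (xg_mem _ _), hgen r hr t⟩) hx).2
    intro x hx y hy
    let K : Subgroup (G F) :=
      { carrier := {y | y ∈ Xo hK b ∧ ∀ x ∈ Xo hK a, ⁅x, y⁆ ∈ W}
        one_mem' := ⟨(Xo hK b).one_mem, fun x _ => by rw [commutatorElement_one_right]; exact W.one_mem⟩
        mul_mem' := by
          rintro p q ⟨hp, hp'⟩ ⟨hq, hq'⟩
          refine ⟨(Xo hK b).mul_mem hp hq, fun x hx => ?_⟩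
          rw [show ⁅x, p * q⁆ = ⁅x, p⁆ * (p * ⁅x, q⁆ * p⁻¹) by simp only [commutatorElement_def]; group]
          exact W.mul_mem (hp' x hx) (nB p hp _ (hq' x hx))
        inv_mem' := by
          rintro p ⟨hp, hp'⟩
          refine ⟨(Xo hK b).inv_mem hp, fun x hx => ?_⟩
          rw [show ⁅x, p⁻¹⁆ = p⁻¹ * ⁅x, p⁆⁻¹ * p⁻¹⁻¹ by simp only [commutatorElement_def]; group]
          exact nB _ ((Xo hK b).inv_mem hp) _ (W.inv_mem (hp' x hx)) }
    exact ((show Xo hK b ≤ K from iSup₂_le fun s hs z hz => by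
      obtain ⟨u, rfl⟩ := mem_X_iff.1 hz
      have hm : xg s u ∈ Xo hK b := X_le_Xorb (T := tw hK) hs (xg_mem _ _)
      exact ⟨hm, left _ hm fun r hr t => comm_gen hK hab hb hr hs t u⟩) hy).2 x hx

/-- An element of an interval is an ordered product. -/
theorem exists_fun : ∀ d a b, b - a = d → b ≤ 8 → ∀ u ∈ V (Xo hK) a b, ∃ f : ℕ → G F,
    (∀ c, f c ∈ Xo hK c) ∧ (∀ c, c < a ∨ b ≤ c → f c = 1) ∧ u = ((List.range' a d).map f).prod := by
  intro d
  induction d with
  | zero =>
    intro a b hd _ u hu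
    rw [V_empty _ (by omega), Subgroup.mem_bot] at hu
    exact ⟨fun _ => 1, fun c => Subgroup.one_mem _, fun _ _ => rfl, by simp [hu]⟩
  | succ d ih =>
    intro a b hd hb u hu
    obtain ⟨x, hx, w, hw, rfl⟩ := Schur.RootLift.ordered (Xo hK) (show a < b by omega)
      (fun c h1 h2 => comm_o hK a c h1 (by omega)) hu
    obtain ⟨f, hf, hf1, rfl⟩ := ih (a + 1) b (by omega) hb w hw
    refine ⟨Function.update f a x, fun c => ?_, fun c hc => ?_, ?_⟩
    · rcases eq_or_ne c a with rfl | h
      · rwa [Function.update_self]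
      · rw [Function.update_of_ne h]; exact hf c
    · rw [Function.update_of_ne (by omega)]; exact hf1 c (by omega)
    · rw [List.range'_succ, List.map_cons, List.prod_cons, Function.update_self]
      congr 2
      refine List.map_congr_left fun c hc => ?_
      rw [Function.update_of_ne]
      have := List.mem_range'_1.1 hc
      omega

theorem disjoint_o {a b : ℕ} (hab : a < b) (hb : b ≤ 8) : Xo hK a ⊓ V (Xo hK) (a + 1) b = ⊥ := by
  rw [eq_bot_iff]
  rintro u ⟨h1, h2⟩
  obtain ⟨f, hf, hf1, e⟩ := exists_fun hK _ (a + 1) b rfl hb u h2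
  have hroots : (tw hK).roots (0 :: cov 0) = (List.range 8).map pos := by
    rw [roots_eq hK, posList_eq, posList_eq_map]
  have hsplit : List.range 8 = List.range' 0 (a + 1) ++ (List.range' (a + 1) (b - (a + 1)) ++
      List.range' b (8 - b)) := by
    have e1 : List.range' (a + 1) (8 - (a + 1)) =
        List.range' (a + 1) (b - (a + 1)) ++ List.range' b (8 - b) := by
      have e0 := List.range'_append_1 (s := a + 1) (m := b - (a + 1)) (n := 8 - b)
      rw [show a + 1 + (b - (a + 1)) = b by omega,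
        show b - (a + 1) + (8 - b) = 8 - (a + 1) by omega] at e0
      exact e0.symm
    rw [← e1, List.range_eq_range']
    have e0 := List.range'_append_1 (s := 0) (m := a + 1) (n := 8 - (a + 1))
    rw [show 0 + (a + 1) = a + 1 by omega, show a + 1 + (8 - (a + 1)) = 8 by omega] at e0
    exact e0.symm
  have hone : ∀ (g : ℕ → G F) (L : List ℕ), (∀ c ∈ L, g c = 1) → (L.map g).prod = 1 := fun g L h =>
    List.prod_eq_one fun y hy => by
      obtain ⟨c, hc, rfl⟩ := List.mem_map.1 hy
      exact h c hc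
  let g : ℕ → G F := fun c => if c = a then u else 1
  have hg : ∀ c, g c ∈ Xo hK c := fun c => by
    by_cases h : c = a
    · simp only [g, h, if_true]; exact h1
    · simp only [g, h, if_false]; exact Subgroup.one_mem _
  have e1 : ((List.range 8).map f).prod = u := by
    rw [hsplit, List.map_append, List.map_append, List.prod_append, List.prod_append, ← e,
      hone f _ fun c hc => hf1 c (by have := List.mem_range'_1.1 hc; omega),
      hone f (List.range' b _) fun c hc => hf1 c (by have := List.mem_range'_1.1 hc; omega)]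
    simp
  have e2 : ((List.range 8).map g).prod = u := by
    rw [hsplit, List.range'_1_concat, List.map_append, List.map_append, List.map_append,
      List.prod_append, List.prod_append, List.prod_append,
      hone g _ fun c hc => if_neg (by have := List.mem_range'_1.1 hc; omega),
      hone g (List.range' (a + 1) _) fun c hc => if_neg (by have := List.mem_range'_1.1 hc; omega),
      hone g (List.range' b _) fun c hc => if_neg (by have := List.mem_range'_1.1 hc; omega)]
    simp [g]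
  have hforall : ∀ h : ℕ → G F, (∀ c, h c ∈ Xo hK c) →
      List.Forall₂ (fun o y => y ∈ (tw hK).Xorb o) ((tw hK).roots (0 :: cov 0))
        ((List.range 8).map h) := by
    intro h hh
    rw [hroots, List.forall₂_map_left_iff, List.forall₂_map_right_iff, List.forall₂_same]
    exact fun c _ => hh c
  have := factor_unique (core hK) (longest hK 0).1 (hforall f hf) (hforall g hg) (e1.trans e2.symm)
  have h3 := (List.map_inj_left.1 this) a (List.mem_range.2 (by omega))
  simp only [g, if_true] at h3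
  rw [hf1 a (by omega)] at h3
  exact Subgroup.mem_bot.2 h3.symm

theorem Xp_le (i : ℕ) : Xp hK i ≤ Xo hK i := inf_le_left

theorem disjoint_p {a b : ℕ} (hab : a < b) (hb : b ≤ 8) : Xp hK a ⊓ V (Xp hK) (a + 1) b = ⊥ :=
  eq_bot_iff.2 ((inf_le_inf (Xp_le hK a) (iSup₂_mono fun c _ => Xp_le hK c)).trans
    (disjoint_o hK hab hb).le)

theorem theta_V {a b : ℕ} {u : G F} (hu : u ∈ V (Xo hK) a b) : (tw hK).σ u ∈ V (Xo hK) a b :=
  (show V (Xo hK) a b ≤ (V (Xo hK) a b).comap (tw hK).σ.toMonoidHom from iSup₂_le fun c hc _ hz =>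
    le_V (Xo hK) hc.1 hc.2 (σ_Xorb (core hK) hz)) hu

theorem fix_mem : ∀ d a b, b - a = d → b ≤ 8 → ∀ u ∈ V (Xo hK) a b, (tw hK).σ u = u →
    u ∈ V (Xp hK) a b := by
  intro d
  induction d with
  | zero =>
    intro a b hd _ u hu _
    rw [V_empty _ (by omega), Subgroup.mem_bot] at hu
    exact hu ▸ Subgroup.one_mem _
  | succ d ih =>
    intro a b hd hb u hu hfix
    obtain ⟨x, hx, w, hw, rfl⟩ := Schur.RootLift.ordered (Xo hK) (show a < b by omega)
      (fun c h1 h2 => comm_o hK a c h1 (by omega)) hu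
    rw [map_mul] at hfix
    have h1 : x⁻¹ * (tw hK).σ x ∈ Xo hK a ⊓ V (Xo hK) (a + 1) b := by
      refine ⟨(Xo hK a).mul_mem ((Xo hK a).inv_mem hx) (σ_Xorb (core hK) hx), ?_⟩
      rw [show x⁻¹ * (tw hK).σ x = w * ((tw hK).σ w)⁻¹ by
        rw [eq_mul_inv_iff_mul_eq, mul_assoc, hfix, inv_mul_cancel_left]]
      exact Subgroup.mul_mem _ hw (Subgroup.inv_mem _ (theta_V hK hw))
    rw [disjoint_o hK (by omega) hb, Subgroup.mem_bot, inv_mul_eq_one] at h1
    rw [← h1, mul_right_inj] at hfix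
    refine Subgroup.mul_mem _ (le_V (Xp hK) le_rfl (by omega) ⟨hx, mem_Fix.2 h1.symm⟩) ?_
    exact Schur.RootLift.V_mono (Xp hK) (by omega) le_rfl (ih (a + 1) b (by omega) hb w hw hfix)

/-- Commutators of two fixed classes. -/
theorem comm_p : ∀ a b, a < b → b < 8 → ∀ x ∈ Xp hK a, ∀ y ∈ Xp hK b, ⁅x, y⁆ ∈ V (Xp hK) (a + 1) b :=
  fun a b hab hb x hx y hy => fix_mem hK _ _ _ rfl hb.le _
    (comm_o hK a b hab hb x hx.1 y hy.1)
    (by rw [map_commutatorElement, mem_Fix.1 hx.2, mem_Fix.1 hy.2])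

theorem V_eq_U : V (Xp hK) 0 8 = (tw hK).data.U := by
  refine le_antisymm (iSup₂_le fun c hc => Data.X_le_U (D := (tw hK).data) (pos_mem ⟨c, hc.2⟩).1) ?_
  refine iSup₂_le fun o ho => ?_
  obtain ⟨c, hc, rfl⟩ := List.mem_map.1 (posList_eq_map ▸ pos_cover o ho)
  exact le_V (Xp hK) (Nat.zero_le c) (List.mem_range.1 hc)

end Cfsg.Agent.Twisted.F4
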