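/-
²F₄(q): the characters of the torus on the positive classes, and the independence of any two of them.
-/
import Cfsg.Agent.Lib.Twisted.F4.Intervals
import Cfsg.Agent.Lib.Twisted.F4.AutBase

set_option autoImplicit false

namespace Cfsg.Agent.Twisted.F4

open Cfsg.Lie Chev BNSetup
open Cfsg.Agent.RootBN Cfsg.Agent.RootBN.OTwist
open scoped commutatorElement

/-- The base root of a simple class. -/
def baseRoot : Fin 2 → Rt := ![r24, r25]

/-- The type of a place. -/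
def cls (i : ℕ) : Fin 2 := (reachW (pos i)).2

/-- The word carrying the simple class to a place. -/
def lw (i : ℕ) : List (Fin 2) := (reachW (pos i)).1

/-- The root carrying the character of a place. -/
def croot (i : ℕ) : ℕ := ev (flatJ (lw i)) (baseRoot (cls i))

/-- The coefficient of the exponent of the determinant of two characters. -/
def detP (r s : ℕ) : ℤ :=
  2 * (chevF4.cartan 2 r * chevF4.cartan 3 s - chevF4.cartan 3 r * chevF4.cartan 2 s) +
    (chevF4.cartan 1 r * chevF4.cartan 0 s - chevF4.cartan 0 r * chevF4.cartan 1 s)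

/-- The coefficient of `2 ^ m`. -/
def detQ (r s : ℕ) : ℤ :=
  2 * (chevF4.cartan 1 r * chevF4.cartan 3 s + chevF4.cartan 2 r * chevF4.cartan 0 s -
    chevF4.cartan 0 r * chevF4.cartan 2 s - chevF4.cartan 3 r * chevF4.cartan 1 s)

theorem det_check : ∀ i j : Fin 8, i ≠ j → ∃ e : Fin 12,
    (2 * detP (croot i.val) (croot j.val) ^ 2 - detQ (croot i.val) (croot j.val) ^ 2).natAbs = 2 ^ e.val := by
  decide +kernel

theorem croot_lt : ∀ i : Fin 8, croot i.val < chevF4.nroots := by decide +kernel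

theorem reach_pos : ∀ i : Fin 8, (lw i.val).foldr (fun k x => reflTab k x) (simp' (cls i.val)) = pos i.val := by
  decide +kernel

variable {F : Type*} [Field F] [CharP F 2] {m : ℕ}

omit [CharP F 2] in
theorem torusChar_pair (p : Fˣ × Fˣ) (r : ℕ) :
    torusChar chevF4 (cvec F m p) r =
      p.1 ^ ((2 : ℤ) ^ m * chevF4.cartan 0 r + chevF4.cartan 3 r) *
        p.2 ^ ((2 : ℤ) ^ m * chevF4.cartan 1 r + chevF4.cartan 2 r) := by
  show ∏ i : Fin 4, (cvec F m p) i ^ chevF4.cartan i.val r = _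
  rw [Fin.prod_univ_four]
  show (p.1 ^ 2 ^ m) ^ chevF4.cartan 0 r * (p.2 ^ 2 ^ m) ^ chevF4.cartan 1 r *
    p.2 ^ chevF4.cartan 2 r * p.1 ^ chevF4.cartan 3 r = _
  simp only [← zpow_natCast, ← _root_.zpow_mul]
  push_cast
  rw [_root_.zpow_add, _root_.zpow_add]
  simp only [mul_comm, mul_left_comm, mul_assoc]

variable [Fintype F] (hK : Fintype.card F = 2 ^ (2 * m + 1))
include hK

/-- The determinant of two characters is invertible on the multiplicative group. -/
theorem det_inj {i j : Fin 8} (hij : i ≠ j) {k : Fˣ}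
    (h : k ^ (((2 : ℤ) ^ m * chevF4.cartan 1 (croot i.val) + chevF4.cartan 2 (croot i.val)) *
        ((2 : ℤ) ^ m * chevF4.cartan 0 (croot j.val) + chevF4.cartan 3 (croot j.val)) -
      ((2 : ℤ) ^ m * chevF4.cartan 0 (croot i.val) + chevF4.cartan 3 (croot i.val)) *
        ((2 : ℤ) ^ m * chevF4.cartan 1 (croot j.val) + chevF4.cartan 2 (croot j.val))) = 1) : k = 1 := by
  obtain ⟨e, he⟩ := det_check i j hij
  set r := croot i.val
  set s := croot j.val
  have hx : k ^ (2 * ((2 : ℤ) ^ m) ^ 2 - 1) = 1 := by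
    rw [show (2 : ℤ) * ((2 : ℤ) ^ m) ^ 2 = ((2 ^ (2 * m + 1) : ℕ) : ℤ) by push_cast; ring,
      zpow_sub_one, zpow_natCast, mul_inv_eq_one]
    exact Units.ext (by rw [Units.val_pow_eq_pow_val]; exact pow_q hK (k : F))
  set x := (2 : ℤ) ^ m
  set P := detP r s with hP
  set Q := detQ r s with hQ
  set A := chevF4.cartan 1 r * chevF4.cartan 0 s - chevF4.cartan 0 r * chevF4.cartan 1 s with hA
  have h1 : k ^ (P + Q * x) = 1 := by
    set D := (x * chevF4.cartan 1 r + chevF4.cartan 2 r) * (x * chevF4.cartan 0 s + chevF4.cartan 3 s) -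
      (x * chevF4.cartan 0 r + chevF4.cartan 3 r) * (x * chevF4.cartan 1 s + chevF4.cartan 2 s) with hD
    rw [show P + Q * x = D * 2 + (2 * x ^ 2 - 1) * (-A) by
      rw [hP, hQ, hD, hA, detP, detQ]; ring, _root_.zpow_add, _root_.zpow_mul, _root_.zpow_mul,
      h, hx, _root_.one_zpow, _root_.one_zpow, one_mul]
  have h2 : k ^ (2 * P ^ 2 - Q ^ 2) = 1 := by
    rw [show 2 * P ^ 2 - Q ^ 2 = (P + Q * x) * (2 * P - 2 * Q * x) + (2 * x ^ 2 - 1) * Q ^ 2 by ring,
      _root_.zpow_add, _root_.zpow_mul, _root_.zpow_mul, h1, hx, _root_.one_zpow, _root_.one_zpow, one_mul]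
  have h3 : k ^ (2 * P ^ 2 - Q ^ 2).natAbs = 1 := pow_natAbs_eq_one.2 h2
  rw [he] at h3
  have key : ∀ n, k ^ 2 ^ n = 1 → k = 1 := by
    intro n
    induction n with
    | zero => simp
    | succ n ih =>
      intro hn
      refine ih (Units.ext ?_)
      have h' : ((k : F) ^ 2 ^ n) ^ 2 = 1 := by
        rw [← pow_mul, ← pow_succ]; simpa using congrArg Units.val hn
      rw [Units.val_pow_eq_pow_val, Units.val_one]
      exact CharTwo.sq_injective (by simpa using h')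
  exact key _ h3

/-- For two places some torus element is trivial on the first character only. -/
theorem exists_separating (hm : 1 ≤ m) {i j : Fin 8} (hij : i ≠ j) :
    ∃ c, tG F c ∈ (tw hK).data.H ∧ torusChar chevF4 c (croot i.val) = 1 ∧
      torusChar chevF4 c (croot j.val) ≠ 1 := by
  obtain ⟨k, hk⟩ := exists_ne_one hK hm
  refine ⟨cvec F m (k ^ ((2 : ℤ) ^ m * chevF4.cartan 1 (croot i.val) + chevF4.cartan 2 (croot i.val)),
    k ^ (-((2 : ℤ) ^ m * chevF4.cartan 0 (croot i.val) + chevF4.cartan 3 (croot i.val)))),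
    (mem_H'_iff hK).2 ⟨_, rfl⟩, ?_, fun h => hk (det_inj hK hij ?_)⟩
  · rw [torusChar_pair, ← _root_.zpow_mul, ← _root_.zpow_mul, ← _root_.zpow_add]
    rw [show ((2 : ℤ) ^ m * chevF4.cartan 1 (croot i.val) + chevF4.cartan 2 (croot i.val)) *
      ((2 : ℤ) ^ m * chevF4.cartan 0 (croot i.val) + chevF4.cartan 3 (croot i.val)) +
      -((2 : ℤ) ^ m * chevF4.cartan 0 (croot i.val) + chevF4.cartan 3 (croot i.val)) *
      ((2 : ℤ) ^ m * chevF4.cartan 1 (croot i.val) + chevF4.cartan 2 (croot i.val)) = 0 by ring, zpow_zero]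
  · rw [torusChar_pair, ← _root_.zpow_mul, ← _root_.zpow_mul, ← _root_.zpow_add] at h
    convert h using 2
    ring

/-- Two characters determine an element of the torus. -/
theorem eq_one_of_chars {i j : Fin 8} (hij : i ≠ j) {c : Nd → Fˣ} (hc : tG F c ∈ (tw hK).data.H)
    (h1 : torusChar chevF4 c (croot i.val) = 1) (h2 : torusChar chevF4 c (croot j.val) = 1) :
    tG F c = 1 := by
  obtain ⟨⟨a, b⟩, hp⟩ := (mem_H'_iff hK).1 hc
  have hcp := tG_injective hp
  subst hcp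
  rw [torusChar_pair] at h1 h2
  set A1 := (2 : ℤ) ^ m * chevF4.cartan 0 (croot i.val) + chevF4.cartan 3 (croot i.val)
  set B1 := (2 : ℤ) ^ m * chevF4.cartan 1 (croot i.val) + chevF4.cartan 2 (croot i.val)
  set A2 := (2 : ℤ) ^ m * chevF4.cartan 0 (croot j.val) + chevF4.cartan 3 (croot j.val)
  set B2 := (2 : ℤ) ^ m * chevF4.cartan 1 (croot j.val) + chevF4.cartan 2 (croot j.val)
  have e1 : ∀ u v : ℤ, a ^ (A1 * u + A2 * v) * b ^ (B1 * u + B2 * v) = 1 := fun u v => by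
    rw [_root_.zpow_add, _root_.zpow_add, _root_.zpow_mul, _root_.zpow_mul, _root_.zpow_mul, _root_.zpow_mul,
      show (a ^ A1) ^ u * (a ^ A2) ^ v * ((b ^ B1) ^ u * (b ^ B2) ^ v) =
        ((a ^ A1) ^ u * (b ^ B1) ^ u) * ((a ^ A2) ^ v * (b ^ B2) ^ v) by ac_rfl,
      ← mul_zpow, ← mul_zpow, h1, h2, _root_.one_zpow, _root_.one_zpow, one_mul]
  have ha : a = 1 := by
    refine det_inj hK hij ?_
    have h := e1 (-B2) B1
    rw [show B1 * -B2 + B2 * B1 = 0 by ring, zpow_zero, mul_one] at h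
    convert h using 2
    simp only [A1, A2, B1, B2]; ring
  have hb : b = 1 := by
    refine det_inj hK hij ?_
    have h := e1 (-A2) A1
    rw [show A1 * -A2 + A2 * A1 = 0 by ring, zpow_zero, one_mul] at h
    have h' : b ^ (-(B1 * -A2 + B2 * A1)) = 1 := by rw [_root_.zpow_neg, h, inv_one]
    convert h' using 2
    simp only [A1, A2, B1, B2]; ring
  subst ha hb
  rw [show ((1 : Fˣ), (1 : Fˣ)) = 1 from rfl, map_one, map_one]

/-! ### The action on one class -/

theorem f1_zero_mem_of_invariant {K : Subgroup (G F)}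
    (hinv : ∀ h ∈ (tw hK).data.H, ∀ y ∈ K, h * y * h⁻¹ ∈ K) {u₀ : F} (hu₀ : u₀ ≠ 0)
    (hmem : f1 m 0 u₀ ∈ K) : ∀ u, f1 m 0 u ∈ K := by
  intro u
  by_cases hu : u = 0
  · rw [hu, f1_zero]; exact K.one_mem
  have hinj : Function.Injective fun a : Fˣ => a ^ (2 ^ m + 1) := fun a b h => by
    refine exponent_injective hK ?_
    show a ^ (2 * 2 ^ m + 2) = b ^ (2 * 2 ^ m + 2)
    rw [show 2 * 2 ^ m + 2 = (2 ^ m + 1) * 2 by ring, pow_mul, pow_mul, show a ^ (2 ^ m + 1) = b ^ (2 ^ m + 1) from h]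
  obtain ⟨y, hy⟩ := Finite.injective_iff_surjective.1 hinj (Units.mk0 (u / u₀) (div_ne_zero hu hu₀))
  obtain ⟨c, hc, -, hc25⟩ := exists_torus hK 1 y
  have := hinv _ hc _ hmem
  rw [(conj_f hK hc).2, mul_zero, hc25] at this
  have e : (y : F) ^ (2 ^ m + 1) = u / u₀ := by simpa using congrArg Units.val hy
  rwa [e, div_mul_cancel₀ _ hu₀] at this

/-- The derived group of the class of type B₂. -/
theorem mem_derived_one (hm : 1 ≤ m) {y : G F} :
    y ∈ ⁅(tw hK).X' (simp' 1), (tw hK).X' (simp' 1)⁆ ↔ ∃ u, y = f1 m 0 u := by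
  constructor
  · intro hy
    let K : Subgroup (G F) :=
      { carrier := {y | ∃ u, y = f1 m 0 u}
        one_mem' := ⟨0, f1_zero.symm⟩
        mul_mem' := by
          rintro _ _ ⟨u, rfl⟩ ⟨u', rfl⟩
          exact ⟨u + u', by rw [f1_mul hK]; simp [zero_pow (pow_ne_zero m two_ne_zero)]⟩
        inv_mem' := by
          rintro _ ⟨u, rfl⟩
          refine ⟨u, inv_eq_of_mul_eq_one_left ?_⟩
          rw [f1_mul hK]; simp [zero_pow (pow_ne_zero m two_ne_zero), CharTwo.add_self_eq_zero, f1_zero] }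
    refine (show _ ≤ K from ?_) hy
    rw [Subgroup.commutator_le]
    intro a ha b hb
    obtain ⟨t, u, rfl⟩ := (mem_X'1 hK).1 ha
    obtain ⟨t', u', rfl⟩ := (mem_X'1 hK).1 hb
    refine ⟨t ^ 2 ^ m * t' + t' ^ 2 ^ m * t, ?_⟩
    rw [commutatorElement_def, mul_inv_eq_iff_eq_mul, mul_inv_eq_iff_eq_mul, f1_mul hK, f1_mul hK,
      f1_mul hK]
    congr 1
    · ring
    · simp only [zero_pow (pow_ne_zero m two_ne_zero)]
      linear_combination (-(t' ^ 2 ^ m * t)) * CharTwo.two_eq_zero (R := F)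
  · rintro ⟨u, rfl⟩
    obtain ⟨s, hs⟩ := exists_ne_half hK hm
    refine f1_zero_mem_of_invariant hK (fun h hh z hz => ?_) hs ?_ u
    · have := Subgroup.mem_map_of_mem (MulAut.conj h).toMonoidHom hz
      rw [Subgroup.map_commutator] at this
      refine (Subgroup.commutator_mono ?_ ?_) this <;>
        exact Subgroup.map_le_iff_le_comap.2 fun x hx => (dax hK).H_conj _ h hh x hx
    · have hmem := Subgroup.commutator_mem_commutator ((mem_X'1 hK).2 ⟨1, (0 : F), rfl⟩)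
        ((mem_X'1 hK).2 ⟨s, (0 : F), rfl⟩)
      convert hmem using 1
      rw [commutatorElement_def, eq_mul_inv_iff_mul_eq, eq_mul_inv_iff_mul_eq, f1_mul hK, f1_mul hK,
        f1_mul hK]
      simp only [zero_pow (pow_ne_zero m two_ne_zero), one_pow]
      congr 1
      · ring
      · linear_combination (s ^ 2 ^ m) * CharTwo.two_eq_zero (R := F)

/-- The action of a torus element on a simple class, in terms of its character. -/
theorem simple_action (hm : 1 ≤ m) (j : Fin 2) {c : Nd → Fˣ} (hc : tG F c ∈ (tw hK).data.H) :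
    (torusChar chevF4 c (baseRoot j).val = 1 → ∀ y ∈ (tw hK).X' (simp' j),
      tG F c * y * (tG F c)⁻¹ = y) ∧
    (torusChar chevF4 c (baseRoot j).val ≠ 1 →
      (∀ y ∈ (tw hK).X' (simp' j), ⁅tG F c, y⁆ ∈ ⁅(tw hK).X' (simp' j), (tw hK).X' (simp' j)⁆ →
        y ∈ ⁅(tw hK).X' (simp' j), (tw hK).X' (simp' j)⁆) ∧
      ∀ y ∈ (tw hK).X' (simp' j), ∃ y' ∈ (tw hK).X' (simp' j),
        ∃ d ∈ ⁅(tw hK).X' (simp' j), (tw hK).X' (simp' j)⁆, y = d * ⁅tG F c, y'⁆) := by
  obtain ⟨h0, h1⟩ := conj_f hK hc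
  fin_cases j
  · show ((torusChar chevF4 c 24 = 1 → _) ∧ (torusChar chevF4 c 24 ≠ 1 → _))
    set χ := torusChar chevF4 c 24
    have hD : ⁅(tw hK).X' (simp' 0), (tw hK).X' (simp' 0)⁆ = ⊥ := by
      rw [eq_bot_iff, Subgroup.commutator_le]
      intro a ha b hb
      obtain ⟨t, rfl⟩ := (mem_X'0 hK).1 ha
      obtain ⟨t', rfl⟩ := (mem_X'0 hK).1 hb
      rw [Subgroup.mem_bot, commutatorElement_eq_one_iff_mul_comm, f0_mul, f0_mul, add_comm]
    have hinv : ∀ t : F, (f0 m t)⁻¹ = f0 m t := fun t =>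
      inv_eq_of_mul_eq_one_left (by rw [f0_mul, CharTwo.add_self_eq_zero, f0_zero])
    have hcomm : ∀ t : F, ⁅tG F c, f0 m t⁆ = f0 m (((χ : F) + 1) * t) := fun t => by
      rw [commutatorElement_def, h0, hinv, f0_mul, add_mul, one_mul]
    refine ⟨fun he y hy => ?_, fun hne => ?_⟩
    · obtain ⟨t, rfl⟩ := (mem_X'0 hK).1 hy
      rw [h0, he, Units.val_one, one_mul]
    · have hx : (χ : F) + 1 ≠ 0 := fun h => hne (Units.ext (by rwa [CharTwo.add_eq_zero] at h))
      refine ⟨fun y hy hd => ?_, fun y hy => ?_⟩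
      · obtain ⟨t, rfl⟩ := (mem_X'0 hK).1 hy
        simp only [Fin.isValue, Fin.zero_eta, hD, Subgroup.mem_bot] at hd ⊢
        rw [hcomm, ← f0_zero (m := m)] at hd
        rw [(mul_eq_zero.1 (f0_inj hd)).resolve_left hx, f0_zero]
      · obtain ⟨t, rfl⟩ := (mem_X'0 hK).1 hy
        refine ⟨f0 m (((χ : F) + 1)⁻¹ * t), (mem_X'0 hK).2 ⟨_, rfl⟩, 1, Subgroup.one_mem _, ?_⟩
        rw [one_mul, hcomm, mul_inv_cancel_left₀ hx]
  · show ((torusChar chevF4 c 25 = 1 → _) ∧ (torusChar chevF4 c 25 ≠ 1 → _))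
    set χ := torusChar chevF4 c 25
    have hcomm : ∀ t u : F, ∃ v, ⁅tG F c, f1 m t u⁆ = f1 m (((χ : F) + 1) * t) v := fun t u => by
      refine ⟨(χ : F) ^ (2 ^ m + 1) * u + u + ((χ : F) * t) ^ 2 ^ m * t + t ^ 2 ^ m * t, ?_⟩
      rw [commutatorElement_def, h1, mul_inv_eq_iff_eq_mul, f1_mul hK]
      congr 1
      · linear_combination (-t) * CharTwo.two_eq_zero (R := F)
      · rw [mul_pow, mul_pow, add_pow_char_pow, one_pow]
        linear_combination (-u - (χ : F) ^ 2 ^ m * t ^ 2 ^ m * t - t ^ 2 ^ m * t) *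
          CharTwo.two_eq_zero (R := F)
    refine ⟨fun he y hy => ?_, fun hne => ?_⟩
    · obtain ⟨t, u, rfl⟩ := (mem_X'1 hK).1 hy
      rw [h1, he, Units.val_one, one_mul, one_pow, one_mul]
    · have hx : (χ : F) + 1 ≠ 0 := fun h => hne (Units.ext (by rwa [CharTwo.add_eq_zero] at h))
      refine ⟨fun y hy hd => ?_, fun y hy => ?_⟩
      · obtain ⟨t, u, rfl⟩ := (mem_X'1 hK).1 hy
        obtain ⟨v, hv⟩ := hcomm t u
        obtain ⟨w, hw⟩ := (mem_derived_one hK hm).1 hd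
        rw [hv] at hw
        exact (mem_derived_one hK hm).2 ⟨u, by
          rw [(mul_eq_zero.1 (f1_inj hw).1).resolve_left hx]⟩
      · obtain ⟨t, u, rfl⟩ := (mem_X'1 hK).1 hy
        obtain ⟨v, hv⟩ := hcomm (((χ : F) + 1)⁻¹ * t) 0
        rw [mul_inv_cancel_left₀ hx] at hv
        refine ⟨f1 m (((χ : F) + 1)⁻¹ * t) 0, (mem_X'1 hK).2 ⟨_, _, rfl⟩, f1 m 0 (u + v),
          (mem_derived_one hK hm).2 ⟨_, rfl⟩, ?_⟩
        rw [hv, f1_mul hK]
        congr 1
        · ring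
        · simp only [zero_pow (pow_ne_zero m two_ne_zero)]
          linear_combination (-v) * CharTwo.two_eq_zero (R := F)

theorem wl_lw (i : Fin 8) : (tw hK).data.wl (lw i.val) (simp' (cls i.val)) = pos i.val := by
  conv_rhs => rw [← reach_pos i]
  induction lw i.val with
  | nil => rfl
  | cons k l ih => rw [Data.wl_cons, Equiv.Perm.mul_apply, List.foldr_cons, ih]; rfl

/-- Each place is a conjugate of its simple class, compatibly with the characters. -/
theorem transport (i : Fin 8) : ∃ n ∈ (tw hK).data.N,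
    (tw hK).X' (pos i.val) = ((tw hK).X' (simp' (cls i.val))).map (MulAut.conj n).toMonoidHom ∧
    ∀ c, tG F c ∈ (tw hK).data.H → ∃ c', tG F c' ∈ (tw hK).data.H ∧ tG F c = n * tG F c' * n⁻¹ ∧
      torusChar chevF4 c' (baseRoot (cls i.val)).val = torusChar chevF4 c (croot i.val) := by
  have ax := dax hK
  refine ⟨(tw hK).data.nw (lw i.val), Data.nw_mem_N _, ?_, fun c hc => ?_⟩
  · ext y
    have hact := Data.acts_nw ax (lw i.val) (simp' (cls i.val))
      (((tw hK).data.nw (lw i.val))⁻¹ * y * (tw hK).data.nw (lw i.val))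
    rw [wl_lw hK] at hact
    rw [Subgroup.mem_map_equiv]
    simpa [mul_assoc, OTwist.data] using hact
  · have hmem := Data.N_conj_H ax ((tw hK).data.N.inv_mem (Data.nw_mem_N (lw i.val))) hc
    rw [inv_inv] at hmem
    obtain ⟨c', hc'⟩ := exists_tG (show _ ∈ (gd F).H from hmem.1)
    refine ⟨c', hc' ▸ hmem, by rw [← hc']; group, Units.ext ?_⟩
    have e : tG F c = (gd F).nw (flatJ (lw i.val)) * tG F c' * ((gd F).nw (flatJ (lw i.val)))⁻¹ := by
      rw [← hc', OTwist.nw_data, show (tw hK).flat (lw i.val) = flatJ (lw i.val) from rfl]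
      group
    exact (char_conj (r := ⟨croot i.val, croot_lt i⟩) (s := baseRoot (cls i.val)) rfl e).symm

/-- The action of a torus element on a place, in terms of its character. -/
theorem class_action (hm : 1 ≤ m) (i : Fin 8) {c : Nd → Fˣ} (hc : tG F c ∈ (tw hK).data.H) :
    (torusChar chevF4 c (croot i.val) = 1 → ∀ y ∈ Xp hK i.val, tG F c * y * (tG F c)⁻¹ = y) ∧
    (torusChar chevF4 c (croot i.val) ≠ 1 →
      (∀ y ∈ Xp hK i.val, ⁅tG F c, y⁆ ∈ ⁅Xp hK i.val, Xp hK i.val⁆ → y ∈ ⁅Xp hK i.val, Xp hK i.val⁆) ∧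
      ∀ y ∈ Xp hK i.val, ∃ y' ∈ Xp hK i.val, ∃ d ∈ ⁅Xp hK i.val, Xp hK i.val⁆, y = d * ⁅tG F c, y'⁆) := by
  obtain ⟨n, -, hX, hc'⟩ := transport hK i
  obtain ⟨c', hc'H, e, hchar⟩ := hc' c hc
  obtain ⟨s1, s2⟩ := simple_action hK hm (cls i.val) hc'H
  rw [hchar] at s1 s2
  have hX' : Xp hK i.val = ((tw hK).X' (simp' (cls i.val))).map (MulAut.conj n).toMonoidHom := hX
  have hD : ⁅Xp hK i.val, Xp hK i.val⁆ = (⁅(tw hK).X' (simp' (cls i.val)),
      (tw hK).X' (simp' (cls i.val))⁆).map (MulAut.conj n).toMonoidHom := by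
    rw [Subgroup.map_commutator, hX']
  have hconj : ∀ z, ⁅tG F c, n * z * n⁻¹⁆ = n * ⁅tG F c', z⁆ * n⁻¹ := fun z => by
    rw [e]; simp only [commutatorElement_def]; group
  refine ⟨fun h y hy => ?_, fun h => ⟨fun y hy hd => ?_, fun y hy => ?_⟩⟩
  · rw [hX'] at hy
    obtain ⟨z, hz, rfl⟩ := hy
    show tG F c * (n * z * n⁻¹) * (tG F c)⁻¹ = n * z * n⁻¹
    conv_rhs => rw [← s1 h z hz]
    rw [e]; group
  · rw [hD] at hd ⊢
    rw [hX'] at hy
    obtain ⟨z, hz, rfl⟩ := hy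
    change ⁅tG F c, n * z * n⁻¹⁆ ∈ _ at hd
    rw [hconj] at hd
    obtain ⟨w, hw, ew⟩ := hd
    change n * w * n⁻¹ = _ at ew
    exact ⟨z, (s2 h).1 z hz (mul_left_cancel (mul_right_cancel ew) ▸ hw), rfl⟩
  · rw [hX'] at hy
    obtain ⟨z, hz, rfl⟩ := hy
    obtain ⟨z', hz', d, hd, ez⟩ := (s2 h).2 z hz
    refine ⟨n * z' * n⁻¹, hX' ▸ ⟨z', hz', rfl⟩, n * d * n⁻¹, hD ▸ ⟨d, hd, rfl⟩, ?_⟩
    show n * z * n⁻¹ = _
    rw [hconj, ez]; group

end Cfsg.Agent.Twisted.F4
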