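/-
²F₄(q): the primes dividing the orders of the elements commuting with an involution.
-/
import Cfsg.Agent.Lib.Twisted.F4.Structure
import Cfsg.Agent.Lib.BNPair.FixedEuler
import Cfsg.Agent.Lib.LieOrder.Bounds

set_option autoImplicit false
set_option linter.style.haveILetI false

namespace Cfsg.Agent.RootBN.Data

variable {M : Type*} [Group M] {ι : Type*} {κ : Type*} {D : Data M ι κ} (ax : D.Axioms)
include ax

/-- The cells of the (B,N)-pair are the cells of the root data. -/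
theorem cellCount_bnPair [Finite M] (l : List κ) :
    BN.cellCount (bnPair ax)
      (QuotientGroup.mk (⟨⟨D.nw l, N_le_grp ax (nw_mem_N l)⟩, Subgroup.mem_subgroupOf.2 (nw_mem_N l)⟩ :
        (bnPair ax).N)) = Nat.card (D.cosets (D.wl l)) := by
  set n : (bnPair ax).N :=
    ⟨⟨D.nw l, N_le_grp ax (nw_mem_N l)⟩, Subgroup.mem_subgroupOf.2 (nw_mem_N l)⟩
  have hB : ∀ b : D.grp, b ∈ (bnPair ax).B ↔ (b : M) ∈ D.B := fun b => Subgroup.mem_subgroupOf
  have key : ∀ g : D.grp, g ∈ BN.cell (bnPair ax) (QuotientGroup.mk n) ↔ (g : M) ∈ D.cell (D.wl l) := by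
    intro g
    rw [mem_cell_iff ax (nw_mem_N l) (acts_nw ax l)]
    constructor
    · intro hg
      obtain ⟨b, hb, c, hc, rfl⟩ :=
        BN.exists_of_mem_cell _ hg (BN.mem_cell_self (bnPair ax) n)
      exact ⟨b, (hB b).1 hb, c, (hB c).1 hc, rfl⟩
    · rintro ⟨b, hb, c, hc, e⟩
      have e' : g = (⟨b, B_le_grp ax hb⟩ : D.grp) * (n : D.grp) * ⟨c, B_le_grp ax hc⟩ := Subtype.ext e
      rw [e']
      exact BN.mul_mem_cell _ (BN.mem_cell_self (bnPair ax) n) ((hB _).2 hb) ((hB _).2 hc)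
  let f : {y : D.grp ⧸ (bnPair ax).B // BN.qIdx (bnPair ax) y = QuotientGroup.mk n} →
      D.cosets (D.wl l) := fun y =>
    ⟨((y.1.out : M) : M ⧸ D.B), mem_cosets.2 ((key _).1 (by
      have := BN.mem_cell_wIdx (bnPair ax) y.1.out
      rwa [BN.qIdx_out, y.2] at this))⟩
  refine Nat.card_eq_of_bijective f ⟨?_, ?_⟩
  · intro y y' h
    have h' := congrArg Subtype.val h
    simp only [f, QuotientGroup.eq] at h'
    apply Subtype.ext
    rw [← BN.mk_out y.1, ← BN.mk_out y'.1, QuotientGroup.eq, hB]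
    simpa using h'
  · rintro ⟨x, hx⟩
    obtain ⟨g, rfl⟩ := QuotientGroup.mk_surjective x
    have hg := mem_cosets.1 hx
    have hgG : g ∈ D.grp := cell_subset_grp ax l hg
    refine ⟨⟨((⟨g, hgG⟩ : D.grp) : D.grp ⧸ (bnPair ax).B), BN.wIdx_eq _ ((key _).2 hg)⟩, Subtype.ext ?_⟩
    show ((((⟨g, hgG⟩ : D.grp) : D.grp ⧸ (bnPair ax).B).out : M) : M ⧸ D.B) = _
    have := QuotientGroup.eq.1 (BN.mk_out ((⟨g, hgG⟩ : D.grp) : D.grp ⧸ (bnPair ax).B))
    rw [hB] at this
    exact QuotientGroup.eq.2 (by simpa using this)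

end Cfsg.Agent.RootBN.Data

namespace Cfsg.Agent.Twisted.F4

open Cfsg.Lie Chev BNSetup
open Cfsg.Agent.RootBN (OTwist)
open Cfsg.Agent.RootBN.OTwist

variable {F : Type*} [Field F] [CharP F 2] [Fintype F] {m : ℕ}
  (hK : Fintype.card F = 2 ^ (2 * m + 1))
include hK

theorem card_cosets_rep {d : List (Fin 2)} (hd : d ∈ reps) :
    Nat.card ((tw hK).data.cosets ((tw hK).data.wl d)) =
      Fintype.card F ^ (d.map fun i => i.val + 1).sum := by
  rw [RootBN.Data.card_cosets_word (dax hK) d fun a e he => ?_]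
  · clear hd
    induction d with
    | nil => simp
    | cons a d ih =>
      rw [List.map_cons, List.prod_cons, List.map_cons, List.sum_cons, pow_add, ih]
      congr 1
      exact card_X'_simp hK a
  · show 24 ≤ (rep ((tw hK).data.wl e.reverse (simp' a))).val
    rw [wl_act hK]
    exact asc_suffix (reps_asc d hd) a e he

theorem dvd_of_commute_involution {a b : ↥(twistedF4 F (2 ^ m))} {r : ℕ} (hr : r.Prime)
    (ha : orderOf a = 2) (hb : orderOf b = r) (hab : Commute a b) :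
    r ∣ Fintype.card F * (Fintype.card F ^ 4 - 1) := by
  classical
  by_contra hndvd
  set e : ↥(tw hK).data.grp ≃* ↥(twistedF4 F (2 ^ m)) :=
    (MulEquiv.subgroupCongr (grp_eq hK)).trans (equivTwisted hK) with he
  set P := RootBN.Data.bnPair (dax hK) with hP
  have hSsurj : ∀ s : P.S, ∃ i : Fin 2, ((s : ↥(tw hK).data.grp) : G F) = (tw hK).data.nn i := fun s => s.2
  choose idx hidx using hSsurj
  have hinj : Function.Injective idx := fun s t h =>
    Subtype.ext (Subtype.ext (by rw [hidx s, hidx t, h]))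
  haveI : Finite P.S := Finite.of_injective idx hinj
  letI : Fintype P.S := Fintype.ofFinite _
  set U : Subgroup ↥(tw hK).data.grp := (tw hK).data.U.subgroupOf (tw hK).data.grp with hU
  have hUG : (tw hK).data.U ≤ (tw hK).data.grp := RootBN.Data.U_le_B.trans (RootBN.Data.B_le_grp (dax hK))
  have hcardU : Nat.card U = Fintype.card F ^ 12 := by
    rw [hU, Nat.card_congr (Subgroup.subgroupOfEquivOfLe hUG).toEquiv, card_U hK]
  have hcardB : Nat.card P.B = Fintype.card F ^ 12 * (Fintype.card F - 1) ^ 2 := by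
    show Nat.card ((tw hK).data.B.subgroupOf (tw hK).data.grp) = _
    rw [Nat.card_congr (Subgroup.subgroupOfEquivOfLe (RootBN.Data.B_le_grp (dax hK))).toEquiv,
      card_B' (axioms hK), card_U hK, card_H hK]
  have hle : U ≤ P.B := fun x hx =>
    Subgroup.mem_subgroupOf.2 (RootBN.Data.U_le_B (Subgroup.mem_subgroupOf.1 hx))
  have hdec : ∀ x ∈ P.B, ∃ u ∈ U, ∃ h ∈ P.N, h ∈ P.B ∧ x = u * h := by
    intro x hx
    obtain ⟨u, hu, h, hh, hxe⟩ := (RootBN.Data.mem_B_iff (dax hK)).1 (Subgroup.mem_subgroupOf.1 hx)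
    exact ⟨⟨u, hUG hu⟩, hu, ⟨h, (dax hK).H_le hh⟩,
      Subgroup.mem_subgroupOf.2 (RootBN.Data.H_le_N hh),
      Subgroup.mem_subgroupOf.2 (RootBN.Data.H_le_B hh), Subtype.ext hxe⟩
  haveI : Fact (Nat.Prime 2) := ⟨Nat.prime_two⟩
  have hq2 : LieOrder.PosPow 2 (Fintype.card F) := ⟨2 * m + 1, by omega, hK⟩
  have hidxU : ¬ 2 ∣ U.index := by
    intro h
    have e1 := U.card_mul_index
    rw [Nat.card_congr e.toEquiv, card_twisted' hK, hcardU, mul_assoc, mul_assoc, mul_assoc] at e1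
    rw [Nat.eq_of_mul_eq_mul_left (pow_pos Fintype.card_pos _) e1] at h
    rcases Nat.prime_two.dvd_mul.1 h with h | h
    · exact LieOrder.not_dvd_sub_one Nat.prime_two hq2 h
    rcases Nat.prime_two.dvd_mul.1 h with h | h
    · exact LieOrder.not_dvd_pow_add_one Nat.prime_two hq2 (by norm_num) h
    rcases Nat.prime_two.dvd_mul.1 h with h | h
    · exact LieOrder.not_dvd_pow_sub_one Nat.prime_two hq2 (by norm_num) h
    · exact LieOrder.not_dvd_pow_add_one Nat.prime_two hq2 (by norm_num) h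
  have hUp : IsPGroup 2 U :=
    IsPGroup.of_card (n := (2 * m + 1) * 12) (by rw [hcardU, hK, ← pow_mul])
  have ha2 : orderOf (e.symm a) = 2 := by rw [e.symm.orderOf_eq, ha]
  obtain ⟨c, hc⟩ : ∃ c : ↥(tw hK).data.grp, c⁻¹ * e.symm a * c ∈ U := by
    have hz : IsPGroup 2 (Subgroup.zpowers (e.symm a)) :=
      IsPGroup.of_card (n := 1) (by rw [Nat.card_zpowers, ha2, pow_one])
    obtain ⟨Q, hQ⟩ := hz.exists_le_sylow
    obtain ⟨g, hg⟩ := MulAction.exists_smul_eq ↥(tw hK).data.grp Q (hUp.toSylow hidxU)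
    refine ⟨g⁻¹, ?_⟩
    have h1 : g * e.symm a * g⁻¹ ∈ ((g • Q : Sylow 2 ↥(tw hK).data.grp) : Subgroup ↥(tw hK).data.grp) := by
      rw [Sylow.coe_subgroup_smul]
      exact Subgroup.smul_mem_pointwise_smul (e.symm a) (MulAut.conj g) (Q : Subgroup ↥(tw hK).data.grp)
        (hQ (Subgroup.mem_zpowers _))
    rw [hg] at h1
    simpa using h1
  have h8 : ([1, 0, 1, 0, 1, 0, 1, 0] : List (Fin 2)) ∈ reps := by decide
  refine BN.not_commute_of_not_dvd_parabolic P hle hdec
    (w := QuotientGroup.mk (⟨⟨(tw hK).data.nw [1, 0, 1, 0, 1, 0, 1, 0],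
      RootBN.Data.N_le_grp (dax hK) (RootBN.Data.nw_mem_N _)⟩,
      Subgroup.mem_subgroupOf.2 (RootBN.Data.nw_mem_N _)⟩ : P.N)) ?_ hc ?_ hr
    (b := e.symm b) ?_ (hab.map e.symm) ?_
  · rw [RootBN.Data.cellCount_bnPair (dax hK), card_cosets_rep hK h8, hcardU]
    simp
  · intro h
    rw [h, orderOf_one] at ha2
    omega
  · rw [e.symm.orderOf_eq, hb]
  intro J hJ hdvd
  obtain ⟨s, hs⟩ := (Set.ne_univ_iff_exists_notMem J).1 hJ
  have hcc : ∀ t : P.S,
      BN.cellCount P (BN.refl P t) = Fintype.card F ^ ((idx t).val + 1) := by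
    intro t
    have h1 : ([idx t] : List (Fin 2)) ∈ reps := by
      generalize idx t = i
      revert i
      decide
    have h2 := RootBN.Data.cellCount_bnPair (dax hK) [idx t]
    rw [card_cosets_rep hK h1] at h2
    have h3 : BN.refl P t = QuotientGroup.mk (⟨⟨(tw hK).data.nw [idx t],
        RootBN.Data.N_le_grp (dax hK) (RootBN.Data.nw_mem_N _)⟩,
        Subgroup.mem_subgroupOf.2 (RootBN.Data.nw_mem_N _)⟩ : P.N) :=
      congrArg QuotientGroup.mk (Subtype.ext (Subtype.ext (by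
        show ((t : ↥(tw hK).data.grp) : G F) = (tw hK).data.nw [idx t]
        rw [hidx t, RootBN.Data.nw_cons, RootBN.Data.nw_nil, mul_one])))
    rw [h3, h2]
    simp
  obtain ⟨t, ht⟩ : ∃ t : P.S, J ⊆ {t} := by
    rcases J.eq_empty_or_nonempty with rfl | ⟨t, ht⟩
    · exact ⟨s, Set.empty_subset _⟩
    refine ⟨t, fun u hu => hinj ?_⟩
    have h1 : idx t ≠ idx s := fun h => hs (hinj h ▸ ht)
    have h2 : idx u ≠ idx s := fun h => hs (hinj h ▸ hu)
    omega
  have hd := hdvd.trans (Subgroup.card_dvd_of_le (BN.par_mono P ht))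
  rw [BN.card_par_singleton, hcardB, hcc] at hd
  have hq1 : Fintype.card F - 1 ∣ Fintype.card F ^ 4 - 1 := by
    simpa using Nat.sub_one_dvd_pow_sub_one (Fintype.card F) 4
  apply hndvd
  rcases hr.dvd_mul.1 hd with hd | hd
  · rcases hr.dvd_mul.1 hd with hd | hd
    · exact dvd_mul_of_dvd_left (hr.dvd_of_dvd_pow hd) _
    · exact dvd_mul_of_dvd_right ((hr.dvd_of_dvd_pow hd).trans hq1) _
  · refine dvd_mul_of_dvd_right (hd.trans ?_) _
    set q := Fintype.card F
    have hf : q ^ 4 - 1 = (q ^ 2 + 1) * ((q + 1) * (q - 1)) := by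
      have h1 : q ^ 4 - 1 = (q ^ 2) ^ 2 - 1 ^ 2 := by ring_nf
      rw [h1, Nat.sq_sub_sq, ← one_pow 2, Nat.sq_sub_sq q 1]
      simp
    rcases (show (idx t).val = 0 ∨ (idx t).val = 1 by omega) with h | h <;> rw [h, hf]
    · exact Dvd.intro (((q ^ 2 + 1) * (q - 1))) (by ring)
    · exact Dvd.intro ((q + 1) * (q - 1)) (by ring)

end Cfsg.Agent.Twisted.F4
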