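/-
²F₄(q): the two rank one groups act on small coordinate sections as SL(2,q) and Sz(q).
-/
import Cfsg.Agent.Lib.Twisted.F4.Intervals
import Cfsg.Agent.Lib.Twisted.F4.AutBase
import Cfsg.Agent.Lib.Sz.Simple
import Cfsg.Agent.Lib.PSL2.Basic

set_option autoImplicit false

namespace Cfsg.Agent.Twisted.F4

open Cfsg.Lie Chev BNSetup Matrix
open Cfsg.Agent.RootBN Cfsg.Agent.RootBN.OTwist

/-! ### Sections of the coordinate space -/

/-- The degrees of the terms of an entry with odd coefficient. -/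
def degs (r a b : ℕ) : List ℕ := ((pTerms chevF4 r a b).filter fun p => p.2 % 2 != 0).map Prod.fst

variable {F : Type*} [Field F]

/-- The matrix of an element. -/
abbrev mat (g : G F) : Matrix chevF4.Idx chevF4.Idx F := ((g : GL chevF4.Idx F) : Matrix chevF4.Idx chevF4.Idx F)

theorem mat_mul (g h : G F) : mat (g * h) = mat g * mat h := rfl

section Section

variable {n : ℕ} (e : Fin n → chevF4.Idx)

/-- The block of an element on a set of coordinates. -/
def sub (g : G F) : Matrix (Fin n) (Fin n) F := (mat g).submatrix e e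

/-- The rows of a set of coordinates vanish outside it. -/
def Stab (g : G F) : Prop := ∀ i c, (∀ k, e k ≠ c) → mat g (e i) c = 0

variable {e}

theorem sub_mul (he : Function.Injective e) {g h : G F} (hg : Stab e g) :
    sub e (g * h) = sub e g * sub e h := by
  ext i k
  simp only [sub, Matrix.submatrix_apply, Matrix.mul_apply, mat_mul]
  refine (Fintype.sum_of_injective e he _ _ (fun c hc => ?_) fun l => rfl).symm
  rw [hg i c fun l hl => hc ⟨l, hl⟩, zero_mul]

theorem sub_one (he : Function.Injective e) : sub e (1 : G F) = 1 := by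
  rw [sub, show mat (1 : G F) = 1 from rfl, Matrix.submatrix_one _ he]

theorem stab_one : Stab e (1 : G F) := fun i c h => by
  show (1 : Matrix chevF4.Idx chevF4.Idx F) (e i) c = 0
  exact Matrix.one_apply_ne (h i)

theorem stab_mul {g h : G F} (hg : Stab e g) (hh : Stab e h) : Stab e (g * h) := fun i c hc => by
  rw [mat_mul, Matrix.mul_apply]
  refine Finset.sum_eq_zero fun d _ => ?_
  by_cases hd : ∃ k, e k = d
  · obtain ⟨k, rfl⟩ := hd
    rw [hh k c hc, mul_zero]
  · rw [hg i d fun k hk => hd ⟨k, hk⟩, zero_mul]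

variable (F) in
/-- The elements acting on the section with determinant one. -/
def Dom (he : Function.Injective e) : Subgroup (G F) where
  carrier := {g | Stab e g ∧ Stab e g⁻¹ ∧ (sub e g).det = 1}
  one_mem' := ⟨stab_one, by rw [inv_one]; exact stab_one, by rw [sub_one he, Matrix.det_one]⟩
  mul_mem' := by
    rintro g h ⟨h1, h2, h3⟩ ⟨k1, k2, k3⟩
    refine ⟨stab_mul h1 k1, by rw [_root_.mul_inv_rev]; exact stab_mul k2 h2, ?_⟩
    rw [sub_mul he h1, Matrix.det_mul, h3, k3, one_mul]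
  inv_mem' := by
    rintro g ⟨h1, h2, h3⟩
    refine ⟨h2, by rw [inv_inv]; exact h1, ?_⟩
    have := congrArg Matrix.det (sub_mul (h := g⁻¹) he h1)
    rwa [mul_inv_cancel, sub_one he, Matrix.det_one, Matrix.det_mul, h3, one_mul, eq_comm] at this

/-- The action on the section. -/
def secRep (he : Function.Injective e) : ↥(Dom F he) →* SpecialLinearGroup (Fin n) F where
  toFun g := ⟨sub e (g : G F), g.2.2.2⟩
  map_one' := Subtype.ext (sub_one he)
  map_mul' g _ := Subtype.ext (sub_mul he g.2.1)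

theorem coe_secRep (he : Function.Injective e) (g : ↥(Dom F he)) :
    (secRep he g : Matrix (Fin n) (Fin n) F) = sub e (g : G F) := rfl

theorem sub_H {h : G F} (hh : h ∈ (gd F).H) (he : Function.Injective e) :
    ∃ d : Fin n → F, sub e h = Matrix.diagonal d := by
  obtain ⟨χ, hχ⟩ : ∃ χ : ℕ → F, mat h = hdiag chevF4 χ := tri_H facts good hh
  exact ⟨_, by rw [sub, hχ, hdiag, Matrix.submatrix_diagonal _ _ he]⟩

variable [CharP F 2]

omit [Field F] [CharP F 2] in
theorem evalT_degs {K : Type*} [Field K] [CharP K 2] (L : List (ℕ × ℤ)) (t : K) :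
    evalT L t = (((L.filter fun p => p.2 % 2 != 0).map Prod.fst).map (t ^ ·)).sum := by
  induction L with
  | nil => rfl
  | cons p L ih =>
    rw [show evalT (p :: L) t = (p.2 : K) * t ^ p.1 + evalT L t by simp [evalT], ih, cast_mod_two p.2]
    rcases Int.emod_two_eq p.2 with h | h <;> simp [h]

theorem mat_xg (r : Rt) (t : F) (a b : chevF4.Idx) :
    mat (xg r t) a b = ((degs r.val (idxNat a) (idxNat b)).map (t ^ ·)).sum := by
  rw [mat, coe_xg, coe_xe, x_apply (D := chevF4) r.2, evalT_degs]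
  rfl

theorem sub_xg (r : Rt) (t : F) :
    sub e (xg r t) = Matrix.of fun i k => ((degs r.val (idxNat (e i)) (idxNat (e k))).map (t ^ ·)).sum := by
  ext i k
  exact mat_xg r t _ _

variable (e) in
/-- Whether a root element preserves the section. -/
def chkStab (r : ℕ) : Prop :=
  ∀ i : Fin n, ∀ c : Fin 52, (∀ k, idxNat (e k) ≠ c.val) → degs r (idxNat (e i)) c.val = []

instance (r : ℕ) : Decidable (chkStab e r) := by unfold chkStab; infer_instance

theorem xg_mem_Dom (he : Function.Injective e) {r : Rt} (h : chkStab e r.val) (t : F) :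
    xg r t ∈ Dom F he := by
  have hst : ∀ s : F, Stab e (xg r s) := fun s i c hc => by
    rw [mat_xg, h i ⟨idxNat c, idxNat_lt c⟩ fun k hk => hc k (idxNat_injective hk)]
    rfl
  refine ⟨hst t, by rw [xg_inv]; exact hst t, CharTwo.sq_injective ?_⟩
  show (sub e (xg r t)).det ^ 2 = 1 ^ 2
  rw [sq, ← Matrix.det_mul, ← sub_mul he (hst t), xg_add, CharTwo.add_self_eq_zero, xg_zero, sub_one he,
    Matrix.det_one, one_pow]

variable (e) in
/-- The block of a root element at the parameter one, modulo two. -/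
def subTwo (r : ℕ) : Matrix (Fin n) (Fin n) (ZMod 2) :=
  Matrix.of fun i k => ((degs r (idxNat (e i)) (idxNat (e k))).length : ZMod 2)

theorem sub_xg_one (r : Rt) :
    sub e (xg r (1 : F)) = (subTwo e r.val).map (ZMod.castHom (dvd_refl 2) F) := by
  ext i k
  rw [sub_xg]
  simp [subTwo]

variable (e) in
/-- The block of the representative of a word, modulo two. -/
def wordTwo (l : List Nd) : Matrix (Fin n) (Fin n) (ZMod 2) :=
  (l.map fun k => subTwo e (sr k).val * subTwo e (opp (sr k)).val * subTwo e (sr k).val).prod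

theorem nw_block (he : Function.Injective e) (l : List Nd)
    (hl : ∀ k ∈ l, chkStab e (sr k).val ∧ chkStab e (opp (sr k)).val) :
    (gd F).nw l ∈ Dom F he ∧
      sub e ((gd F).nw l) = (wordTwo e l).map (ZMod.castHom (dvd_refl 2) F) := by
  induction l with
  | nil => exact ⟨by rw [RootBN.Data.nw_nil]; exact Subgroup.one_mem _,
      by rw [RootBN.Data.nw_nil, sub_one he, wordTwo, List.map_nil, List.prod_nil, Matrix.map_one _ (map_zero _) (map_one _)]⟩
  | cons i l ih =>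
    obtain ⟨h1, h2⟩ := hl i List.mem_cons_self
    obtain ⟨ih1, ih2⟩ := ih fun k hk => hl k (List.mem_cons_of_mem _ hk)
    have hnn : (gd F).nn i = xg (sr i) 1 * xg (opp (sr i)) 1 * xg (sr i) 1 := Subtype.ext (by
      show ne' good (chevF4.simple i.val) 1 = _
      simp only [Subgroup.coe_mul, coe_xg, ne', inv_one, CharTwo.neg_eq]
      rfl)
    have m1 := xg_mem_Dom (F := F) he h1 1
    have m2 := xg_mem_Dom (F := F) he h2 1
    have m3 := Subgroup.mul_mem _ (Subgroup.mul_mem _ m1 m2) m1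
    rw [RootBN.Data.nw_cons, hnn]
    refine ⟨Subgroup.mul_mem _ m3 ih1, ?_⟩
    rw [sub_mul he m3.1, ih2, sub_mul he (stab_mul m1.1 m2.1), sub_mul he m1.1, sub_xg_one, sub_xg_one,
      ← Matrix.map_mul, ← Matrix.map_mul, ← Matrix.map_mul]
    simp only [wordTwo, List.map_cons, List.prod_cons]

end Section

/-! ### The two sections -/

/-- The section of the class of type A₁ × A₁. -/
def sec0 : Fin 2 → chevF4.Idx := ![Sum.inr ⟨1, by decide⟩, Sum.inr ⟨0, by decide⟩]

/-- The section of the class of type B₂. -/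
def sec1 : Fin 4 → chevF4.Idx :=
  ![Sum.inr ⟨5, by decide⟩, Sum.inr ⟨4, by decide⟩, Sum.inr ⟨2, by decide⟩, Sum.inr ⟨1, by decide⟩]

theorem sec0_inj : Function.Injective sec0 := by decide +kernel

theorem sec1_inj : Function.Injective sec1 := by decide +kernel

theorem stab_check0 : ∀ r : Rt, orb r = simp' 0 ∨ orb (opp r) = simp' 0 → chkStab sec0 r.val := by
  decide +kernel

theorem stab_check1 : ∀ r : Rt, orb r = simp' 1 ∨ orb (opp r) = simp' 1 → chkStab sec1 r.val := by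
  decide +kernel

theorem table0 :
    (∀ i k, degs 24 (idxNat (sec0 i)) (idxNat (sec0 k)) = ![![[0], [1]], ![[], [0]]] i k) ∧
    ∀ i k, degs 33 (idxNat (sec0 i)) (idxNat (sec0 k)) = ![![[0], []], ![[], [0]]] i k := by
  decide +kernel

theorem table25 : ∀ i k, degs 25 (idxNat (sec1 i)) (idxNat (sec1 k)) =
    ![![[0], [1], [], []], ![[], [0], [], []], ![[], [], [0], [1]], ![[], [], [], [0]]] i k := by
  decide +kernel

theorem table27 : ∀ i k, degs 27 (idxNat (sec1 i)) (idxNat (sec1 k)) =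
    ![![[0], [], [], []], ![[], [0], [2], []], ![[], [], [0], []], ![[], [], [], [0]]] i k := by
  decide +kernel

theorem table28 : ∀ i k, degs 28 (idxNat (sec1 i)) (idxNat (sec1 k)) =
    ![![[0], [], [], [2]], ![[], [0], [], []], ![[], [], [0], []], ![[], [], [], [0]]] i k := by
  decide +kernel

theorem table30 : ∀ i k, degs 30 (idxNat (sec1 i)) (idxNat (sec1 k)) =
    ![![[0], [], [1], []], ![[], [0], [], [1]], ![[], [], [0], []], ![[], [], [], [0]]] i k := by
  decide +kernel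

theorem word_check : wordTwo sec0 (J 0) = !![0, 1; 1, 0] ∧
    wordTwo sec1 (J 1) = !![0, 0, 0, 1; 0, 0, 1, 0; 0, 1, 0, 0; 1, 0, 0, 0] := by decide +kernel

variable [CharP F 2] {m : ℕ}

theorem f0_block (t : F) : f0 m t ∈ Dom F sec0_inj ∧ sub sec0 (f0 m t) = !![1, t; 0, 1] := by
  have m1 : ∀ s : F, xg r33 s ∈ Dom F sec0_inj := xg_mem_Dom _ (stab_check0 _ (Or.inl (by decide)))
  have m2 : ∀ s : F, xg r24 s ∈ Dom F sec0_inj := xg_mem_Dom _ (stab_check0 _ (Or.inl (by decide)))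
  refine ⟨Subgroup.mul_mem _ (m1 _) (m2 _), ?_⟩
  rw [f0, E0, sub_mul sec0_inj (m1 _).1, sub_xg, sub_xg]
  ext i k
  fin_cases i <;> fin_cases k <;> simp [Matrix.mul_apply, Fin.sum_univ_two, table0.1, table0.2]

variable [Fintype F] (hK : Fintype.card F = 2 ^ (2 * m + 1))
include hK

theorem f1_block (t u : F) : f1 m t u ∈ Dom F sec1_inj ∧
    sub sec1 (f1 m t u) = SZ.tMat m t (u ^ (2 * 2 ^ m) + SZ.th m t * t) := by
  have hm' : ∀ r : Rt, orb r = simp' 1 → ∀ s : F, xg r s ∈ Dom F sec1_inj := fun r h =>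
    xg_mem_Dom _ (stab_check1 _ (Or.inl h))
  have m1 := hm' r27 (by decide) (t ^ 2 ^ m)
  have m2 := hm' r25 (by decide) t
  have m3 := hm' r28 (by decide) (t ^ (2 ^ m + 1) + u)
  have m4 := hm' r30 (by decide) (u ^ (2 * 2 ^ m))
  refine ⟨Subgroup.mul_mem _ (Subgroup.mul_mem _ (Subgroup.mul_mem _ m1 m2) m3) m4, ?_⟩
  rw [f1, E1, sub_mul sec1_inj (stab_mul (stab_mul m1.1 m2.1) m3.1),
    sub_mul sec1_inj (stab_mul m1.1 m2.1), sub_mul sec1_inj m1.1, sub_xg, sub_xg, sub_xg, sub_xg]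
  have e1 : (t ^ 2 ^ m) ^ 2 = SZ.th m t := by rw [SZ.th, ← pow_mul, ← pow_succ]
  have e2 : (t ^ (2 ^ m + 1) + u) ^ 2 = SZ.th m t * t ^ 2 + u ^ 2 := by
    rw [CharTwo.add_sq, ← pow_mul, SZ.th, ← pow_add, pow_succ]
    congr 2
    ring
  have e3 : SZ.th m (u ^ (2 * 2 ^ m) + SZ.th m t * t) = u ^ 2 + t ^ 2 * SZ.th m t := by
    rw [SZ.th_add hK, SZ.th_mul, SZ.th_th hK, show u ^ (2 * 2 ^ m) = SZ.th m u by
      rw [SZ.th, ← pow_succ'], SZ.th_th hK]
  have h2 : (2 : F) = 0 := CharTwo.two_eq_zero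
  ext i k
  fin_cases i <;> fin_cases k <;>
    simp [Matrix.mul_apply, Fin.sum_univ_four, table25, table27, table28, table30, SZ.tMat, SZ.zf, e1, e2, e3] <;>
    first
    | ring1
    | linear_combination -(SZ.th m t * t) * h2
    | linear_combination -(SZ.th m t * t ^ 2) * h2

/-! ### The rank one groups -/

/-- The rank one group of a simple class. -/
noncomputable def Lv (j : Fin 2) : Subgroup (G F) :=
  (tw hK).X' (simp' j) ⊔ (tw hK).X' ((tw hK).opp' (simp' j))

theorem Lv_le {j : Fin 2} {n : ℕ} {e : Fin n → chevF4.Idx} (he : Function.Injective e)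
    (h : ∀ r : Rt, orb r = simp' j ∨ orb (opp r) = simp' j → chkStab e r.val) : Lv hK j ≤ Dom F he := by
  have key : ∀ o, (o = simp' j ∨ o = (tw hK).opp' (simp' j)) → (tw hK).X' o ≤ Dom F he := by
    intro o ho
    refine inf_le_left.trans (iSup₂_le fun r hr y hy => ?_)
    obtain ⟨t, rfl⟩ := mem_X_iff.1 hy
    refine xg_mem_Dom he (h r ?_) t
    change orb r = o at hr
    rcases ho with rfl | rfl
    · exact Or.inl hr
    · refine Or.inr ?_
      have h' := (core hK).opp_orb r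
      change orb (opp r) = (tw hK).opp' (orb r) at h'
      rw [h', hr, opp'_opp' (core hK)]
  exact sup_le (key _ (Or.inl rfl)) (key _ (Or.inr rfl))

theorem nn'_mem_Lv (j : Fin 2) : (tw hK).nn' j ∈ Lv hK j :=
  nn'_mem_of hK j le_sup_left le_sup_right

/-- The two forms of an element of a rank one group. -/
theorem rank_form (j : Fin 2) {g : G F} (hg : g ∈ Lv hK j) :
    ∃ a ∈ (tw hK).X' (simp' j), ∃ h ∈ (tw hK).data.H,
      g = a * h ∨ ∃ b ∈ (tw hK).X' (simp' j), g = a * h * (tw hK).nn' j * b := by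
  have ax := dax hK
  set X := (tw hK).X' (simp' j) with hX
  set H := (tw hK).data.H with hH
  set n := (tw hK).nn' j with hn
  have hnn : n * n = 1 := nn'_sq hK j
  have hninv : n⁻¹ = n := inv_eq_of_mul_eq_one_right hnn
  let S : Set (G F) := {g | ∃ a ∈ X, ∃ h ∈ H, g = a * h ∨ ∃ b ∈ X, g = a * h * n * b}
  have hcX : ∀ h ∈ H, ∀ x ∈ X, h * x * h⁻¹ ∈ X := fun h hh x hx => ax.H_conj _ h hh x hx
  have hcX' : ∀ h ∈ H, ∀ x ∈ X, h⁻¹ * x * h ∈ X := fun h hh x hx => by
    have := ax.H_conj _ h⁻¹ (H.inv_mem hh) x hx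
    rwa [inv_inv] at this
  have hnH : ∀ h ∈ H, n * h * n⁻¹ ∈ H := fun h hh => ax.nn_H j h hh
  have hXS : ∀ x ∈ X, ∀ s ∈ S, x * s ∈ S := by
    rintro x hx s ⟨a, ha, h, hh, rfl | ⟨b, hb, rfl⟩⟩
    · exact ⟨x * a, X.mul_mem hx ha, h, hh, Or.inl (by group)⟩
    · exact ⟨x * a, X.mul_mem hx ha, h, hh, Or.inr ⟨b, hb, by group⟩⟩
  have hnS : ∀ s ∈ S, n * s ∈ S := by
    rintro s ⟨a, ha, h, hh, rfl | ⟨b, hb, rfl⟩⟩
    · exact ⟨1, X.one_mem, n * h * n⁻¹, hnH h hh, Or.inr ⟨h⁻¹ * a * h, hcX' h hh a ha, by group⟩⟩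
    · have e0 : n * (a * h * n * b) = n * a * n⁻¹ * (n * h * n⁻¹) * b := by
        calc n * (a * h * n * b) = n * a * n⁻¹ * (n * h * n⁻¹) * (n * n) * b := by group
          _ = _ := by rw [hnn, mul_one]
      rw [e0]
      by_cases ha1 : a = 1
      · subst ha1
        exact ⟨n * h * n⁻¹ * b * (n * h * n⁻¹)⁻¹, hcX _ (hnH h hh) b hb, n * h * n⁻¹, hnH h hh,
          Or.inl (by group)⟩
      have hy : n * a * n⁻¹ ∈ (tw hK).X' ((tw hK).opp' (simp' j)) := by
        have := ax.conj_X j _ a ha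
        erw [ax.refl_simp] at this
        exact this
      obtain ⟨a', ha', k, hk, b', hb', e⟩ := ax.rank_one j _ hy fun e => ha1 (conj_eq_one_iff.1 e)
      change n * a * n⁻¹ = a' * k * n * b' at e
      rw [e]
      set h' := n * h * n⁻¹ with hh'
      exact ⟨a', ha', k * (n * h' * n⁻¹), H.mul_mem hk (hnH _ (hnH h hh)),
        Or.inr ⟨h'⁻¹ * b' * h' * b, X.mul_mem (hcX' _ (hnH h hh) _ hb') hb, by group⟩⟩
  let T : Subgroup (G F) :=
    { carrier := {g | (∀ s ∈ S, g * s ∈ S) ∧ ∀ s ∈ S, g⁻¹ * s ∈ S}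
      one_mem' := ⟨fun s hs => by rwa [one_mul], fun s hs => by rwa [inv_one, one_mul]⟩
      mul_mem' := by
        rintro p q ⟨h1, h2⟩ ⟨k1, k2⟩
        exact ⟨fun s hs => by rw [mul_assoc]; exact h1 _ (k1 s hs),
          fun s hs => by rw [_root_.mul_inv_rev, mul_assoc]; exact k2 _ (h2 s hs)⟩
      inv_mem' := by
        rintro p ⟨h1, h2⟩
        exact ⟨h2, fun s hs => by rw [inv_inv]; exact h1 s hs⟩ }
  have hXT : X ≤ T := fun x hx => ⟨hXS x hx, hXS _ (X.inv_mem hx)⟩
  have hnT : n ∈ T := ⟨hnS, by rw [hninv]; exact hnS⟩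
  have hle : Lv hK j ≤ T := by
    refine sup_le hXT fun y hy => ?_
    have := ax.conj_X j _ y hy
    change n * y * n⁻¹ ∈ (tw hK).data.X _ at this
    erw [ax.refl_opp, ax.refl_simp, ax.opp_opp] at this
    rw [show y = n⁻¹ * (n * y * n⁻¹) * n by group]
    exact T.mul_mem (T.mul_mem (T.inv_mem hnT) (hXT this)) hnT
  have := (hle hg).1 1 ⟨1, X.one_mem, 1, H.one_mem, Or.inl (mul_one 1).symm⟩
  rwa [mul_one] at this

/-- The kernel of a representation faithful on the class is a central part of the torus. -/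
theorem ker_central (j : Fin 2) {K : Type*} [Group K] (σ : ↥(Lv hK j) →* K)
    (hX : ∀ a ∈ (tw hK).X' (simp' j), ∀ h ∈ (tw hK).data.H, ∀ hm : a * h ∈ Lv hK j,
      σ ⟨a * h, hm⟩ = 1 → a = 1)
    (hn : ∀ a ∈ (tw hK).X' (simp' j), ∀ h ∈ (tw hK).data.H, ∀ b ∈ (tw hK).X' (simp' j),
      ∀ hm : a * h * (tw hK).nn' j * b ∈ Lv hK j, σ ⟨_, hm⟩ ≠ 1)
    {g : ↥(Lv hK j)} (hg : σ g = 1) :
    (g : G F) ∈ (tw hK).data.H ∧ g ∈ Subgroup.center ↥(Lv hK j) := by
  have ax := dax hK
  set n := (tw hK).nn' j with hnd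
  have hn' : n ∈ Lv hK j := nn'_mem_Lv hK j
  have hker : ∀ g : ↥(Lv hK j), σ g = 1 → (g : G F) ∈ (tw hK).data.H := by
    rintro ⟨g, hgL⟩ h1
    obtain ⟨a, ha, h, hh, rfl | ⟨b, hb, rfl⟩⟩ := rank_form hK j hgL
    · show a * h ∈ (tw hK).data.H
      rw [hX a ha h hh hgL h1, one_mul]
      exact hh
    · exact absurd h1 (hn a ha h hh b hb hgL)
  have hcomm : ∀ g : ↥(Lv hK j), σ g = 1 → ∀ x ∈ (tw hK).X' (simp' j),
      x * (g : G F) = (g : G F) * x := by
    intro g h1 x hx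
    have hgH := hker g h1
    have hxL : x ∈ Lv hK j := Subgroup.mem_sup_left hx
    have hc : (g : G F) * x * (g : G F)⁻¹ * x⁻¹ ∈ (tw hK).X' (simp' j) :=
      Subgroup.mul_mem _ (ax.H_conj _ _ hgH x hx) (Subgroup.inv_mem _ hx)
    have e : (g : G F) * x * (g : G F)⁻¹ * x⁻¹ = 1 := by
      refine hX _ hc 1 (Subgroup.one_mem _) (by rw [mul_one]; exact Subgroup.mem_sup_left hc) ?_
      rw [show (⟨(g : G F) * x * (g : G F)⁻¹ * x⁻¹ * 1,
          (mul_one ((g : G F) * x * (g : G F)⁻¹ * x⁻¹)).symm ▸ Subgroup.mem_sup_left hc⟩ : ↥(Lv hK j)) =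
        g * ⟨x, hxL⟩ * g⁻¹ * ⟨x, hxL⟩⁻¹ from Subtype.ext (by simp), map_mul, map_mul, map_mul, map_inv,
        map_inv, h1]
      group
    exact ((mul_inv_eq_iff_eq_mul.1 (mul_inv_eq_one.1 e))).symm
  refine ⟨hker g hg, Subgroup.mem_center_iff.2 fun y => Subtype.ext ?_⟩
  have hle : Lv hK j ≤ Subgroup.centralizer {(g : G F)} := by
    refine sup_le (fun x hx => Subgroup.mem_centralizer_singleton_iff.2 (hcomm g hg x hx)) fun y hy => ?_
    have := ax.conj_X j _ y hy
    change n * y * n⁻¹ ∈ (tw hK).data.X _ at this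
    erw [ax.refl_opp, ax.refl_simp, ax.opp_opp] at this
    have hc := hcomm (⟨n, hn'⟩ * g * ⟨n, hn'⟩⁻¹) (by simp [hg]) _ this
    simp only [Subgroup.coe_mul, Subgroup.coe_inv] at hc
    refine Subgroup.mem_centralizer_singleton_iff.2 ?_
    calc y * (g : G F) = n⁻¹ * (n * y * n⁻¹ * (n * (g : G F) * n⁻¹)) * n := by group
      _ = n⁻¹ * (n * (g : G F) * n⁻¹ * (n * y * n⁻¹)) * n := by rw [hc]
      _ = (g : G F) * y := by group
  exact Subgroup.mem_centralizer_singleton_iff.1 (hle y.2)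

/-- The rank one group of type A₁ × A₁ maps onto SL(2,q), with central kernel inside the torus. -/
theorem exists_rep0 : ∃ σ : ↥(Lv hK 0) →* SpecialLinearGroup (Fin 2) F, Function.Surjective σ ∧
    ∀ g, σ g = 1 → (g : G F) ∈ (tw hK).data.H ∧ g ∈ Subgroup.center ↥(Lv hK 0) := by
  have hle := Lv_le hK sec0_inj stab_check0
  let σ := (secRep sec0_inj).comp (Subgroup.inclusion hle)
  have hn : sub sec0 ((tw hK).nn' 0) = (!![0, 1; 1, 0] : Matrix (Fin 2) (Fin 2) F) := by
    show sub sec0 ((gd F).nw (J 0)) = _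
    rw [(nw_block sec0_inj (J 0) (by decide +kernel)).2, word_check.1]
    ext i k; fin_cases i <;> fin_cases k <;> simp
  have hXt : ∀ a ∈ (tw hK).X' (simp' 0), ∃ t, a = f0 m t ∧ sub sec0 a = !![1, t; 0, 1] := fun a ha => by
    obtain ⟨t, rfl⟩ := (mem_X'0 hK).1 ha
    exact ⟨t, rfl, (f0_block t).2⟩
  refine ⟨σ, ?_, fun g hg => ker_central hK 0 σ ?_ ?_ hg⟩
  · rw [← MonoidHom.range_eq_top]
    have hu : ∀ t : F, PSL2.uu t ∈ σ.range := fun t => by
      refine ⟨⟨f0 m t, Subgroup.mem_sup_left ((mem_X'0 hK).2 ⟨t, rfl⟩)⟩, Subtype.ext ?_⟩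
      exact (f0_block t).2
    refine PSL2.eq_top_of_uu_ll hu fun t => ?_
    obtain ⟨x, hx⟩ := hu t
    refine ⟨⟨_, nn'_mem_Lv hK 0⟩ * x * ⟨_, nn'_mem_Lv hK 0⟩, ?_⟩
    rw [map_mul, map_mul, hx]
    refine Subtype.ext ?_
    show sub sec0 ((tw hK).nn' 0) * (PSL2.uu t).1 * sub sec0 ((tw hK).nn' 0) = (PSL2.ll t).1
    rw [hn]
    ext i k; fin_cases i <;> fin_cases k <;> simp [PSL2.uu, PSL2.ll, Matrix.mul_apply, Fin.sum_univ_two]
  · intro a ha h hh hm h1
    obtain ⟨t, rfl, hat⟩ := hXt a ha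
    obtain ⟨d, hd⟩ := sub_H hh.1 sec0_inj
    have e : sub sec0 (f0 m t * h) = 1 := congrArg Subtype.val h1
    rw [sub_mul sec0_inj (f0_block t).1.1, hat, hd] at e
    have e01 := congrFun (congrFun e 0) 1
    have e11 := congrFun (congrFun e 1) 1
    simp [Matrix.mul_apply, Matrix.diagonal_apply] at e01 e11
    rw [e11] at e01
    simp at e01
    rw [e01, f0_zero]
  · intro a ha h hh b hb hm h1
    obtain ⟨t, rfl, hat⟩ := hXt a ha
    obtain ⟨t', rfl, hbt⟩ := hXt b hb
    obtain ⟨d, hd⟩ := sub_H hh.1 sec0_inj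
    have hnm := hle (nn'_mem_Lv hK 0)
    have ham := (f0_block (m := m) t).1
    have hhm : h ∈ Dom F sec0_inj := by
      have := Subgroup.mul_mem _ (Subgroup.mul_mem _ (Subgroup.inv_mem _ ham) (hle hm))
        (Subgroup.inv_mem _ (Subgroup.mul_mem _ hnm (f0_block (m := m) t').1))
      convert this using 1
      group
    have e : sub sec0 (f0 m t * h * (tw hK).nn' 0 * f0 m t') = 1 := congrArg Subtype.val h1
    rw [sub_mul sec0_inj (stab_mul (stab_mul ham.1 hhm.1) hnm.1), sub_mul sec0_inj (stab_mul ham.1 hhm.1),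
      sub_mul sec0_inj ham.1, hat, hbt, hd, hn] at e
    have hdet : d 0 * d 1 = 1 := by
      have := hhm.2.2
      rwa [hd, Matrix.det_diagonal, Fin.prod_univ_two] at this
    rw [show Matrix.diagonal d = !![d 0, 0; 0, d 1] by ext i k; fin_cases i <;> fin_cases k <;> simp] at e
    have e10 := congrFun (congrFun e 1) 0
    simp [Matrix.mul_apply, Fin.sum_univ_two] at e10
    rw [e10, mul_zero] at hdet
    exact zero_ne_one hdet

set_option maxHeartbeats 1000000 in
/-- The rank one group of type B₂ maps onto Sz(q), with central kernel inside the torus. -/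
theorem exists_rep1 (hm : 1 ≤ m) : ∃ σ : ↥(Lv hK 1) →* Cfsg.Sz F m, Function.Surjective σ ∧
    ∀ g, σ g = 1 → (g : G F) ∈ (tw hK).data.H ∧ g ∈ Subgroup.center ↥(Lv hK 1) := by
  have hle := Lv_le hK sec1_inj stab_check1
  let ρ := (secRep sec1_inj).comp (Subgroup.inclusion hle)
  let n : ↥(Lv hK 1) := ⟨_, nn'_mem_Lv hK 1⟩
  have hn : sub sec1 ((tw hK).nn' 1) = (SZ.wMat : Matrix (Fin 4) (Fin 4) F) := by
    show sub sec1 ((gd F).nw (J 1)) = _
    rw [(nw_block sec1_inj (J 1) (by decide +kernel)).2, word_check.2]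
    ext i k; fin_cases i <;> fin_cases k <;> simp [SZ.wMat]
  have hρn : ρ n = SZ.W := Subtype.ext hn
  have hXt : ∀ a ∈ (tw hK).X' (simp' 1), ∃ t b, sub sec1 a = SZ.tMat m t b ∧ (t = 0 → b = 0 → a = 1) := by
    intro a ha
    obtain ⟨t, u, rfl⟩ := (mem_X'1 hK).1 ha
    refine ⟨t, _, (f1_block hK t u).2, fun ht hb => ?_⟩
    subst ht
    rw [mul_zero, add_zero, pow_eq_zero_iff (by positivity)] at hb
    rw [hb, f1_zero]
  have hsurjT : ∀ t b : F, ∃ x : ↥(Lv hK 1), ρ x = SZ.T m t b := by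
    intro t b
    refine ⟨⟨f1 m t ((b + SZ.th m t * t) ^ 2 ^ m),
      Subgroup.mem_sup_left ((mem_X'1 hK).2 ⟨_, _, rfl⟩)⟩, Subtype.ext ?_⟩
    show sub sec1 (f1 m t ((b + SZ.th m t * t) ^ 2 ^ m)) = SZ.tMat m t b
    rw [(f1_block hK _ _).2]
    congr 1
    rw [show 2 * 2 ^ m = 2 ^ (m + 1) from (pow_succ' 2 m).symm, (pow_half hK _).2, add_assoc,
      CharTwo.add_self_eq_zero, add_zero]
  have hmem : ∀ g, ρ g ∈ Cfsg.Sz F m := by
    have hpre : Lv hK 1 ≤ ((Cfsg.Sz F m).comap ρ).map (Lv hK 1).subtype := by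
      refine sup_le (fun a ha => ?_) fun y hy => ?_
      · obtain ⟨t, b, e, -⟩ := hXt a ha
        refine ⟨⟨a, Subgroup.mem_sup_left ha⟩, ?_, rfl⟩
        rw [SetLike.mem_coe, Subgroup.mem_comap,
          show ρ ⟨a, Subgroup.mem_sup_left ha⟩ = SZ.T m t b from Subtype.ext e]
        exact SZ.T_mem hK t b
      · have hconj := (dax hK).conj_X 1 _ y hy
        change (tw hK).nn' 1 * y * ((tw hK).nn' 1)⁻¹ ∈ (tw hK).data.X _ at hconj
        erw [(dax hK).refl_opp, (dax hK).refl_simp, (dax hK).opp_opp] at hconj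
        obtain ⟨t, b, e, -⟩ := hXt _ hconj
        let z : ↥(Lv hK 1) := ⟨_, Subgroup.mem_sup_left hconj⟩
        refine ⟨n⁻¹ * z * n, ?_, ?_⟩
        · rw [SetLike.mem_coe, Subgroup.mem_comap, map_mul, map_mul, map_inv, hρn, show ρ z = SZ.T m t b from Subtype.ext e]
          exact Subgroup.mul_mem _ (Subgroup.mul_mem _ (Subgroup.inv_mem _ (SZ.W_mem hK)) (SZ.T_mem hK t b))
            (SZ.W_mem hK)
        · show (n : G F)⁻¹ * (z : G F) * (n : G F) = y
          simp only [n, z]; group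
    intro g
    obtain ⟨g', hg', e⟩ := hpre g.2
    rwa [← Subtype.ext e]
  let σ := ρ.codRestrict (Cfsg.Sz F m) hmem
  refine ⟨σ, ?_, fun g hg => ker_central hK 1 σ ?_ ?_ hg⟩
  · rw [← MonoidHom.range_eq_top]
    have := SZ.isSimple hm hK
    let Z : Set (Cfsg.Sz F m) := {x | ∃ a b, x = SZ.tS hK a b ∨ x = SZ.wS hK * SZ.tS hK a b * (SZ.wS hK)⁻¹}
    have hZle : Subgroup.closure Z ≤ σ.range := by
      rw [Subgroup.closure_le]
      rintro _ ⟨a, b, rfl | rfl⟩
      · obtain ⟨x, hx⟩ := hsurjT a b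
        exact ⟨x, Subtype.ext hx⟩
      · obtain ⟨x, hx⟩ := hsurjT a b
        refine ⟨n * x * n⁻¹, Subtype.ext ?_⟩
        show ρ _ = SZ.W * SZ.T m a b * SZ.W⁻¹
        rw [map_mul, map_mul, map_inv, hρn, hx]
    have hT : ∀ a b, SZ.tS hK a b ∈ Subgroup.closure Z := fun a b =>
      Subgroup.subset_closure ⟨a, b, Or.inl rfl⟩
    have hWW : SZ.wS hK * SZ.wS hK = 1 := Subtype.ext SZ.W_mul_W
    have hWinv : (SZ.wS hK)⁻¹ = SZ.wS hK := inv_eq_of_mul_eq_one_right hWW
    have hHT : ∀ u a b, ∃ a' b', SZ.hS hK u * SZ.tS hK a b * (SZ.hS hK u)⁻¹ = SZ.tS hK a' b' :=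
      fun u a b => ⟨_, _, Subtype.ext (by
        show SZ.H m u * SZ.T m a b * (SZ.H m u)⁻¹ = SZ.T m _ _
        rw [SZ.H_conj_T hK, mul_inv_cancel_right])⟩
    let N : Subgroup (Cfsg.Sz F m) :=
      { carrier := {x | ∀ z ∈ Subgroup.closure Z, x * z * x⁻¹ ∈ Subgroup.closure Z}
        one_mem' := fun z hz => by simpa using hz
        mul_mem' := fun {p q} hp hq z hz => by simpa [mul_assoc] using hp _ (hq z hz)
        inv_mem' := fun {p} hp z hz => by
          have hinj : Function.Injective fun z : ↥(Subgroup.closure Z) =>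
              (⟨p * z * p⁻¹, hp z z.2⟩ : ↥(Subgroup.closure Z)) := fun a b e =>
            Subtype.ext (mul_left_cancel (mul_right_cancel (congrArg Subtype.val e)))
          have : Finite ↥(Subgroup.closure Z) := inferInstance
          obtain ⟨w, hw⟩ := (Finite.injective_iff_surjective.1 hinj) ⟨z, hz⟩
          have e : p * w * p⁻¹ = z := congrArg Subtype.val hw
          rw [← e, show p⁻¹ * (p * w * p⁻¹) * p⁻¹⁻¹ = (w : Cfsg.Sz F m) by group]
          exact w.2 }
    have hgen : ∀ x : Cfsg.Sz F m, (∀ z ∈ Z, x * z * x⁻¹ ∈ Subgroup.closure Z) → x ∈ N := fun x hx z hz =>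
      (show Subgroup.closure Z ≤ (Subgroup.closure Z).comap (MulAut.conj x).toMonoidHom from
        (Subgroup.closure_le _).2 hx) hz
    have hNT : ∀ a b, SZ.tS hK a b ∈ N := fun a b z hz =>
      Subgroup.mul_mem _ (Subgroup.mul_mem _ (hT a b) hz) (Subgroup.inv_mem _ (hT a b))
    have hNW : SZ.wS hK ∈ N := hgen _ fun z hz => by
      obtain ⟨a, b, rfl | rfl⟩ := hz
      · exact Subgroup.subset_closure ⟨a, b, Or.inr rfl⟩
      · refine Subgroup.subset_closure ⟨a, b, Or.inl ?_⟩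
        rw [hWinv]
        simp only [← mul_assoc, hWW, one_mul]
        rw [mul_assoc, hWW, mul_one]
    have hNH : ∀ u, SZ.hS hK u ∈ N := fun u => hgen _ fun z hz => by
      obtain ⟨a, b, rfl | rfl⟩ := hz
      · obtain ⟨a', b', e⟩ := hHT u a b
        rw [e]; exact hT a' b'
      · obtain ⟨a', b', e⟩ := hHT u⁻¹ a b
        refine Subgroup.subset_closure ⟨a', b', Or.inr ?_⟩
        have hWH : SZ.hS hK u * SZ.wS hK = SZ.wS hK * SZ.hS hK u⁻¹ := Subtype.ext (by
          show SZ.H m u * SZ.W = SZ.W * SZ.H m u⁻¹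
          rw [SZ.W_conj_H, inv_inv])
        rw [← e]
        calc _ = SZ.hS hK u * SZ.wS hK * SZ.tS hK a b * (SZ.hS hK u * SZ.wS hK)⁻¹ := by group
          _ = _ := by rw [hWH]; group
    have hNtop : ∀ x, x ∈ N := by
      rintro ⟨g, hg⟩
      rcases SZ.bruhat hm hK hg with ⟨a, b, u, rfl⟩ | ⟨a, b, c, d, u, rfl⟩
      · have e : (⟨SZ.T m a b * SZ.H m u, hg⟩ : Cfsg.Sz F m) = SZ.tS hK a b * SZ.hS hK u :=
          Subtype.ext (by simp [SZ.tS, SZ.hS])
        rw [e]
        exact N.mul_mem (hNT a b) (hNH u)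
      · have e : (⟨SZ.T m a b * SZ.W * (SZ.T m c d * SZ.H m u), hg⟩ : Cfsg.Sz F m) =
            SZ.tS hK a b * SZ.wS hK * (SZ.tS hK c d * SZ.hS hK u) :=
          Subtype.ext (by simp [SZ.tS, SZ.hS, SZ.wS])
        rw [e]
        exact N.mul_mem (N.mul_mem (hNT a b) hNW) (N.mul_mem (hNT c d) (hNH u))
    have : (Subgroup.closure Z).Normal := ⟨fun z hz x => hNtop x z hz⟩
    rcases IsSimpleGroup.eq_bot_or_eq_top_of_normal (Subgroup.closure Z) inferInstance with h | h
    · exfalso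
      have h1 := Subgroup.mem_bot.1 (h ▸ hT 1 0)
      exact one_ne_zero (SZ.T_inj ((congrArg Subtype.val h1).trans (SZ.T_zero (m := m)).symm)).1
    · exact top_unique (h ▸ hZle)
  · intro a ha h hh hmL h1
    obtain ⟨t, b, hat, hz⟩ := hXt a ha
    obtain ⟨d, hd⟩ := sub_H hh.1 sec1_inj
    have e : sub sec1 (a * h) = 1 := congrArg Subtype.val (congrArg Subtype.val h1)
    rw [sub_mul sec1_inj (hle (Subgroup.mem_sup_left ha)).1, hat, hd] at e
    have e11 := congrFun (congrFun e 1) 1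
    have e01 := congrFun (congrFun e 0) 1
    have e33 := congrFun (congrFun e 3) 3
    have e13 := congrFun (congrFun e 1) 3
    simp [SZ.tMat, Matrix.mul_apply, Matrix.diagonal_apply] at e11 e01 e33 e13
    rw [e11] at e01
    rw [e33] at e13
    exact hz (by simpa using e01) (by simpa using e13)
  · intro a ha h hh c hc hmL h1
    obtain ⟨t, b, hat, -⟩ := hXt a ha
    obtain ⟨t', b', hct, -⟩ := hXt c hc
    obtain ⟨d, hd⟩ := sub_H hh.1 sec1_inj
    have ham := hle (Subgroup.mem_sup_left ha)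
    have hcm := hle (Subgroup.mem_sup_left hc)
    have hnm := hle (nn'_mem_Lv hK 1)
    have hhm : h ∈ Dom F sec1_inj := by
      have := Subgroup.mul_mem _ (Subgroup.mul_mem _ (Subgroup.inv_mem _ ham) (hle hmL))
        (Subgroup.inv_mem _ (Subgroup.mul_mem _ hnm hcm))
      convert this using 1
      group
    have e : sub sec1 (a * h * (tw hK).nn' 1 * c) = 1 := congrArg Subtype.val (congrArg Subtype.val h1)
    rw [sub_mul sec1_inj (stab_mul (stab_mul ham.1 hhm.1) hnm.1), sub_mul sec1_inj (stab_mul ham.1 hhm.1),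
      sub_mul sec1_inj ham.1, hat, hct, hd, hn] at e
    have hdet : d 0 * d 1 * d 2 * d 3 = 1 := by
      have := hhm.2.2
      rwa [hd, Matrix.det_diagonal, Fin.prod_univ_four] at this
    have e30 := congrFun (congrFun e 3) 0
    simp [SZ.tMat, SZ.wMat, Matrix.vecMul, dotProduct, Fin.sum_univ_four, Matrix.mul_apply, Matrix.diagonal_apply] at e30
    rw [e30, mul_zero] at hdet
    exact zero_ne_one hdet

end Cfsg.Agent.Twisted.F4
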