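/-
²F₄(q): central extensions with kernel of odd order split over the rank one groups, and these share
no torus element.
-/
import Cfsg.Agent.Lib.Twisted.F4.RankOneRep
import Cfsg.Agent.Lib.Twisted.F4.ClassChars
import Cfsg.Agent.Lib.Schur.RootExt
import Cfsg.Agent.Lib.Schur.SylowLocal
import Cfsg.Agent.Lib.PSL2.Sylow
import Cfsg.Agent.S2111

set_option autoImplicit false
set_option linter.style.haveILetI false

namespace Cfsg.Agent.Twisted.F4

open Cfsg.Lie Chev BNSetup
open Cfsg.Agent.RootBN Cfsg.Agent.RootBN.OTwist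
open scoped commutatorElement MatrixGroups

/-- A subgroup generated by 2-elements over a group with a quotient without odd multiplier. -/
theorem inf_ker_eq_bot_of_rep {E M K : Type*} [Group E] [Finite E] [Group M] [Group K] (π : E →* M)
    (hz : π.ker ≤ Subgroup.center E) {r d : ℕ} (hr : Odd r) (hd : Odd d) (hker : ∀ z ∈ π.ker, z ^ r = 1)
    {L : Subgroup E} {L' : Subgroup M} (hL : L.map π = L') (σ : ↥L' →* K) (hσ : Function.Surjective σ)
    (hσker : ∀ g, σ g = 1 → g ∈ Subgroup.center ↥L' ∧ g ^ d = 1)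
    (hgen : L ≤ Subgroup.closure {x | x ∈ L ∧ ∃ j, x ^ 2 ^ j = 1}) (hK : commutator K = ⊤)
    (hsyl : ∀ p, p.Prime → p ≠ 2 → ∀ τ : ↥L →* K, Function.Surjective τ → τ.ker ≤ Subgroup.center ↥L →
      ∃ P : Sylow p ↥L, ⁅(P : Subgroup ↥L), (P : Subgroup ↥L)⁆ ⊓ τ.ker = ⊥) :
    L ⊓ π.ker = ⊥ := by
  classical
  subst hL
  let τ : ↥L →* K := σ.comp (π.subgroupMap L)
  have hτ : Function.Surjective τ := hσ.comp (π.subgroupMap_surjective L)
  have hpow : ∀ k : ↥L, τ k = 1 → (k : E) ^ (d * r) = 1 := by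
    intro k hk
    have h1 := (hσker _ hk).2
    rw [← map_pow] at h1
    have h2 : π ((k : E) ^ d) = 1 := by simpa using congrArg Subtype.val h1
    rw [pow_mul]
    exact hker _ h2
  have hcop : ∀ j, Nat.Coprime (2 ^ j) (d * r) := fun j =>
    Nat.Coprime.pow_left j (Nat.coprime_two_left.2 (hd.mul hr))
  -- the kernel is central
  have hτz : τ.ker ≤ Subgroup.center ↥L := by
    intro k hk
    have hkc := (hσker _ hk).1
    have hcen : ∀ y ∈ L, ⁅(k : E), y⁆ ∈ Subgroup.center E := by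
      intro y hy
      refine hz ?_
      have := congrArg Subtype.val (Subgroup.mem_center_iff.1 hkc ⟨π y, y, hy, rfl⟩)
      show π _ = 1
      rw [map_commutatorElement, commutatorElement_eq_one_iff_mul_comm]
      exact this.symm
    have key : ∀ y ∈ L, ∀ n : ℕ, ⁅(k : E), y ^ n⁆ = ⁅(k : E), y⁆ ^ n ∧
        ⁅(k : E) ^ n, y⁆ = ⁅(k : E), y⁆ ^ n := by
      intro y hy n
      have hc := Subgroup.mem_center_iff.1 (hcen y hy)
      induction n with
      | zero => simp
      | succ n ih =>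
        constructor
        · rw [pow_succ, pow_succ, ← ih.1]
          calc ⁅(k : E), y ^ n * y⁆ = ⁅(k : E), y ^ n⁆ * (y ^ n * ⁅(k : E), y⁆ * (y ^ n)⁻¹) := by
                simp only [commutatorElement_def]; group
            _ = _ := by rw [hc, mul_inv_cancel_right]
        · rw [pow_succ (k : E), pow_succ, ← ih.2]
          calc ⁅(k : E) ^ n * k, y⁆ = (k : E) ^ n * ⁅(k : E), y⁆ * ((k : E) ^ n)⁻¹ * ⁅(k : E) ^ n, y⁆ := by
                simp only [commutatorElement_def]; group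
            _ = _ := by rw [hc, mul_inv_cancel_right, hc]
    have hle : L ≤ Subgroup.centralizer {(k : E)} := hgen.trans <| by
      rw [Subgroup.closure_le]
      rintro y ⟨hy, j, hj⟩
      rw [SetLike.mem_coe, Subgroup.mem_centralizer_singleton_iff]
      have h1 : ⁅(k : E), y⁆ ^ 2 ^ j = 1 := by
        rw [← (key y hy _).1, hj, commutatorElement_one_right]
      have h2 : ⁅(k : E), y⁆ ^ (d * r) = 1 := by
        rw [← (key y hy _).2, hpow k hk, commutatorElement_one_left]
      have h3 : ⁅(k : E), y⁆ = 1 := by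
        have := pow_gcd_eq_one.2 ⟨h1, h2⟩
        rwa [(hcop j).gcd_eq_one, pow_one] at this
      exact (commutatorElement_eq_one_iff_mul_comm.1 h3).symm
    exact Subgroup.mem_center_iff.2 fun y =>
      Subtype.ext (Subgroup.mem_centralizer_singleton_iff.1 (hle y.2))
  -- the subgroup is perfect
  have hperf : commutator ↥L = ⊤ := by
    have hgen' : ∀ x : ↥L, (∃ j, x ^ 2 ^ j = 1) → x ∈ commutator ↥L := by
      rintro x ⟨j, hj⟩
      have hx : τ x ∈ (commutator ↥L).map τ := by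
        rw [map_commutator_eq, MonoidHom.range_eq_top.2 hτ, ← commutator_def, hK]
        exact Subgroup.mem_top _
      obtain ⟨y, hy, e⟩ := hx
      have hk : τ (y⁻¹ * x) = 1 := by rw [map_mul, map_inv, e, inv_mul_cancel]
      have hc : Commute y (y⁻¹ * x) := Subgroup.mem_center_iff.1 (hτz hk) y
      have h1 : (y⁻¹ * x) ^ 2 ^ j ∈ commutator ↥L := by
        have e1 : y ^ 2 ^ j * (y⁻¹ * x) ^ 2 ^ j = 1 := by rw [← hc.mul_pow, mul_inv_cancel_left, hj]
        rw [← inv_eq_of_mul_eq_one_right e1]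
        exact Subgroup.inv_mem _ (Subgroup.pow_mem _ hy _)
      have h2 : (y⁻¹ * x) ^ (d * r) = 1 := Subtype.ext (by simpa using hpow _ hk)
      have h3 : y⁻¹ * x ∈ commutator ↥L := by
        obtain ⟨a, b, hab⟩ : ∃ a b : ℤ, (1 : ℤ) = (2 ^ j : ℕ) * a + (d * r : ℕ) * b := by
          refine ⟨Nat.gcdA (2 ^ j) (d * r), Nat.gcdB (2 ^ j) (d * r), ?_⟩
          rw [← Nat.gcd_eq_gcd_ab, (hcop j).gcd_eq_one]; rfl
        rw [← zpow_one (y⁻¹ * x), hab, zpow_add, zpow_mul, zpow_mul, zpow_natCast, zpow_natCast, h2,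
          one_zpow, mul_one]
        exact Subgroup.zpow_mem _ h1 a
      simpa using Subgroup.mul_mem _ hy h3
    rw [eq_top_iff]
    have hle : L ≤ (commutator ↥L).map L.subtype := hgen.trans <| by
      rw [Subgroup.closure_le]
      rintro x ⟨hx, j, hj⟩
      exact ⟨⟨x, hx⟩, hgen' _ ⟨j, Subtype.ext (by simpa using hj)⟩, rfl⟩
    intro x _
    obtain ⟨y, hy, e⟩ := hle x.2
    rwa [← Subtype.ext e]
  have hbot : τ.ker = ⊥ := by
    refine Schur.ker_eq_bot_of_sylow τ hτz (hperf ▸ le_top) fun p hp => ?_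
    haveI := Fact.mk hp
    by_cases hp2 : p = 2
    · subst hp2
      obtain ⟨P⟩ : Nonempty (Sylow 2 ↥L) := inferInstance
      refine ⟨P, eq_bot_iff.2 ?_⟩
      rintro x ⟨h1, h2⟩
      obtain ⟨j, hj⟩ := P.2 ⟨x, Subgroup.commutator_le_self _ h1⟩
      have hj' : x ^ 2 ^ j = 1 := by simpa using congrArg Subtype.val hj
      have h3 : x ^ (d * r) = 1 := Subtype.ext (by simpa using hpow x h2)
      have := pow_gcd_eq_one.2 ⟨hj', h3⟩
      rwa [(hcop j).gcd_eq_one, pow_one, ← Subgroup.mem_bot] at this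
    · exact hsyl p hp hp2 τ hτ hτz
  rw [eq_bot_iff]
  rintro x ⟨hx, hxk⟩
  have hm : (⟨x, hx⟩ : ↥L) ∈ τ.ker := by
    show σ _ = 1
    rw [show (π.subgroupMap L) ⟨x, hx⟩ = 1 from Subtype.ext hxk, map_one]
  rw [hbot, Subgroup.mem_bot] at hm
  exact Subgroup.mem_bot.2 (congrArg Subtype.val hm)

theorem rank_commute_check : ∀ r s : Rt,
    ((orb r = simp' 0 ∨ orb (opp r) = simp' 0) ∧ orb s = pos 3 ∨
      (orb r = simp' 1 ∨ orb (opp r) = simp' 1) ∧ orb s = pos 4) →
    s.val ≠ r.val ∧ s.val ≠ chevF4.neg r.val ∧ ∀ x ∈ chevF4.commTerms r.val s.val, x.2.1 % 2 = 0 := by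
  decide +kernel

variable {F : Type*} [Field F] [CharP F 2] [Fintype F] {m : ℕ} (hK : Fintype.card F = 2 ^ (2 * m + 1))
include hK

theorem odd_card_H : Odd (Nat.card (tw hK).data.H) := by
  rw [card_H hK, hK]
  exact (Nat.Even.sub_odd Nat.one_le_two_pow (Nat.even_pow.2 ⟨even_two, by omega⟩) odd_one).pow

/-- The rank one groups lift through central extensions with kernel of odd exponent. -/
theorem rank_split (hm : 1 ≤ m) {E : Type*} [Group E] [Finite E] {π : E →* G F}
    (hz : π.ker ≤ Subgroup.center E) {r : ℕ} (hr : Odd r) (hker : ∀ z ∈ π.ker, z ^ r = 1) (j : Fin 2)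
    (L : Subgroup E) (hL : L.map π = Lv hK j)
    (hgen : L ≤ Subgroup.closure {x | x ∈ L ∧ ∃ i, x ^ 2 ^ i = 1}) : L ⊓ π.ker = ⊥ := by
  have hpowH : ∀ g : ↥(Lv hK j), (g : G F) ∈ (tw hK).data.H → g ^ Nat.card (tw hK).data.H = 1 :=
    fun g hg => Subtype.ext (by
      rw [Subgroup.coe_pow]
      exact congrArg Subtype.val (pow_card_eq_one' (x := (⟨(g : G F), hg⟩ : ↥(tw hK).data.H))))
  fin_cases j
  · obtain ⟨σ, hσ, hσk⟩ := exists_rep0 hK
    refine inf_ker_eq_bot_of_rep π hz hr (odd_card_H hK) hker hL σ hσ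
      (fun g hg => ⟨(hσk g hg).2, hpowH g (hσk g hg).1⟩) hgen
      (PSL2.sl_commutator_eq_top ?_) fun p hp hp2 τ hτ hτz => ?_
    · rw [hK]
      calc 4 = 2 ^ 2 := rfl
        _ ≤ _ := Nat.pow_le_pow_right (by norm_num) (by omega)
    · haveI := Fact.mk hp
      obtain ⟨R⟩ : Nonempty (Sylow p SL(2, F)) := inferInstance
      obtain ⟨P, hP⟩ := Schur.exists_sylow_map_eq τ hτ R
      haveI : IsCyclic ((P : Subgroup ↥L).map τ) := by
        rw [hP]; exact PSL2.isCyclic_sylow_odd 2 p hp2 hp2 R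
      exact ⟨P, Schur.commutator_inf_ker_eq_bot_of_isCyclic τ hτz P⟩
  · obtain ⟨σ, hσ, hσk⟩ := exists_rep1 hK hm
    refine inf_ker_eq_bot_of_rep π hz hr (odd_card_H hK) hker hL σ hσ
      (fun g hg => ⟨(hσk g hg).2, hpowH g (hσk g hg).1⟩) hgen (SZ.perfect hm hK)
      fun p hp hp2 τ hτ hτz => ?_
    haveI := Fact.mk hp
    exact S2111.exists_sylow_odd hm hK τ hτ hτz p hp2

/-- A torus element centralising a place has trivial character on it. -/
theorem char_eq_one_of_commute (i : Fin 8) {c : Nd → Fˣ} (hc : tG F c ∈ (tw hK).data.H)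
    (h : ∀ y ∈ Xp hK i.val, tG F c * y = y * tG F c) : torusChar chevF4 c (croot i.val) = 1 := by
  obtain ⟨n, -, hX, hc'⟩ := transport hK i
  obtain ⟨c', hc'H, e, hchar⟩ := hc' c hc
  rw [← hchar]
  have h' : ∀ z ∈ (tw hK).X' (simp' (cls i.val)), tG F c' * z * (tG F c')⁻¹ = z := by
    intro z hz
    have hy := h (n * z * n⁻¹) (show _ ∈ (tw hK).X' (pos i.val) from hX ▸ ⟨z, hz, rfl⟩)
    rw [e] at hy
    calc tG F c' * z * (tG F c')⁻¹
        = n⁻¹ * (n * tG F c' * n⁻¹ * (n * z * n⁻¹)) * n * (tG F c')⁻¹ := by group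
      _ = z := by rw [hy]; group
  obtain ⟨h0, h1⟩ := conj_f hK hc'H
  generalize cls i.val = j at h' hchar ⊢
  fin_cases j
  · have := h' _ ((mem_X'0 hK).2 ⟨1, rfl⟩)
    rw [h0, mul_one] at this
    exact Units.ext (f0_inj this)
  · have := h' _ ((mem_X'1 hK).2 ⟨1, 0, rfl⟩)
    rw [h1, mul_one] at this
    exact Units.ext (f1_inj this).1

/-- The two rank one groups share no torus element. -/
theorem rank_inter : Lv hK 0 ⊓ Lv hK 1 ⊓ (tw hK).data.H = ⊥ := by
  rw [eq_bot_iff]
  rintro g ⟨⟨h0, h1⟩, hH⟩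
  obtain ⟨c, rfl⟩ := exists_tG hH.1
  have key : ∀ (j : Fin 2) (p : ℕ), p < 8 → (∀ r s : Rt,
      (orb r = simp' j ∨ orb (opp r) = simp' j) ∧ orb s = pos p →
      s.val ≠ r.val ∧ s.val ≠ chevF4.neg r.val ∧ ∀ x ∈ chevF4.commTerms r.val s.val, x.2.1 % 2 = 0) →
      ∀ x ∈ Lv hK j, ∀ y ∈ Xp hK p, x * y = y * x := by
    intro j p _ hchk x hx y hy
    have hle : Lv hK j ≤ Subgroup.centralizer (Xo hK p : Set (G F)) := by
      have hgen : ∀ o, (o = simp' j ∨ o = (tw hK).opp' (simp' j)) →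
          (tw hK).X' o ≤ Subgroup.centralizer (Xo hK p : Set (G F)) := by
        intro o ho
        refine inf_le_left.trans (iSup₂_le fun r hr z hz => ?_)
        obtain ⟨t, rfl⟩ := mem_X_iff.1 hz
        rw [Subgroup.mem_centralizer_iff]
        intro w hw
        have hr' : orb r = simp' j ∨ orb (opp r) = simp' j := by
          change orb r = o at hr
          rcases ho with rfl | rfl
          · exact Or.inl hr
          · refine Or.inr ?_
            have h' := (core hK).opp_orb r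
            change orb (opp r) = (tw hK).opp' (orb r) at h'
            rw [h', hr, opp'_opp' (core hK)]
        have hle : Xo hK p ≤ Subgroup.centralizer {xg r t} := iSup₂_le fun s hs v hv => by
          obtain ⟨u, rfl⟩ := mem_X_iff.1 hv
          obtain ⟨n1, n2, n3⟩ := hchk r s ⟨hr', hs⟩
          rw [Subgroup.mem_centralizer_singleton_iff]
          exact (xg_comm' n1 n2 n3 t u).symm
        exact Subgroup.mem_centralizer_singleton_iff.1 (hle hw)
      exact sup_le (hgen _ (Or.inl rfl)) (hgen _ (Or.inr rfl))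
    exact (Subgroup.mem_centralizer_iff.1 (hle hx) y (Xp_le hK p hy)).symm
  refine Subgroup.mem_bot.2 (eq_one_of_chars hK (i := 3) (j := 4) (by decide) hH ?_ ?_)
  · exact char_eq_one_of_commute hK 3 hH
      (key 0 3 (by norm_num) (fun r s h => rank_commute_check r s (Or.inl h)) _ h0)
  · exact char_eq_one_of_commute hK 4 hH
      (key 1 4 (by norm_num) (fun r s h => rank_commute_check r s (Or.inr h)) _ h1)

end Cfsg.Agent.Twisted.F4
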