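/-
²F₄(q): central extensions split over the unipotent group.
-/
import Cfsg.Agent.Lib.Twisted.F4.ClassChars
import Cfsg.Agent.S2117

set_option autoImplicit false

namespace Cfsg.Agent.Twisted.F4

open Cfsg.Lie Chev BNSetup
open Cfsg.Agent.RootBN Cfsg.Agent.RootBN.OTwist
open Cfsg.Agent.Schur.RootLift
open scoped commutatorElement

theorem cls_check : ∀ i : Fin 8, cls i.val = if i.val % 2 = 0 then 1 else 0 := by decide +kernel

/-- Pairs of places whose classes commute. -/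
theorem commuting_check : ∀ p ∈ [((1 : Fin 8), (2 : Fin 8)), (1, 3), (2, 3)], ∀ r s : Rt,
    orb r = pos p.1.val → orb s = pos p.2.val →
      s.val ≠ r.val ∧ s.val ≠ chevF4.neg r.val ∧ ∀ x ∈ chevF4.commTerms r.val s.val, x.2.1 % 2 = 0 := by
  decide +kernel

/-- The roots carrying the two special elements and their commutator. -/
theorem special_check :
    ev (flatJ (lw 1)) r33 = 37 ∧ ev (flatJ (lw 1)) r24 = 32 ∧
    ev (flatJ (lw 4)) r27 = 29 ∧ ev (flatJ (lw 4)) r25 = 41 ∧ ev (flatJ (lw 4)) r28 = 44 ∧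
    ev (flatJ (lw 2)) r28 = 40 ∧ ev (flatJ (lw 2)) r30 = 46 := by decide +kernel

theorem special_terms :
    (chevF4.commTerms 32 41).map (fun x => (x.1, x.2.1 % 2, x.2.2)) = [(46, 1, 1, 1)] ∧
    (chevF4.commTerms 37 29).map (fun x => (x.1, x.2.1 % 2, x.2.2)) = [(40, 1, 1, 1)] ∧
    (∀ p ∈ [((32 : ℕ), (29 : ℕ)), (32, 44), (37, 41), (37, 44), (46, 29), (46, 44), (40, 41), (40, 44),
      (46, 37), (40, 32)], ∀ x ∈ chevF4.commTerms p.1 p.2, x.2.1 % 2 = 0) := by decide +kernel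

variable {F : Type*} [Field F] [CharP F 2] {m : ℕ}

omit [CharP F 2] in
theorem commute_tG (c c' : Nd → Fˣ) : tG F c * tG F c' = tG F c' * tG F c := by
  rw [← map_mul, ← map_mul, mul_comm]

theorem conj_nw_xg (l : List Nd) (r : Rt) (t : F) (r' : Rt) (h : ev l r = r'.val) :
    (gd F).nw l * xg r t * ((gd F).nw l)⁻¹ = xg r' t := by
  refine Subtype.ext ?_
  simp only [Subgroup.coe_mul, Subgroup.coe_inv, coe_nw, coe_xg]
  rw [nw_conj_xe good facts l r t]
  show xe good ((gd F).wl l r).val t = _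
  rw [wl_ev, h]

variable [Fintype F] (hK : Fintype.card F = 2 ^ (2 * m + 1))
include hK

theorem commute_gens {a b : Fin 8} (h : (a, b) ∈ [((1 : Fin 8), (2 : Fin 8)), (1, 3), (2, 3)]) :
    ∀ x ∈ Xo hK a.val, ∀ y ∈ Xo hK b.val, Commute x y := by
  have h1 : Xo hK a.val ≤ Subgroup.centralizer (Xo hK b.val : Set (G F)) := by
    refine iSup₂_le fun r hr z hz => ?_
    obtain ⟨t, rfl⟩ := mem_X_iff.1 hz
    rw [Subgroup.mem_centralizer_iff]
    intro y hy
    have h2 : Xo hK b.val ≤ Subgroup.centralizer {xg r t} := iSup₂_le fun s hs w hw => by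
      obtain ⟨u, rfl⟩ := mem_X_iff.1 hw
      obtain ⟨n1, n2, n3⟩ := commuting_check (a, b) h r s hr hs
      rw [Subgroup.mem_centralizer_iff]
      rintro _ rfl
      exact xg_comm' n1 n2 n3 t u
    exact (Subgroup.mem_centralizer_iff.1 (h2 hy) _ rfl).symm
  exact fun x hx y hy => ((Subgroup.mem_centralizer_iff.1 (h1 hx)) y hy).symm

/-- The commutator of the two special elements. -/
theorem special_comm :
    ⁅(gd F).nw (flatJ (lw 1)) * f0 m (1 : F) * ((gd F).nw (flatJ (lw 1)))⁻¹,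
      (gd F).nw (flatJ (lw 4)) * f1 m (1 : F) 0 * ((gd F).nw (flatJ (lw 4)))⁻¹⁆ =
    (gd F).nw (flatJ (lw 2)) * f1 m (0 : F) 1 * ((gd F).nw (flatJ (lw 2)))⁻¹ := by
  obtain ⟨e1, e2, e3, e4, e5, e6, e7⟩ := special_check
  obtain ⟨t1, t2, t3⟩ := special_terms
  let q : ∀ k, k < 48 → Rt := fun k h => ⟨k, by exact h⟩
  have ha : (gd F).nw (flatJ (lw 1)) * f0 m (1 : F) * ((gd F).nw (flatJ (lw 1)))⁻¹ =
      xg (q 37 (by decide)) 1 * xg (q 32 (by decide)) 1 := by
    rw [f0, E0, one_pow, ← conj_mul, conj_nw_xg _ r33 _ (q 37 (by decide)) e1,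
      conj_nw_xg _ r24 _ (q 32 (by decide)) e2]
  have hb : (gd F).nw (flatJ (lw 4)) * f1 m (1 : F) 0 * ((gd F).nw (flatJ (lw 4)))⁻¹ =
      xg (q 29 (by decide)) 1 * xg (q 41 (by decide)) 1 * xg (q 44 (by decide)) 1 := by
    rw [f1, E1, one_pow, one_pow, add_zero, zero_pow (by positivity), xg_zero, mul_one, ← conj_mul,
      ← conj_mul, conj_nw_xg _ r27 _ (q 29 (by decide)) e3, conj_nw_xg _ r25 _ (q 41 (by decide)) e4,
      conj_nw_xg _ r28 _ (q 44 (by decide)) e5]
  have hg : (gd F).nw (flatJ (lw 2)) * f1 m (0 : F) 1 * ((gd F).nw (flatJ (lw 2)))⁻¹ =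
      xg (q 40 (by decide)) 1 * xg (q 46 (by decide)) 1 := by
    rw [f1, E1, zero_pow (pow_ne_zero m two_ne_zero), zero_pow (Nat.succ_ne_zero _), zero_add, one_pow,
      xg_zero, xg_zero, one_mul, one_mul, ← conj_mul, conj_nw_xg _ r28 _ (q 40 (by decide)) e6,
      conj_nw_xg _ r30 _ (q 46 (by decide)) e7]
  set A := xg (q 37 (by decide)) (1 : F)
  set B := xg (q 32 (by decide)) (1 : F)
  set c41 := xg (q 41 (by decide)) (1 : F)
  set c29 := xg (q 29 (by decide)) (1 : F)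
  set c44 := xg (q 44 (by decide)) (1 : F)
  set z40 := xg (q 40 (by decide)) (1 : F)
  set z46 := xg (q 46 (by decide)) (1 : F)
  have one_term : ∀ (r s k : ℕ) (hr : r < 48) (hs : s < 48) (hk : k < 48), s ≠ r → s ≠ chevF4.neg r →
      (chevF4.commTerms r s).map (fun x => (x.1, x.2.1 % 2, x.2.2)) = [(k, 1, 1, 1)] →
      xg (q s hs) (1 : F) * xg (q r hr) 1 = xg (q r hr) 1 * xg (q s hs) 1 * xg (q k hk) 1 := by
    intro r s k hr hs hk h1 h2 h3
    refine Subtype.ext (Units.ext ?_)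
    have := good.comm_formula (F := F) (r := r) (s := s) hr hs h1 h2 (1 : F) 1
    simp only [Subgroup.coe_mul, Units.val_mul, coe_xg, coe_xe]
    rw [this]
    have hw : chevF4.commWord F r s (1 : F) 1 = [(k, 1)] := by
      have h : chevF4.commWord F r s (1 : F) 1 =
          ((chevF4.commTerms r s).map (fun x => (x.1, x.2.1 % 2, x.2.2))).map
            (fun c : ℕ × ℤ × ℕ × ℕ => (c.1, (c.2.1 : F) * (-1) ^ c.2.2.1 * 1 ^ c.2.2.2)) := by
        rw [ChevalleyDatum.commWord, List.map_map]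
        refine List.map_congr_left fun x _ => ?_
        show (x.1, _) = _
        rw [cast_mod_two x.2.1]
        rfl
      rw [h, h3]
      simp [CharTwo.neg_eq]
    rw [hw]
    simp [ChevalleyDatum.wordMat, q]
  have hB41 : c41 * B = B * c41 * z46 := one_term 32 41 46 (by decide) (by decide) (by decide)
    (by decide) (by decide +kernel) t1
  have hA29 : c29 * A = A * c29 * z40 := one_term 37 29 40 (by decide) (by decide) (by decide)
    (by decide) (by decide +kernel) t2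
  have com : ∀ (r s : ℕ) (hr : r < 48) (hs : s < 48), s ≠ r → s ≠ chevF4.neg r →
      (r, s) ∈ [((32 : ℕ), (29 : ℕ)), (32, 44), (37, 41), (37, 44), (46, 29), (46, 44), (40, 41), (40, 44),
        (46, 37), (40, 32)] → Commute (xg (q r hr) (1 : F)) (xg (q s hs) 1) :=
    fun r s hr hs h1 h2 h3 => xg_comm' (a := q r hr) (b := q s hs) h1 h2 (t3 (r, s) h3) 1 1
  have k1 : Commute B c29 := com 32 29 (by decide) (by decide) (by decide) (by decide +kernel) (by decide)
  have k2 : Commute B c44 := com 32 44 (by decide) (by decide) (by decide) (by decide +kernel) (by decide)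
  have k3 : Commute A c41 := com 37 41 (by decide) (by decide) (by decide) (by decide +kernel) (by decide)
  have k4 : Commute A c44 := com 37 44 (by decide) (by decide) (by decide) (by decide +kernel) (by decide)
  have k5 : Commute z46 c29 := com 46 29 (by decide) (by decide) (by decide) (by decide +kernel) (by decide)
  have k6 : Commute z46 c44 := com 46 44 (by decide) (by decide) (by decide) (by decide +kernel) (by decide)
  have k7 : Commute z40 c41 := com 40 41 (by decide) (by decide) (by decide) (by decide +kernel) (by decide)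
  have k8 : Commute z40 c44 := com 40 44 (by decide) (by decide) (by decide) (by decide +kernel) (by decide)
  have k9 : Commute z46 A := com 46 37 (by decide) (by decide) (by decide) (by decide +kernel) (by decide)
  have k10 : Commute z40 B := com 40 32 (by decide) (by decide) (by decide) (by decide +kernel) (by decide)
  have sq : ∀ (r : Rt) (t : F), xg r t * xg r t = 1 := fun r t => by
    rw [xg_add, CharTwo.add_self_eq_zero, xg_zero]
  rw [ha, hb, hg]
  set P := c29 * c41 * c44 with hP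
  have hPB : P * B = B * P * z46 :=
    calc P * B = c29 * (c41 * (c44 * B)) := by simp only [hP, mul_assoc]
      _ = c29 * ((c41 * B) * c44) := by rw [k2.symm.eq]; simp only [mul_assoc]
      _ = (c29 * B) * c41 * (z46 * c44) := by rw [hB41]; simp only [mul_assoc]
      _ = _ := by rw [k6.eq, k1.symm.eq]; simp only [hP, mul_assoc]
  have hPA : P * A = A * P * z40 :=
    calc P * A = c29 * (c41 * (c44 * A)) := by simp only [hP, mul_assoc]
      _ = c29 * ((c41 * A) * c44) := by rw [k4.symm.eq]; simp only [mul_assoc]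
      _ = (c29 * A) * (c41 * c44) := by rw [k3.symm.eq]; simp only [mul_assoc]
      _ = A * c29 * (z40 * (c41 * c44)) := by rw [hA29]; simp only [mul_assoc]
      _ = _ := by rw [(k7.mul_right k8).eq]; simp only [hP, mul_assoc]
  have hiA : (A * B)⁻¹ = B * A := by
    rw [mul_inv_rev, inv_eq_of_mul_eq_one_left (sq _ _), inv_eq_of_mul_eq_one_left (sq _ _)]
  have hPAB : P * (A * B) = A * B * P * (z40 * z46) :=
    calc P * (A * B) = A * P * (z40 * B) := by rw [← mul_assoc, hPA]; simp only [mul_assoc]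
      _ = A * (P * B) * z40 := by rw [k10.eq]; simp only [mul_assoc]
      _ = A * B * P * (z46 * z40) := by rw [hPB]; simp only [mul_assoc]
      _ = _ := by
          rw [show Commute z46 z40 from xg_comm' (by decide) (by decide +kernel) (by decide +kernel) 1 1]
  have hz : Commute (A * B) (z40 * z46) := by
    have hAB : Commute A B := xg_comm' (by decide) (by decide +kernel) (by decide +kernel) 1 1
    refine ((?_ : Commute A z40).mul_left k10.symm).mul_right (k9.symm.mul_left ?_) <;>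
      exact xg_comm' (by decide) (by decide +kernel) (by decide +kernel) 1 1
  have hPinv : P * (A * B) * P⁻¹ = A * B * (P * (z40 * z46) * P⁻¹) := by rw [hPAB]; group
  have hPz : Commute P (z40 * z46) := by
    have h40 : Commute z40 c29 := xg_comm' (by decide) (by decide +kernel) (by decide +kernel) 1 1
    have h46 : Commute z46 c41 := xg_comm' (by decide) (by decide +kernel) (by decide +kernel) 1 1
    exact ((((h40.mul_right k7).mul_right k8)).symm).mul_right ((((k5.mul_right h46).mul_right k6)).symm)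
  rw [commutatorElement_def]
  calc A * B * P * (A * B)⁻¹ * P⁻¹
      = A * B * (P * (A * B) * P⁻¹)⁻¹ := by simp only [mul_inv_rev, inv_inv, mul_assoc]
    _ = A * B * (A * B * (z40 * z46))⁻¹ := by rw [hPinv, hPz.eq, mul_inv_cancel_right]
    _ = A * B * ((z40 * z46)⁻¹ * (A * B)⁻¹) := by rw [mul_inv_rev]
    _ = (z40 * z46)⁻¹ := by rw [← mul_assoc, (hz.inv_right).eq, mul_inv_cancel_right]
    _ = z40 * z46 := by
        rw [mul_inv_rev, inv_eq_of_mul_eq_one_left (sq _ _), inv_eq_of_mul_eq_one_left (sq _ _)]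
        exact (xg_comm' (by decide) (by decide +kernel) (by decide +kernel) 1 1)

/-! ### The lifts -/

variable {E : Type*} [Group E] {π : E →* G F} (hrange : (tw hK).Gt ≤ π.range)
  (hz : π.ker ≤ Subgroup.center E) (hm : 1 ≤ m)

theorem Xp_le_Gt (i : ℕ) : Xp hK i ≤ (tw hK).Gt := X'_le_Gt _

theorem conj_mem_Xp {g : G F} (hg : g ∈ (tw hK).data.H) (i : ℕ) {x : G F} (hx : x ∈ Xp hK i) :
    g * x * g⁻¹ ∈ Xp hK i := (dax hK).H_conj _ g hg x hx

include hrange hz hm

/-- Lifts of two classes with independent characters commute, when the classes do. -/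
theorem lift_pair_comm {a b : Fin 8} (hab : a ≠ b) (hcomm : ∀ x ∈ Xp hK a.val, ∀ y ∈ Xp hK b.val, Commute x y)
    {x y : E} (hx : π x ∈ Xp hK a.val) (hy : π y ∈ Xp hK b.val) : ⁅x, y⁆ = 1 := by
  obtain ⟨c, hc, h1, h2⟩ := exists_separating hK hm hab
  obtain ⟨-, hsur⟩ := (class_action hK hm b hc).2 h2
  have hfix := (class_action hK hm a hc).1 h1
  obtain ⟨h, hh⟩ := hrange hc.2
  have cen : ∀ {z : E}, π z = 1 → ∀ g, g * z = z * g := fun e g => Subgroup.mem_center_iff.1 (hz e) g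
  have hk : ∀ y, π y ∈ Xp hK b.val → π ⁅x, y⁆ = 1 := fun y hy => by
    rw [map_commutatorElement, commutatorElement_eq_one_iff_commute]; exact hcomm _ hx _ hy
  let φ : ↥((Xp hK b.val).comap π) →* E := MonoidHom.mk' (fun y => ⁅x, (y : E)⁆) fun y y' => by
    show ⁅x, (y : E) * y'⁆ = ⁅x, (y : E)⁆ * ⁅x, (y' : E)⁆
    calc ⁅x, (y : E) * y'⁆ = ⁅x, (y : E)⁆ * ((y : E) * ⁅x, (y' : E)⁆ * (y : E)⁻¹) := by
          simp only [commutatorElement_def]; group
      _ = _ := by rw [cen (hk _ y'.2), mul_inv_cancel_right]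
  obtain ⟨y', hy', d, hd, e⟩ := hsur _ hy
  obtain ⟨w, hw⟩ := hrange (Xp_le_Gt hK _ hy')
  have hD : ∀ d ∈ ⁅Xp hK b.val, Xp hK b.val⁆, ∃ v : ↥((Xp hK b.val).comap π), π v = d ∧ φ v = 1 := by
    intro d hd
    refine (show ⁅Xp hK b.val, Xp hK b.val⁆ ≤ φ.ker.map (π.comp ((Xp hK b.val).comap π).subtype) from ?_) hd
      |> fun ⟨v, hv, ev⟩ => ⟨v, ev, hv⟩
    rw [Subgroup.commutator_le]
    intro p hp q hq
    obtain ⟨p', rfl⟩ := hrange (Xp_le_Gt hK _ hp)
    obtain ⟨q', rfl⟩ := hrange (Xp_le_Gt hK _ hq)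
    refine ⟨⁅(⟨p', hp⟩ : ↥((Xp hK b.val).comap π)), ⟨q', hq⟩⁆, ?_, by simp [commutatorElement_def]⟩
    show φ _ = 1
    rw [map_commutatorElement, commutatorElement_eq_one_iff_commute]
    exact cen (hk _ hq) _
  obtain ⟨v, hv, hv1⟩ := hD d hd
  have hwh : h * w * h⁻¹ ∈ (Xp hK b.val).comap π := by
    have h3 : tG F c * y' * (tG F c)⁻¹ ∈ Xp hK b.val := (dax hK).H_conj (pos b.val) (tG F c) hc y' hy'
    show π (h * w * h⁻¹) ∈ Xp hK b.val
    rw [map_mul, map_mul, map_inv, hh, hw]; exact h3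
  have hwm : w ∈ (Xp hK b.val).comap π := by show π w ∈ Xp hK b.val; rw [hw]; exact hy'
  have hy2 : ⁅x, y⁆ = φ (v * (⟨_, hwh⟩ * ⟨w, hwm⟩⁻¹)) := by
    refine Schur.commutatorElement_congr hz rfl ?_
    simp only [Subgroup.coe_mul, Subgroup.coe_inv, map_mul, map_inv, hh, hw, hv, e, commutatorElement_def]
  rw [hy2, map_mul, hv1, one_mul, map_mul, map_inv, mul_inv_eq_one]
  show ⁅x, h * w * h⁻¹⁆ = ⁅x, w⁆
  have hxh : π (h * x * h⁻¹) = π x := by rw [map_mul, map_mul, map_inv, hh]; exact hfix _ hx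
  calc ⁅x, h * w * h⁻¹⁆ = ⁅h * x * h⁻¹, h * w * h⁻¹⁆ := Schur.commutatorElement_congr hz hxh.symm rfl
    _ = h * ⁅x, w⁆ * h⁻¹ := by simp only [commutatorElement_def]; group
    _ = ⁅x, w⁆ := by rw [cen (hk w hwm), mul_inv_cancel_right]

omit hm in
/-- Lifts of a conjugated pair. -/
theorem comm_transport {n : G F} (hn : n ∈ (tw hK).data.N) {S D : Subgroup (G F)}
    (h : ∀ a b, π a ∈ S → π b ∈ D → ⁅a, b⁆ = 1) :
    ∀ a b, π a ∈ S.map (MulAut.conj n).toMonoidHom → π b ∈ D.map (MulAut.conj n).toMonoidHom →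
      ⁅a, b⁆ = 1 := by
  intro a b ha hb
  obtain ⟨ñ, hñ⟩ := hrange (Data.N_le_grp (dax hK) hn)
  rw [Subgroup.mem_map_equiv] at ha hb
  have h1 := h (ñ⁻¹ * a * ñ) (ñ⁻¹ * b * ñ) (by simpa [hñ] using ha) (by simpa [hñ] using hb)
  calc ⁅a, b⁆ = ñ * ⁅ñ⁻¹ * a * ñ, ñ⁻¹ * b * ñ⁆ * ñ⁻¹ := by simp only [commutatorElement_def]; group
    _ = 1 := by rw [h1, mul_one, mul_inv_cancel]

/-- Lifts of the first simple class commute. -/
theorem comm_zero {a b : E} (ha : π a ∈ (tw hK).X' (simp' 0)) (hb : π b ∈ (tw hK).X' (simp' 0)) :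
    ⁅a, b⁆ = 1 := by
  have hmem : ∀ t, f0 m t ∈ (tw hK).X' (simp' 0) := fun t => (mem_X'0 hK).2 ⟨t, rfl⟩
  choose L hL using fun t : F => hrange (X'_le_Gt _ (hmem t))
  letI : CommGroup π.ker :=
    { (inferInstance : Group π.ker) with
      mul_comm := fun x y => Subtype.ext (Subgroup.mem_center_iff.1 (hz y.2) (x : E)) }
  have cen : ∀ {z : E}, π z = 1 → ∀ g, g * z = z * g := fun e g => Subgroup.mem_center_iff.1 (hz e) g
  have hk : ∀ t t', π ⁅L t, L t'⁆ = 1 := fun t t' => by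
    rw [map_commutatorElement, hL, hL, commutatorElement_eq_one_iff_mul_comm, f0_mul, f0_mul, add_comm]
  let β : F → F → π.ker := fun t t' => ⟨⁅L t, L t'⁆, hk t t'⟩
  obtain ⟨t, et⟩ := (mem_X'0 hK).1 ha
  obtain ⟨t', et'⟩ := (mem_X'0 hK).1 hb
  rw [Schur.commutatorElement_congr hz (show π a = π (L t) by rw [hL, et])
    (show π b = π (L t') by rw [hL, et'])]
  obtain ⟨h1, h4, h9⟩ : ¬ (Fintype.card F).Prime ∧ Fintype.card F ≠ 4 ∧ Fintype.card F ≠ 9 := by
    rw [hK]
    refine ⟨Nat.Prime.not_prime_pow (by omega), fun h => ?_, fun h => ?_⟩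
    · have := Nat.pow_right_injective le_rfl (h.trans (by norm_num : 4 = 2 ^ 2)); omega
    · have : 2 ∣ 2 ^ (2 * m + 1) := dvd_pow_self 2 (by omega)
      omega
  refine congrArg Subtype.val (S2117.pairing_trivial h1 h4 h9 β ?_ ?_ ?_ t t')
  · intro u u' v
    refine Subtype.ext ?_
    show ⁅L (u + u'), L v⁆ = ⁅L u, L v⁆ * ⁅L u', L v⁆
    rw [Schur.commutatorElement_congr hz (show π (L (u + u')) = π (L u * L u') by
      rw [map_mul, hL, hL, hL, f0_mul]) rfl]
    calc ⁅L u * L u', L v⁆ = L u * ⁅L u', L v⁆ * (L u)⁻¹ * ⁅L u, L v⁆ := by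
          simp only [commutatorElement_def]; group
      _ = _ := by rw [cen (hk u' v) (L u), mul_inv_cancel_right, cen (hk u v)]
  · intro u v v'
    refine Subtype.ext ?_
    show ⁅L u, L (v + v')⁆ = ⁅L u, L v⁆ * ⁅L u, L v'⁆
    rw [Schur.commutatorElement_congr hz rfl (show π (L (v + v')) = π (L v * L v') by
      rw [map_mul, hL, hL, hL, f0_mul])]
    calc ⁅L u, L v * L v'⁆ = ⁅L u, L v⁆ * (L v * ⁅L u, L v'⁆ * (L v)⁻¹) := by
          simp only [commutatorElement_def]; group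
      _ = _ := by rw [cen (hk _ _), mul_inv_cancel_right]
  · intro s u v hs
    obtain ⟨c, hc, hc24, -⟩ := exists_torus hK (Units.mk0 (s * s) (mul_ne_zero hs hs)) 1
    obtain ⟨h, hh⟩ := hrange hc.2
    have himg : ∀ w, π (L (s * s * w)) = π (h * L w * h⁻¹) := fun w => by
      rw [map_mul, map_mul, map_inv, hL, hL, hh, (conj_f hK hc).1, hc24, Units.val_mk0]
    refine Subtype.ext ?_
    show ⁅L (s * s * u), L (s * s * v)⁆ = ⁅L u, L v⁆
    rw [Schur.commutatorElement_congr hz (himg u) (himg v)]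
    calc ⁅h * L u * h⁻¹, h * L v * h⁻¹⁆ = h * ⁅L u, L v⁆ * h⁻¹ := by
          simp only [commutatorElement_def]; group
      _ = _ := by rw [cen (hk u v), mul_inv_cancel_right]

/-- Lifts of an element of the second simple class and of its derived group commute. -/
theorem comm_derived {a b : E} (ha : π a ∈ (tw hK).X' (simp' 1))
    (hb : π b ∈ ⁅(tw hK).X' (simp' 1), (tw hK).X' (simp' 1)⁆) : ⁅a, b⁆ = 1 := by
  have hc13 : ∀ x ∈ Xp hK 1, ∀ y ∈ Xp hK 3, Commute x y := fun x hx y hy =>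
    commute_gens hK (a := 1) (b := 3) (by decide) x hx.1 y hy.1
  have hc12 : ∀ x ∈ Xp hK 1, ∀ y ∈ Xp hK 2, Commute x y := fun x hx y hy =>
    commute_gens hK (a := 1) (b := 2) (by decide) x hx.1 y hy.1
  have hc23 : ∀ x ∈ Xp hK 2, ∀ y ∈ Xp hK 3, Commute x y := fun x hx y hy =>
    commute_gens hK (a := 2) (b := 3) (by decide) x hx.1 y hy.1
  obtain ⟨n3, hn3, hX3, -⟩ := transport hK (3 : Fin 8)
  have hab3 : ∀ x y, π x ∈ Xp hK 3 → π y ∈ Xp hK 3 → ⁅x, y⁆ = 1 := fun x y hx hy => by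
    have e : Xp hK 3 = ((tw hK).X' (simp' 0)).map (MulAut.conj n3).toMonoidHom := hX3
    rw [e] at hx hy
    exact comm_transport hK hrange hz hn3 (fun a b => comm_zero hK hrange hz hm) x y hx hy
  -- the commutators of the lifts of the places 1 and 4 commute with the lifts of the place 2
  have key : ∀ c x y : E, π c ∈ Xp hK 2 → π x ∈ Xp hK 1 → π y ∈ Xp hK 4 →
      c * ⁅x, y⁆ = ⁅x, y⁆ * c := by
    intro c x y hc hx hy
    have h1 : ⁅c, x⁆ = 1 := by
      rw [← inv_eq_one, commutatorElement_inv]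
      exact lift_pair_comm hK hrange hz hm (a := 1) (b := 2) (by decide) hc12 hx hc
    have hs : π ⁅c, y⁆ ∈ Xp hK 3 := by
      rw [map_commutatorElement]
      have := comm_p hK 2 4 (by omega) (by omega) _ hc _ hy
      refine (show V (Xp hK) 3 4 ≤ Xp hK 3 from iSup₂_le fun e he => ?_) this
      rw [show e = 3 by omega]
    have hW : π ⁅x, y⁆ ∈ V (Xp hK) 2 4 := by
      rw [map_commutatorElement]; exact comm_p hK 1 4 (by omega) (by omega) _ hx _ hy
    have h2 : ∀ s, π s ∈ Xp hK 3 → ⁅x, s⁆ = 1 := fun s hs =>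
      lift_pair_comm hK hrange hz hm (a := 1) (b := 3) (by decide) hc13 hx hs
    have h3 : ∀ s, π s ∈ Xp hK 3 → s * ⁅x, y⁆ = ⁅x, y⁆ * s := by
      intro s hs'
      let C : Subgroup (G F) := (Subgroup.centralizer ({s} : Set E)).map π
      have hle : V (Xp hK) 2 4 ≤ C := iSup₂_le fun e he v hv => by
        obtain ⟨w, rfl⟩ := hrange (Xp_le_Gt hK _ hv)
        refine Subgroup.mem_map_of_mem π (Subgroup.mem_centralizer_iff.2 ?_)
        intro z hz'
        rw [Set.mem_singleton_iff] at hz'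
        rw [hz']
        rcases (show e = 2 ∨ e = 3 by omega) with rfl | rfl
        · exact (commutatorElement_eq_one_iff_mul_comm.1
            (lift_pair_comm hK hrange hz hm (a := 2) (b := 3) (by decide) hc23 hv hs')).symm
        · exact commutatorElement_eq_one_iff_mul_comm.1 (hab3 s w hs' hv)
      obtain ⟨w, hcw, hw⟩ := hle hW
      have hk : w⁻¹ * ⁅x, y⁆ ∈ π.ker := by rw [MonoidHom.mem_ker, map_mul, map_inv, hw, inv_mul_cancel]
      have hc' := Subgroup.mem_center_iff.1 (hz hk) s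
      calc s * ⁅x, y⁆ = s * w * (w⁻¹ * ⁅x, y⁆) := by group
        _ = w * (s * (w⁻¹ * ⁅x, y⁆)) := by rw [Subgroup.mem_centralizer_iff.1 hcw s rfl, mul_assoc]
        _ = _ := by rw [hc']; group
    have e : c * ⁅x, y⁆ * c⁻¹ = ⁅x, y⁆ := by
      calc c * ⁅x, y⁆ * c⁻¹ = ⁅⁅c, x⁆ * x, ⁅c, y⁆ * y⁆ := by
            simp only [commutatorElement_def]; group
        _ = ⁅x, ⁅c, y⁆ * y⁆ := by rw [h1, one_mul]
        _ = ⁅x, ⁅c, y⁆⁆ * (⁅c, y⁆ * ⁅x, y⁆ * ⁅c, y⁆⁻¹) := by simp only [commutatorElement_def]; group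
        _ = _ := by rw [h2 _ hs, one_mul, h3 _ hs, mul_inv_cancel_right]
    conv_rhs => rw [← e]
    group
  -- the derived group of the place 2 is generated by these commutators
  obtain ⟨n2, hn2, hX2, hc2⟩ := transport hK (2 : Fin 8)
  let K : Subgroup (G F) := Subgroup.closure {g | ∃ x ∈ Xp hK 1, ∃ y ∈ Xp hK 4, g = ⁅x, y⁆}
  let N2 := (tw hK).data.nw (lw 2)
  have hnw : ∀ i, (tw hK).data.nw (lw i) = (gd F).nw (flatJ (lw i)) := fun i => by
    rw [OTwist.nw_data]; rfl
  have hmemP : ∀ (i : Fin 8) (z : G F), z ∈ (tw hK).X' (simp' (cls i.val)) →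
      (gd F).nw (flatJ (lw i.val)) * z * ((gd F).nw (flatJ (lw i.val)))⁻¹ ∈ Xp hK i.val := by
    intro i z hz'
    rw [← hnw]
    have := (Data.acts_nw (dax hK) (lw i.val) (simp' (cls i.val)) z).2 hz'
    rwa [wl_lw hK] at this
  have hKH : ∀ h ∈ (tw hK).data.H, ∀ y ∈ K, h * y * h⁻¹ ∈ K := fun h hh y hy => by
    refine (show K ≤ K.comap (MulAut.conj h).toMonoidHom from ?_) hy
    rw [Subgroup.closure_le]
    rintro _ ⟨x, hx, y, hy, rfl⟩
    refine Subgroup.subset_closure ⟨h * x * h⁻¹, conj_mem_Xp hK hh _ hx, h * y * h⁻¹,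
      conj_mem_Xp hK hh _ hy, ?_⟩
    show h * ⁅x, y⁆ * h⁻¹ = _
    simp only [commutatorElement_def]; group
  have hgenK : ∀ u, N2 * f1 m (0 : F) u * N2⁻¹ ∈ K := by
    have h := f1_zero_mem_of_invariant hK (K := K.comap (MulAut.conj N2).toMonoidHom) ?_ one_ne_zero ?_
    · exact h
    · intro h hh y hy
      show N2 * (h * y * h⁻¹) * N2⁻¹ ∈ K
      have := hKH _ (Data.N_conj_H (dax hK) (Data.nw_mem_N (lw 2)) hh) _
        (show N2 * y * N2⁻¹ ∈ K from hy)
      simpa [N2, mul_assoc] using this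
    · show N2 * f1 m (0 : F) 1 * N2⁻¹ ∈ K
      rw [show N2 = (gd F).nw (flatJ (lw 2)) from hnw 2, ← special_comm hK]
      exact Subgroup.subset_closure ⟨_, hmemP 1 _ ((mem_X'0 hK).2 ⟨1, rfl⟩), _,
        hmemP 4 _ ((mem_X'1 hK).2 ⟨1, 0, rfl⟩), rfl⟩
  have h2 : ∀ a b, π a ∈ Xp hK 2 → π b ∈ K → ⁅a, b⁆ = 1 := by
    intro c d hc hd
    have hle : K ≤ (Subgroup.centralizer ({c} : Set E)).map π := by
      rw [Subgroup.closure_le]
      rintro _ ⟨x, hx, y, hy, rfl⟩
      obtain ⟨x', rfl⟩ := hrange (Xp_le_Gt hK _ hx)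
      obtain ⟨y', rfl⟩ := hrange (Xp_le_Gt hK _ hy)
      refine ⟨⁅x', y'⁆, Subgroup.mem_centralizer_iff.2 ?_, map_commutatorElement π x' y'⟩
      rintro _ rfl
      exact key _ x' y' hc hx hy
    obtain ⟨w, hcw, hw⟩ := hle hd
    rw [Schur.commutatorElement_congr hz rfl hw.symm, commutatorElement_eq_one_iff_mul_comm]
    exact Subgroup.mem_centralizer_iff.1 hcw c rfl
  have hA : π (Function.invFun π N2 * a * (Function.invFun π N2)⁻¹) ∈ Xp hK 2 ∧
      π (Function.invFun π N2 * b * (Function.invFun π N2)⁻¹) ∈ K := by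
    have hN : π (Function.invFun π N2) = N2 :=
      Function.invFun_eq (hrange (Data.N_le_grp (dax hK) (Data.nw_mem_N (lw 2))))
    simp only [map_mul, map_inv, hN]
    refine ⟨?_, ?_⟩
    · rw [show N2 = (gd F).nw (flatJ (lw 2)) from hnw 2]
      exact hmemP 2 _ ha
    · obtain ⟨u, hu⟩ := (mem_derived_one hK hm).1 hb
      rw [hu]
      exact hgenK u
  have := h2 _ _ hA.1 hA.2
  set ñ := Function.invFun π N2
  calc ⁅a, b⁆ = ñ⁻¹ * ⁅ñ * a * ñ⁻¹, ñ * b * ñ⁻¹⁆ * ñ := by simp only [commutatorElement_def]; group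
    _ = 1 := by rw [this, mul_one, inv_mul_cancel]

end Cfsg.Agent.Twisted.F4
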