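/-
²F₄(q): the unipotent group lifts through every central extension.
-/
import Cfsg.Agent.Lib.Twisted.F4.StemTwo

set_option autoImplicit false

namespace Cfsg.Agent.Twisted.F4

open Cfsg.Lie Chev BNSetup
open Cfsg.Agent.RootBN Cfsg.Agent.RootBN.OTwist
open Cfsg.Agent.Schur.RootLift
open scoped commutatorElement

variable {F : Type*} [Field F] [CharP F 2] [Fintype F] {m : ℕ} (hK : Fintype.card F = 2 ^ (2 * m + 1))
  {E : Type*} [Group E] [Finite E] {π : E →* G F}
  (hrange : (tw hK).Gt ≤ π.range) (hz : π.ker ≤ Subgroup.center E) (hm : 1 ≤ m)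
include hK hrange hz hm

omit [Finite E] in
theorem exists_unit_ne : ∃ k : Fˣ, k ≠ 1 := by
  have := exists_separating hK hm (i := 0) (j := 1) (by decide)
  obtain ⟨c, hc, -, h⟩ := this
  exact ⟨_, h⟩

/-- Lifts of the simple classes, normalised by the torus. -/
theorem exists_simple_lift (j : Fin 2) : ∃ S : Subgroup E, IsLift π ((tw hK).X' (simp' j)) S ∧
    ∀ g, π g ∈ (tw hK).data.H → ∀ s ∈ S, g * s * g⁻¹ ∈ S := by
  obtain ⟨k, hk⟩ := exists_unit_ne hK hrange hz hm
  have hHcomm : ∀ {c : Nd → Fˣ} {g : E}, π g ∈ (tw hK).data.H →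
      π g * tG F c = tG F c * π g := fun {c g} hg => by
    obtain ⟨c', e⟩ := exists_tG hg.1
    rw [e]; exact commute_tG c' c
  fin_cases j
  · obtain ⟨c, hc, hc24, -⟩ := exists_torus hK k 1
    obtain ⟨h, hh⟩ := hrange hc.2
    haveI : Finite ↥((tw hK).X' (simp' 0)) := Finite.of_surjective
      (fun t : F => (⟨f0 m t, (mem_X'0 hK).2 ⟨t, rfl⟩⟩ : (tw hK).X' (simp' 0)))
      (fun ⟨y, hy⟩ => by obtain ⟨t, rfl⟩ := (mem_X'0 hK).1 hy; exact ⟨t, rfl⟩)
    obtain ⟨S, hS, -, hn⟩ := exists_lift π hz (X := (tw hK).X' (simp' 0)) (h := h)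
      ((X'_le_Gt _).trans hrange) bot_le isLift_bot
      (fun a b ha hb => Subgroup.mem_bot.2 (comm_zero hK hrange hz hm ha hb))
      (fun x hx => by rw [hh]; exact (dax hK).H_conj _ _ hc _ hx)
      (fun t ht => by rw [Subgroup.mem_bot.1 ht, mul_one, mul_inv_cancel]; exact Subgroup.one_mem _)
      (fun x hx hd => by
        obtain ⟨t, rfl⟩ := (mem_X'0 hK).1 hx
        rw [hh, Subgroup.mem_bot, commutatorElement_eq_one_iff_mul_comm] at hd
        have e : tG F c * f0 m t * (tG F c)⁻¹ = f0 m t := by rw [hd, mul_inv_cancel_right]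
        rw [(conj_f hK hc).1, hc24] at e
        have e' := f0_inj e
        rw [Subgroup.mem_bot, (mul_left_eq_self₀.1 e').resolve_left (fun h => hk (Units.ext h)), f0_zero])
    refine ⟨S, hS, fun g hg => hn g (fun x hx => (dax hK).H_conj _ _ hg _ hx)
      (fun t ht => ?_) (by rw [hh]; exact hHcomm hg)⟩
    rw [Subgroup.mem_bot.1 ht, mul_one, mul_inv_cancel]; exact Subgroup.one_mem _
  · obtain ⟨c, hc, -, hc25⟩ := exists_torus hK 1 k
    obtain ⟨h, hh⟩ := hrange hc.2
    haveI hfin : Finite ↥((tw hK).X' (simp' 1)) := Finite.of_surjective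
      (fun t : F × F => (⟨f1 m t.1 t.2, (mem_X'1 hK).2 ⟨_, _, rfl⟩⟩ : (tw hK).X' (simp' 1)))
      (fun ⟨y, hy⟩ => by obtain ⟨t, u, rfl⟩ := (mem_X'1 hK).1 hy; exact ⟨(t, u), rfl⟩)
    set X := (tw hK).X' (simp' 1) with hX
    set D := ⁅X, X⁆ with hD
    have hDX : D ≤ X := Subgroup.commutator_le_self X
    haveI : Finite ↥D := Finite.of_injective _ (Subgroup.inclusion_injective hDX)
    have hXr : X ≤ π.range := (X'_le_Gt _).trans hrange
    have hconjX : ∀ {g : G F}, g ∈ (tw hK).data.H → ∀ x ∈ X, g * x * g⁻¹ ∈ X :=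
      fun hg x hx => (dax hK).H_conj _ _ hg _ hx
    have hconjD : ∀ {g : G F}, g ∈ (tw hK).data.H → ∀ x ∈ D, g * x * g⁻¹ ∈ D := fun {g} hg x hx => by
      have := Subgroup.mem_map_of_mem (MulAut.conj g).toMonoidHom hx
      rw [hD, Subgroup.map_commutator] at this
      exact Subgroup.commutator_mono (Subgroup.map_le_iff_le_comap.2 (hconjX hg))
        (Subgroup.map_le_iff_le_comap.2 (hconjX hg)) this
    have hcd : ∀ a b, π a ∈ X → π b ∈ D → ⁅a, b⁆ = 1 := fun a b ha hb =>
      comm_derived hK hrange hz hm ha hb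
    obtain ⟨T, hT, -, hTn⟩ := exists_lift π hz (X := D) (h := h)
      (hDX.trans hXr) bot_le isLift_bot
      (fun a b ha hb => Subgroup.mem_bot.2 (hcd a b (hDX ha) hb))
      (fun x hx => by rw [hh]; exact hconjD hc x hx)
      (fun t ht => by rw [Subgroup.mem_bot.1 ht, mul_one, mul_inv_cancel]; exact Subgroup.one_mem _)
      (fun x hx hd => by
        obtain ⟨u, rfl⟩ := (mem_derived_one hK hm).1 hx
        rw [hh, Subgroup.mem_bot, commutatorElement_eq_one_iff_mul_comm] at hd
        have e : tG F c * f1 m 0 u * (tG F c)⁻¹ = f1 m 0 u := by rw [hd, mul_inv_cancel_right]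
        rw [(conj_f hK hc).2, hc25] at e
        have e' := (f1_inj e).2
        rw [Subgroup.mem_bot, (mul_left_eq_self₀.1 e').resolve_left (fun h => hk ?_), f1_zero]
        have h' : k ^ (2 ^ m + 1) = 1 := Units.ext (by simpa using h)
        refine exponent_injective hK (a₁ := k) (a₂ := 1) ?_
        show k ^ (2 * 2 ^ m + 2) = 1 ^ (2 * 2 ^ m + 2)
        rw [one_pow, show 2 * 2 ^ m + 2 = (2 ^ m + 1) * 2 by ring, pow_mul, h', one_pow])
    have hTH : ∀ g, π g ∈ (tw hK).data.H → ∀ t ∈ T, g * t * g⁻¹ ∈ T := fun g hg =>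
      hTn g (hconjD hg) (fun t ht => by
        rw [Subgroup.mem_bot.1 ht, mul_one, mul_inv_cancel]; exact Subgroup.one_mem _)
        (by rw [hh]; exact hHcomm hg)
    have cen : ∀ {z : E}, π z = 1 → ∀ g, g * z = z * g := fun e g => Subgroup.mem_center_iff.1 (hz e) g
    have hTcomm : ∀ a t, π a ∈ X → t ∈ T → a * t = t * a := fun a t ha ht =>
      commutatorElement_eq_one_iff_mul_comm.1 (hcd a t ha (hT.map_mem ht))
    -- the error on the first coordinate
    choose L hL using fun t : F => hXr ((mem_X'1 hK).2 ⟨t, 0, rfl⟩)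
    have hLX : ∀ t, π (L t) ∈ X := fun t => (hL t).symm ▸ (mem_X'1 hK).2 ⟨t, 0, rfl⟩
    choose w hw hπw using fun t t' : F => hT.exists_mem (show π ⁅L t, L t'⁆ ∈ D from
      map_commutatorElement π (L t) (L t') ▸ Subgroup.commutator_mem_commutator (hLX t) (hLX t'))
    letI : CommGroup π.ker :=
      { (inferInstance : Group π.ker) with
        mul_comm := fun x y => Subtype.ext (Subgroup.mem_center_iff.1 (hz y.2) (x : E)) }
    have hker : ∀ t t', π (⁅L t, L t'⁆ * (w t t')⁻¹) = 1 := fun t t' => by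
      rw [map_mul, map_inv, hπw, mul_inv_cancel]
    let β : F → F → π.ker := fun t t' => ⟨⁅L t, L t'⁆ * (w t t')⁻¹, hker t t'⟩
    have hβ : ∀ t t', ⁅L t, L t'⁆ = (β t t' : E) * w t t' := fun t t' => by
      show _ = ⁅L t, L t'⁆ * (w t t')⁻¹ * w t t'
      group
    have cβ : ∀ t t' (g : E), g * (β t t' : E) = β t t' * g := fun t t' g => cen (hker t t') g
    have uniq : ∀ t t' (z : E) (v : E), π z = 1 → v ∈ T → ⁅L t, L t'⁆ = z * v → (β t t' : E) = z := by
      intro t t' z v hz' hv e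
      have e1 : (β t t' : E) * w t t' = z * v := (hβ t t').symm.trans e
      have e2 : w t t' = v := hT.inj (hw t t') hv (by
        have h := congrArg π e1
        rw [map_mul π ((β t t' : E)), map_mul π z, show π (β t t' : E) = 1 from hker t t', hz', one_mul,
          one_mul] at h
        exact h)
      rw [e2] at e1
      exact mul_right_cancel e1
    -- elements of the class
    have hdec : ∀ a, π a ∈ X → ∃ t, ∀ b, π b ∈ X → ⁅a, b⁆ = ⁅L t, b⁆ := by
      intro a ha
      obtain ⟨t, u, e⟩ := (mem_X'1 hK).1 ha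
      refine ⟨t, fun b hb => ?_⟩
      have hd : π ((L t)⁻¹ * a) ∈ D := by
        refine (mem_derived_one hK hm).2 ⟨u, ?_⟩
        rw [map_mul, map_inv, hL, e, inv_mul_eq_iff_eq_mul, f1_mul hK]
        simp
      have h1 : ((L t)⁻¹ * a) * b = b * ((L t)⁻¹ * a) :=
        (commutatorElement_eq_one_iff_mul_comm.1 (hcd b _ hb hd)).symm
      calc ⁅a, b⁆ = L t * (((L t)⁻¹ * a) * b * ((L t)⁻¹ * a)⁻¹) * (L t)⁻¹ * b⁻¹ := by
            simp only [commutatorElement_def]; group
        _ = ⁅L t, b⁆ := by rw [h1, mul_inv_cancel_right]; rfl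
    have hdec' : ∀ (t : F) b (t' : F) (u : F), π b = f1 m t' u → ⁅L t, b⁆ = ⁅L t, L t'⁆ := by
      intro t b t' u e
      obtain ⟨s, hs⟩ := hdec b (e ▸ (mem_X'1 hK).2 ⟨t', u, rfl⟩)
      have hb : π b ∈ X := e ▸ (mem_X'1 hK).2 ⟨t', u, rfl⟩
      have hd : π ((L t')⁻¹ * b) ∈ D := by
        refine (mem_derived_one hK hm).2 ⟨u, ?_⟩
        rw [map_mul, map_inv, hL, e, inv_mul_eq_iff_eq_mul, f1_mul hK]
        simp
      have h1 := commutatorElement_eq_one_iff_mul_comm.1 (hcd (L t) _ (hLX t) hd)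
      calc ⁅L t, b⁆ = L t * L t' * ((L t')⁻¹ * b) * (L t)⁻¹ * b⁻¹ := by
            simp only [commutatorElement_def]; group
        _ = L t * L t' * ((L t)⁻¹ * (L t * ((L t')⁻¹ * b))) * (L t)⁻¹ * b⁻¹ := by group
        _ = L t * L t' * ((L t)⁻¹ * (((L t')⁻¹ * b) * L t)) * (L t)⁻¹ * b⁻¹ := by rw [h1]
        _ = ⁅L t, L t'⁆ := by simp only [commutatorElement_def]; group
    obtain ⟨n1, n4, n9⟩ : ¬ (Fintype.card F).Prime ∧ Fintype.card F ≠ 4 ∧ Fintype.card F ≠ 9 := by
      rw [hK]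
      refine ⟨Nat.Prime.not_prime_pow (by omega), fun h => ?_, fun h => ?_⟩
      · have := Nat.pow_right_injective le_rfl (h.trans (by norm_num : 4 = 2 ^ 2)); omega
      · have : 2 ∣ 2 ^ (2 * m + 1) := dvd_pow_self 2 (by omega)
        omega
    have hzero : ∀ t t', β t t' = 1 := by
      refine S2117.pairing_trivial n1 n4 n9 β ?_ ?_ ?_
      · intro u u' v
        refine Subtype.ext (uniq _ _ _ (w u' v * w u v) ?_ (mul_mem (hw u' v) (hw u v)) ?_)
        · rw [Subgroup.coe_mul, map_mul]; simp only [β, hker, one_mul]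
        · obtain ⟨s, hs⟩ := hdec (L u * L u') (by rw [map_mul]; exact X.mul_mem (hLX u) (hLX u'))
          have hsum : ⁅L (u + u'), L v⁆ = ⁅L u * L u', L v⁆ := by
            have e : π (L u * L u') = f1 m (u + u') (u ^ 2 ^ m * u') := by
              rw [map_mul, hL, hL, f1_mul hK]; simp
            rw [← inv_inj, commutatorElement_inv, commutatorElement_inv,
              hdec' v (L u * L u') (u + u') _ e]
          rw [hsum]
          calc ⁅L u * L u', L v⁆ = L u * ⁅L u', L v⁆ * (L u)⁻¹ * ⁅L u, L v⁆ := by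
                simp only [commutatorElement_def]; group
            _ = (L u * (β u' v : E)) * (w u' v * (L u)⁻¹) * ((β u v : E) * w u v) := by
                rw [hβ, hβ]; group
            _ = (β u' v : E) * (L u * w u' v) * (L u)⁻¹ * ((β u v : E) * w u v) := by
                rw [cβ u' v]; group
            _ = ((β u' v : E) * (w u' v * (β u v : E))) * w u v := by
                rw [hTcomm _ _ (hLX u) (hw u' v)]; group
            _ = (β u' v : E) * (β u v : E) * (w u' v * w u v) := by rw [cβ u v]; group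
            _ = _ := by rw [cβ u v (β u' v : E), Subgroup.coe_mul]
      · intro u v v'
        refine Subtype.ext (uniq _ _ _ (w u v * w u v') ?_ (mul_mem (hw u v) (hw u v')) ?_)
        · rw [Subgroup.coe_mul, map_mul]; simp only [β, hker, one_mul]
        · have e : π (L v * L v') = f1 m (v + v') (v ^ 2 ^ m * v') := by
            rw [map_mul, hL, hL, f1_mul hK]; simp
          rw [← hdec' u (L v * L v') (v + v') _ e]
          calc ⁅L u, L v * L v'⁆ = ⁅L u, L v⁆ * (L v * ⁅L u, L v'⁆ * (L v)⁻¹) := by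
                simp only [commutatorElement_def]; group
            _ = (β u v : E) * w u v * ((L v * (β u v' : E)) * (w u v' * (L v)⁻¹)) := by
                rw [hβ, hβ]; group
            _ = (β u v : E) * (w u v * (β u v' : E)) * ((L v * w u v') * (L v)⁻¹) := by
                rw [cβ u v']; group
            _ = (β u v : E) * (β u v' : E) * (w u v * w u v') := by
                rw [hTcomm _ _ (hLX v) (hw u v'), cβ u v']; group
            _ = _ := by rw [Subgroup.coe_mul]
      · intro s u v hs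
        obtain ⟨c', hc', -, hc'25⟩ := exists_torus hK 1 (Units.mk0 (s * s) (mul_ne_zero hs hs))
        obtain ⟨g, hg⟩ := hrange hc'.2
        have himg : ∀ t, π (g * L t * g⁻¹) = f1 m (s * s * t) 0 := fun t => by
          rw [map_mul, map_mul, map_inv, hg, hL, (conj_f hK hc').2, hc'25, Units.val_mk0, mul_zero]
        refine Subtype.ext (uniq _ _ _ (g * w u v * g⁻¹) (hker u v)
          (hTH g (hg ▸ hc') _ (hw u v)) ?_)
        rw [Schur.commutatorElement_congr hz ((hL _).trans (himg u).symm) ((hL _).trans (himg v).symm)]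
        calc ⁅g * L u * g⁻¹, g * L v * g⁻¹⁆ = g * ⁅L u, L v⁆ * g⁻¹ := by
              simp only [commutatorElement_def]; group
          _ = (g * (β u v : E)) * (w u v * g⁻¹) := by rw [hβ]; group
          _ = _ := by rw [cβ u v]; group
    obtain ⟨S, hS, -, hn⟩ := exists_lift π hz (X := X) (h := h) hXr hDX hT
      (fun a b ha hb => by
        obtain ⟨t, ht⟩ := hdec a ha
        obtain ⟨t', u', e⟩ := (mem_X'1 hK).1 hb
        rw [ht b hb, hdec' t b t' u' e, hβ, hzero, Subgroup.coe_one, one_mul]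
        exact hw t t')
      (fun x hx => by rw [hh]; exact hconjX hc x hx)
      (hTH h (hh ▸ hc))
      (fun x hx hd => ((simple_action hK hm 1 hc).2 (by
          show torusChar chevF4 c 25 ≠ 1
          rw [hc25]; exact hk)).1 x hx (hh ▸ hd))
    exact ⟨S, hS, fun g hg => hn g (hconjX hg) (hTH g hg) (by rw [hh]; exact hHcomm hg)⟩

/-- The unipotent group lifts. -/
theorem exists_lift_U : ∃ S : Subgroup E, IsLift π (tw hK).data.U S := by
  choose S₀ hS₀ hn₀ using exists_simple_lift hK hrange hz hm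
  choose n hn hX htr using transport hK
  choose ν hν using fun i => hrange (Data.N_le_grp (dax hK) (hn i))
  let S : ℕ → Subgroup E := fun i => if h : i < 8 then
    (S₀ (cls i)).map (MulAut.conj (ν ⟨i, h⟩)).toMonoidHom else ⊥
  have hS : ∀ a < 8, IsLift π (Xp hK a) (S a) := by
    intro a ha
    have e : Xp hK a = ((tw hK).X' (simp' (cls a))).map (MulAut.conj (n ⟨a, ha⟩)).toMonoidHom := hX ⟨a, ha⟩
    simp only [S, dif_pos ha]
    refine ⟨?_, ?_⟩
    · rw [e, ← (hS₀ (cls a)).map_eq, Subgroup.map_map, Subgroup.map_map]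
      congr 1
      ext x
      simp [hν]
    · rw [eq_bot_iff]
      rintro _ ⟨⟨s, hs, rfl⟩, hk⟩
      have hk' : π (ν ⟨a, ha⟩ * s * (ν ⟨a, ha⟩)⁻¹) = 1 := hk
      rw [map_mul, map_mul, map_inv, conj_eq_one_iff] at hk'
      rw [(hS₀ _).eq_one hs hk', map_one]
      exact Subgroup.one_mem _
  have hHh : ∀ g ∈ {g : E | π g ∈ (tw hK).data.H}, ∀ a < 8, ∀ s ∈ S a, g * s * g⁻¹ ∈ S a := by
    intro g hg a ha s hs
    simp only [S, dif_pos ha] at hs ⊢
    obtain ⟨s₀, hs₀, rfl⟩ := hs
    set v := ν ⟨a, ha⟩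
    refine ⟨(v⁻¹ * g * v) * s₀ * (v⁻¹ * g * v)⁻¹, hn₀ _ _ ?_ _ hs₀, ?_⟩
    · show π (v⁻¹ * g * v) ∈ (tw hK).data.H
      rw [map_mul, map_mul, map_inv, hν]
      have := Data.N_conj_H (dax hK) ((tw hK).data.N.inv_mem (hn ⟨a, ha⟩)) hg
      rwa [inv_inv] at this
    · show v * (v⁻¹ * g * v * s₀ * (v⁻¹ * g * v)⁻¹) * v⁻¹ = g * (v * s₀ * v⁻¹) * g⁻¹
      group
  refine ⟨V S 0 8, V_eq_U hK ▸ interval_lift hz (Xp hK) S {g : E | π g ∈ (tw hK).data.H} hS hHh
    (comm_p hK) (fun a b h1 h2 => disjoint_p hK h1 h2) fun a b hab hb => ?_⟩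
  obtain ⟨c, hc, h1, h2⟩ := exists_separating hK hm (i := ⟨a, by omega⟩) (j := ⟨b, hb⟩) (by
    intro e; simp at e; omega)
  obtain ⟨g, hg⟩ := hrange hc.2
  refine ⟨g, show π g ∈ (tw hK).data.H from hg ▸ hc, ?_, ?_⟩
  · rw [hg]; exact (class_action hK hm ⟨a, by omega⟩ hc).1 h1
  · rw [hg]; exact ((class_action hK hm ⟨b, hb⟩ hc).2 h2).2

end Cfsg.Agent.Twisted.F4
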