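/-
²F₄(q): stem extensions are trivial.
-/
import Cfsg.Agent.Lib.Twisted.F4.StemSplit
import Cfsg.Agent.Lib.Twisted.F4.StemOdd
import Cfsg.Agent.Lib.Twisted.F4.Structure

set_option autoImplicit false
set_option linter.style.haveILetI false

namespace Cfsg.Agent.Twisted.F4

open Cfsg.Lie Chev BNSetup
open Cfsg.Agent.RootBN Cfsg.Agent.RootBN.OTwist
open scoped commutatorElement

variable {F : Type*} [Field F] [CharP F 2] [Fintype F] {m : ℕ} (hK : Fintype.card F = 2 ^ (2 * m + 1))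
include hK

theorem isPGroup_U : IsPGroup 2 (tw hK).data.U :=
  IsPGroup.of_card (n := (2 * m + 1) * 12) (by rw [card_U hK, hK, ← pow_mul])

theorem card_Gt_eq : ∃ c, Odd c ∧ Nat.card (tw hK).Gt = Fintype.card F ^ 12 * c := by
  refine ⟨(Fintype.card F - 1) * (Fintype.card F ^ 3 + 1) * (Fintype.card F ^ 4 - 1) *
    (Fintype.card F ^ 6 + 1), ?_, ?_⟩
  · have hev : Even (Fintype.card F) := by rw [hK]; exact Nat.even_pow.2 ⟨even_two, by omega⟩
    have hpos : 1 ≤ Fintype.card F := Fintype.card_pos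
    refine Nat.odd_mul.2 ⟨Nat.odd_mul.2 ⟨Nat.odd_mul.2 ⟨?_, ?_⟩, ?_⟩, ?_⟩
    · exact Nat.Even.sub_odd hpos hev odd_one
    · exact (hev.pow_of_ne_zero (by norm_num)).add_one
    · exact Nat.Even.sub_odd (Nat.one_le_pow _ _ hpos) (hev.pow_of_ne_zero (by norm_num)) odd_one
    · exact (hev.pow_of_ne_zero (by norm_num)).add_one
  · rw [Nat.card_congr (equivTwisted hK).toEquiv, card_twisted' hK]
    simp only [mul_assoc]

variable (hm : 1 ≤ m) {E : Type*} [Group E] [Finite E] {π : E →* G F} (hπ : π.range = (tw hK).Gt)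
  (hz : π.ker ≤ Subgroup.center E) (hc : π.ker ≤ commutator E)
include hm hπ hz hc

theorem ker_eq_bot_two (hker : ∀ z ∈ π.ker, z ^ 2 = 1) : π.ker = ⊥ := by
  classical
  obtain ⟨S, hS⟩ := exists_lift_U hK (le_of_eq hπ.symm) hz hm
  let σ : E →* ↥(tw hK).Gt := π.codRestrict _ fun x => hπ ▸ ⟨x, rfl⟩
  have hσ : Function.Surjective σ := fun ⟨y, hy⟩ => by
    obtain ⟨x, rfl⟩ : y ∈ π.range := hπ.symm ▸ hy
    exact ⟨x, rfl⟩
  have hk : σ.ker = π.ker := MonoidHom.ker_codRestrict π _ _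
  rw [← hk] at hz hc ⊢
  refine Schur.ker_eq_bot_of_sylow σ hz hc fun p hp => ?_
  haveI := Fact.mk hp
  by_cases hp2 : p = 2
  · subst hp2
    have hUle : (tw hK).data.U ≤ (tw hK).Gt := fun u hu => by
      rw [← hπ]
      obtain ⟨s, -, rfl⟩ := hS.map_eq.ge hu
      exact ⟨s, rfl⟩
    let U := (tw hK).data.U.subgroupOf (tw hK).Gt
    have hUp : IsPGroup 2 U := (isPGroup_U hK).of_equiv (Subgroup.subgroupOfEquivOfLe hUle).symm
    have hidx : ¬ 2 ∣ U.index := by
      obtain ⟨c, hc', e⟩ := card_Gt_eq hK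
      have h := Subgroup.card_mul_index U
      rw [Nat.card_congr (Subgroup.subgroupOfEquivOfLe hUle).toEquiv, card_U hK, e] at h
      rw [Nat.eq_of_mul_eq_mul_left (pow_pos Fintype.card_pos _) h]
      exact hc'.not_two_dvd_nat
    obtain ⟨P, hP⟩ := Schur.exists_sylow_map_eq σ hσ (hUp.toSylow hidx)
    refine ⟨P, eq_bot_iff.2 ?_⟩
    have hS' : ∀ x ∈ (P : Subgroup E), ∃ s ∈ S, σ s = σ x := fun x hx => by
      have : σ x ∈ U := by
        have h := Subgroup.mem_map_of_mem σ hx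
        rw [hP] at h
        exact h
      obtain ⟨s, hs, e⟩ := hS.map_eq.ge (this : π x ∈ (tw hK).data.U)
      exact ⟨s, hs, Subtype.ext e⟩
    have hle : ⁅(P : Subgroup E), (P : Subgroup E)⁆ ≤ S := by
      rw [Subgroup.commutator_le]
      intro x hx y hy
      obtain ⟨s, hs, es⟩ := hS' x hx
      obtain ⟨t, ht, et⟩ := hS' y hy
      rw [Schur.commutatorElement_congr hz es.symm et.symm, commutatorElement_def]
      exact S.mul_mem (S.mul_mem (S.mul_mem hs ht) (S.inv_mem hs)) (S.inv_mem ht)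
    rintro x ⟨h1, h2⟩
    exact Subgroup.mem_bot.2 (hS.eq_one (hle h1) (hk.le h2))
  · obtain ⟨P⟩ : Nonempty (Sylow p E) := inferInstance
    refine ⟨P, eq_bot_iff.2 ?_⟩
    rintro x ⟨h1, h2⟩
    obtain ⟨j, hj⟩ := P.2 ⟨x, Subgroup.commutator_le_self _ h1⟩
    have hj' : x ^ p ^ j = 1 := by simpa using congrArg Subtype.val hj
    have := pow_gcd_eq_one.2 ⟨hker x (hk.le h2), hj'⟩
    rwa [(Nat.Coprime.pow_right j ((Nat.coprime_primes Nat.prime_two hp).2 (Ne.symm hp2))).gcd_eq_one,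
      pow_one, ← Subgroup.mem_bot] at this

theorem ker_eq_bot_prime {r : ℕ} (hr : r.Prime) (hker : ∀ z ∈ π.ker, z ^ r = 1) : π.ker = ⊥ := by
  by_cases hr2 : r = 2
  · subst hr2; exact ker_eq_bot_two hK hm hπ hz hc hker
  haveI := Fact.mk hr
  haveI : Fact (Nat.Prime 2) := ⟨Nat.prime_two⟩
  have hodd : Odd r := hr.odd_of_ne_two hr2
  exact Schur.RootExt.ker_eq_bot (dax hK) hπ hz hc hr2 hker (isPGroup_U hK)
    (disjoint_iff.1 (Subgroup.disjoint_of_coprime_natCard (by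
      rw [card_U hK, hK, ← pow_mul]
      exact Nat.Coprime.pow_left _ (Nat.coprime_two_left.2 (odd_card_H hK)))))
    (fun j => nn'_mem_Lv hK j) (fun j L hL hgen => rank_split hK hm hz hodd hker j L hL hgen)
    (rank_inter hK)

/-- Every stem extension is trivial. -/
theorem ker_eq_bot : π.ker = ⊥ := by
  classical
  by_contra hne
  obtain ⟨r, hr, hdvd⟩ := Nat.exists_prime_and_dvd
    (fun h1 : Nat.card π.ker = 1 => hne (Subgroup.eq_bot_of_card_eq _ h1))
  haveI := Fact.mk hr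
  obtain ⟨w, hw⟩ := exists_prime_orderOf_dvd_card' r hdvd
  have hcomm : ∀ a ∈ π.ker, ∀ b : E, Commute a b := fun a ha b => (Subgroup.mem_center_iff.1 (hz ha) b).symm
  let N : Subgroup E :=
    { carrier := {x | ∃ z ∈ π.ker, x = z ^ r}
      one_mem' := ⟨1, Subgroup.one_mem _, (one_pow r).symm⟩
      mul_mem' := by
        rintro _ _ ⟨a, ha, rfl⟩ ⟨b, hb, rfl⟩
        exact ⟨a * b, Subgroup.mul_mem _ ha hb, ((hcomm a ha b).mul_pow r).symm⟩
      inv_mem' := by
        rintro _ ⟨a, ha, rfl⟩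
        exact ⟨a⁻¹, Subgroup.inv_mem _ ha, (inv_pow a r).symm⟩ }
  have hNker : N ≤ π.ker := fun _ ⟨a, ha, e⟩ => e ▸ Subgroup.pow_mem _ ha r
  haveI : N.Normal := ⟨fun n hn g => by
    rwa [Subgroup.mem_center_iff.1 (hz (hNker hn)) g, mul_inv_cancel_right]⟩
  let π' : E ⧸ N →* G F := QuotientGroup.lift N π hNker
  have hker' : ∀ z ∈ π'.ker, ∃ a ∈ π.ker, z = QuotientGroup.mk a := by
    intro z hz'
    obtain ⟨a, rfl⟩ := QuotientGroup.mk_surjective z
    exact ⟨a, hz', rfl⟩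
  have h' : π'.ker = ⊥ := by
    refine ker_eq_bot_prime hK hm ?_ ?_ ?_ hr ?_
    · rw [← hπ]
      exact le_antisymm (fun y ⟨x, hx⟩ => by
        obtain ⟨a, rfl⟩ := QuotientGroup.mk_surjective x
        exact ⟨a, hx⟩) fun y ⟨x, hx⟩ => ⟨QuotientGroup.mk x, hx⟩
    · intro z hz'
      obtain ⟨a, ha, rfl⟩ := hker' z hz'
      refine Subgroup.mem_center_iff.2 fun g => ?_
      obtain ⟨b, rfl⟩ := QuotientGroup.mk_surjective g
      rw [← QuotientGroup.mk_mul, ← QuotientGroup.mk_mul, (hcomm a ha b).eq]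
    · intro z hz'
      obtain ⟨a, ha, rfl⟩ := hker' z hz'
      have hle : commutator E ≤ (commutator (E ⧸ N)).comap (QuotientGroup.mk' N) := by
        rw [← Subgroup.map_le_iff_le_comap, map_commutator_eq, commutator_def]
        exact Subgroup.commutator_mono le_top le_top
      exact hle (hc ha)
    · intro z hz'
      obtain ⟨a, ha, rfl⟩ := hker' z hz'
      rw [← QuotientGroup.mk_pow, QuotientGroup.eq_one_iff]
      exact ⟨a, ha, rfl⟩
  have hsurj : Function.Surjective fun z : π.ker => z ^ r := by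
    rintro ⟨a, ha⟩
    obtain ⟨b, hb, e⟩ : a ∈ N := by
      rw [← QuotientGroup.eq_one_iff, ← Subgroup.mem_bot, ← h']
      exact ha
    exact ⟨⟨b, hb⟩, Subtype.ext e.symm⟩
  have hinj := Finite.injective_iff_surjective.2 hsurj
  have h1 : w = 1 := hinj (show w ^ r = (1 : π.ker) ^ r by rw [one_pow, ← hw, pow_orderOf_eq_one])
  rw [h1, orderOf_one] at hw
  exact hr.ne_one hw.symm

end Cfsg.Agent.Twisted.F4
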